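import Cfsg.Agent.Lib.Dickson.CentralizerCard
import Cfsg.Agent.Lib.Dickson.Maximal.Conj

/-!
# Involutions of `PSL(2, q)`, `q` odd
-/

set_option autoImplicit false
set_option linter.unusedSectionVars false

open Matrix
open scoped MatrixGroups

namespace Cfsg.Lib.Dickson

variable {F : Type*} [Field F] [Fintype F]

local notation "SL2" => Matrix.SpecialLinearGroup (Fin 2) F
local notation "PSL2" => Matrix.ProjectiveSpecialLinearGroup (Fin 2) F

/-- The standard element of trace zero. -/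
def stdInvol (F : Type*) [Field F] : SL2 := ⟨!![0, -1; 1, 0], by simp [Matrix.det_fin_two_of]⟩

theorem exists_conj_stdInvol (h2 : Fintype.card F % 2 = 1) {x : PSL2} (hx : x ^ 2 = 1) (hx1 : x ≠ 1) :
    ∃ c : PSL2, c⁻¹ * x * c = QuotientGroup.mk (stdInvol F) := by
  classical
  obtain ⟨g, rfl⟩ := QuotientGroup.mk_surjective x
  have h20 := two_ne_zero_of_odd (F := F) h2
  have ht := trace_zero_of_involution h20 hx hx1
  have hd := g.2
  rw [Matrix.det_fin_two] at hd
  -- the form `det (v, g v)` takes the value one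
  obtain ⟨u, w, huw⟩ : ∃ u w : F, g 1 0 * u ^ 2 - 2 * g 0 0 * u * w - g 0 1 * w ^ 2 = 1 := by
    by_cases h10 : g 1 0 = 0
    · have h00 : g 0 0 ≠ 0 := fun h => by
        rw [h, h10] at hd
        simp at hd
      refine ⟨(-1 - g 0 1) / (2 * g 0 0), 1, ?_⟩
      rw [h10]
      field_simp
      ring
    · obtain ⟨a, b, hab⟩ := FiniteField.exists_root_sum_quadratic (R := F) (f := Polynomial.X ^ 2)
        (g := Polynomial.X ^ 2 - Polynomial.C (g 1 0)) (Polynomial.degree_X_pow 2)
        (Polynomial.degree_X_pow_sub_C (by norm_num) _) h2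
      simp at hab
      refine ⟨(a + g 0 0 * b) / g 1 0, b, mul_left_cancel₀ h10 ?_⟩
      have e : g 1 0 * ((a + g 0 0 * b) / g 1 0) = a + g 0 0 * b := mul_div_cancel₀ _ h10
      linear_combination (g 1 0 * ((a + g 0 0 * b) / g 1 0) - 2 * g 0 0 * b + (a + g 0 0 * b)) * e + hab -
        b ^ 2 * (g 0 0 * ht) + b ^ 2 * hd
  let c : SL2 := ⟨!![u, g 0 0 * u + g 0 1 * w; w, g 1 0 * u + g 1 1 * w], by
    rw [Matrix.det_fin_two_of]; linear_combination huw + (u * w) * ht⟩
  refine ⟨QuotientGroup.mk c, ?_⟩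
  have hgc : g * c = c * stdInvol F := by
    apply Subtype.ext
    show g.1 * c.1 = c.1 * !![0, -1; 1, 0]
    ext i j
    fin_cases i <;> fin_cases j <;> simp [c, Matrix.mul_apply, Fin.sum_univ_two]
    · linear_combination (g 0 0 * u + g 0 1 * w) * ht - u * hd
    · linear_combination (g 1 1 * w + g 1 0 * u) * ht - w * hd
  rw [mul_assoc, ← QuotientGroup.mk_mul, hgc, QuotientGroup.mk_mul, inv_mul_cancel_left]

theorem exists_conj_involution (h2 : Fintype.card F % 2 = 1) {x y : PSL2} (hx : x ^ 2 = 1) (hx1 : x ≠ 1)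
    (hy : y ^ 2 = 1) (hy1 : y ≠ 1) : ∃ c : PSL2, c⁻¹ * x * c = y := by
  obtain ⟨a, ha⟩ := exists_conj_stdInvol h2 hx hx1
  obtain ⟨b, hb⟩ := exists_conj_stdInvol h2 hy hy1
  refine ⟨a * b⁻¹, ?_⟩
  calc (a * b⁻¹)⁻¹ * x * (a * b⁻¹) = b * (a⁻¹ * x * a) * b⁻¹ := by group
    _ = y := by rw [ha, ← hb]; group

theorem card_centralizer_conj {G : Type*} [Group G] (c x : G) :
    Nat.card (Subgroup.centralizer ({c⁻¹ * x * c} : Set G)) = Nat.card (Subgroup.centralizer ({x} : Set G)) := by
  refine Nat.card_congr ((MulAut.conj c).toEquiv.subtypeEquiv fun a => ?_)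
  simp only [Subgroup.mem_centralizer_singleton_iff, MulEquiv.toEquiv_eq_coe, EquivLike.coe_coe, MulAut.conj_apply]
  constructor
  · intro h
    calc c * a * c⁻¹ * x = c * (a * (c⁻¹ * x * c)) * c⁻¹ := by group
      _ = x * (c * a * c⁻¹) := by rw [h]; group
  · intro h
    calc a * (c⁻¹ * x * c) = c⁻¹ * (c * a * c⁻¹ * x) * c := by group
      _ = c⁻¹ * x * c * a := by rw [h]; group

/-- The centraliser of an involution, `q ≥ 7` odd. -/
theorem card_centralizer_involution (h2 : Fintype.card F % 2 = 1) (h7 : 7 ≤ Fintype.card F)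
    {x : PSL2} (hx : x ^ 2 = 1) (hx1 : x ≠ 1) :
    (Fintype.card F % 4 = 1 → Nat.card (Subgroup.centralizer ({x} : Set PSL2)) = Fintype.card F - 1) ∧
    (Fintype.card F % 4 = 3 → Nat.card (Subgroup.centralizer ({x} : Set PSL2)) = Fintype.card F + 1) := by
  obtain ⟨p, hpp, hp, n, hn0, hn⟩ := exists_char (F := F)
  haveI := Fact.mk hpp
  set q := Fintype.card F with hq
  have hpo : p % 2 = 1 := by
    rcases hpp.eq_two_or_odd with rfl | h
    · rw [hn, Nat.pow_mod, Nat.zero_pow hn0] at h2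
      simp at h2
    · exact h
  have hd : Nat.gcd 2 (q - 1) = 2 := Nat.gcd_eq_left (by omega)
  have hspec := Cfsg.Lib.Spec.psl_two_spectrum (F := F) p (by omega)
  rw [← hq, hd] at hspec
  have key : ∀ k o : ℕ, k % 2 = 0 → 4 ≤ k ∨ k = 4 → k.Coprime o → (q - 1) / 2 + (q + 1) / 2 = k + o →
      ((k = (q - 1) / 2 ∧ o = (q + 1) / 2) ∨ (k = (q + 1) / 2 ∧ o = (q - 1) / 2)) →
      Nat.card (Subgroup.centralizer ({x} : Set PSL2)) = 2 * k := by
    intro k o hk h4 hco _ hko
    obtain ⟨y, hy⟩ : k ∈ Set.range (orderOf : PSL2 → ℕ) := by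
      rw [hspec]
      rcases hko with ⟨rfl, -⟩ | ⟨rfl, -⟩
      · exact Or.inr (Or.inl dvd_rfl)
      · exact Or.inr (Or.inr dvd_rfl)
    have hk4 : 4 ≤ k := by omega
    have hpk : ¬ p ∣ k := by
      intro h
      have h1 : p ∣ q := hn ▸ dvd_pow_self p hn0.ne'
      rcases hko with ⟨rfl, -⟩ | ⟨rfl, -⟩
      · have := Nat.dvd_sub h1 (h.trans (Nat.div_dvd_of_dvd (show 2 ∣ q - 1 by omega)))
        rw [show q - (q - 1) = 1 by omega] at this
        exact hpp.not_dvd_one this
      · have := Nat.dvd_sub (h.trans (Nat.div_dvd_of_dvd (show 2 ∣ q + 1 by omega))) h1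
        rw [show q + 1 - q = 1 by omega] at this
        exact hpp.not_dvd_one this
    set z := y ^ (k / 2) with hz
    have hz2 : z ^ 2 = 1 := by
      rw [hz, ← pow_mul, Nat.div_mul_cancel (Nat.dvd_of_mod_eq_zero hk), ← hy, pow_orderOf_eq_one]
    have hz1 : z ≠ 1 := fun h => by
      have := Nat.le_of_dvd (by omega) (orderOf_dvd_of_pow_eq_one h)
      omega
    obtain ⟨c, hc⟩ := exists_conj_involution h2 hx hx1 hz2 hz1
    rw [← card_centralizer_conj c x, hc]
    set C := Subgroup.centralizer ({z} : Set PSL2)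
    have hyC : Subgroup.zpowers y ≤ C := Subgroup.zpowers_le.mpr
      (Subgroup.mem_centralizer_singleton_iff.mpr (by rw [hz]; exact (Commute.self_pow y _).eq))
    have hkC : k ∣ Nat.card C := by
      rw [← hy, ← Nat.card_zpowers]; exact Subgroup.card_dvd_of_le hyC
    -- an inverting element
    obtain ⟨g, rfl⟩ := QuotientGroup.mk_surjective y
    obtain ⟨w, hw, hwy⟩ := exists_inverting p g (fun h => hpk (by
      have h' := orderOf_dvd_of_pow_eq_one h
      rw [hy] at h'
      rcases (Nat.dvd_prime hpp).mp h' with h'' | h''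
      · omega
      · exact h''.symm ▸ dvd_rfl))
    have hwC : w ∈ C := Subgroup.mem_centralizer_singleton_iff.mpr (by
      have h1 : w * z * w⁻¹ = z := by
        rw [hz, ← conj_pow, hwy, inv_pow, ← hz, inv_eq_of_mul_eq_one_left (by rw [← sq, hz2])]
      calc w * z = w * z * w⁻¹ * w := by group
        _ = z * w := by rw [h1])
    have hlt : k < Nat.card C := by
      refine lt_of_le_of_ne (Nat.le_of_dvd Nat.card_pos hkC) fun h => ?_
      have he : Subgroup.zpowers (QuotientGroup.mk g : PSL2) = C :=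
        Subgroup.eq_of_le_of_card_ge hyC (by rw [Nat.card_zpowers, hy]; exact h.ge)
      obtain ⟨j, hj⟩ := Subgroup.mem_zpowers_iff.mp (he ▸ hwC)
      have h1 : w * (QuotientGroup.mk g : PSL2) * w⁻¹ = QuotientGroup.mk g := by
        rw [← hj, ((Commute.refl (QuotientGroup.mk g : PSL2)).zpow_left j).eq, mul_inv_cancel_right]
      rw [hwy] at h1
      have h2' : (QuotientGroup.mk g : PSL2) ^ 2 = 1 := by
        rw [sq]; nth_rewrite 1 [← h1]; exact inv_mul_cancel _
      have := Nat.le_of_dvd (by norm_num) (orderOf_dvd_of_pow_eq_one h2')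
      omega
    have hpz : ¬ p ∣ orderOf z := fun h => by
      have := (Nat.prime_dvd_prime_iff_eq hpp Nat.prime_two).mp (h.trans (orderOf_dvd_of_pow_eq_one hz2))
      omega
    obtain ⟨j, hj, hjC⟩ := centralizer_cases p hz1 hpz
    rw [← hq, hd] at hj
    obtain ⟨i, hi⟩ := hkC
    have hjko : j ∣ k ∨ j ∣ o := by
      rcases hko with ⟨h1, h2⟩ | ⟨h1, h2⟩ <;> rw [h1, h2]
      exacts [hj.symm, hj]
    have hC2 : Nat.card C ∣ 2 * j := by
      rcases hjC with h | ⟨-, h⟩ <;> rw [h]
      exact dvd_mul_left j 2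
    rcases hjko with hjk | hjo
    · have h1 := Nat.le_of_dvd (by omega) (hC2.trans (Nat.mul_dvd_mul_left 2 hjk))
      rcases Nat.lt_or_ge i 2 with hi2 | hi2
      · interval_cases i <;> omega
      · have : k * 2 ≤ k * i := Nat.mul_le_mul_left k hi2
        omega
    · exfalso
      have h1 : k ∣ 2 * o := (Dvd.intro i hi.symm).trans (hC2.trans (Nat.mul_dvd_mul_left 2 hjo))
      have := Nat.le_of_dvd (by norm_num) (hco.dvd_of_dvd_mul_right h1)
      omega
  constructor
  · intro h4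
    have := key ((q - 1) / 2) ((q + 1) / 2) (by omega) (by omega) (by
      rw [show (q + 1) / 2 = (q - 1) / 2 + 1 by omega]; simp) (by omega) (Or.inl ⟨rfl, rfl⟩)
    omega
  · intro h4
    have := key ((q + 1) / 2) ((q - 1) / 2) (by omega) (by omega) (by
      rw [show (q + 1) / 2 = (q - 1) / 2 + 1 by omega]; simp) (by omega) (Or.inr ⟨rfl, rfl⟩)
    omega

end Cfsg.Lib.Dickson
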