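import Mathlib
import Cfsg.Agent.Lib.OrderLeHundred

/-!
# Groups of order 12, 24 and 60 without a nontrivial cyclic normal subgroup
-/

set_option autoImplicit false
set_option linter.unusedSectionVars false

namespace Cfsg.Lib.Dickson

variable {G : Type*} [Group G] [Finite G]

theorem le_sylow_of_le_normalizer {r : ℕ} {Q : Subgroup G} (hQ : IsPGroup r Q) (P : Sylow r G)
    (h : Q ≤ Subgroup.normalizer (P : Set G)) : Q ≤ (P : Subgroup G) :=
  inf_eq_left.mp ((hQ.inf_normalizer_sylow P).symm.trans (inf_eq_left.mpr h))

/-- There is no nontrivial cyclic normal subgroup. -/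
def NoNormalCyclic (G : Type*) [Group G] : Prop :=
  ∀ N : Subgroup G, N.Normal → IsCyclic N → N = ⊥

theorem NoNormalCyclic.card_ne_prime (hG : NoNormalCyclic G) (N : Subgroup G) (hN : N.Normal) {r : ℕ}
    (hr : r.Prime) : Nat.card N ≠ r := by
  intro h
  haveI := Fact.mk hr
  have := hG N hN (isCyclic_of_prime_card h)
  rw [this, Subgroup.card_bot] at h
  exact hr.one_lt.ne h

theorem card_sylow_eq_prime {G : Type*} [Group G] [Finite G] {r : ℕ} [hr : Fact r.Prime] (Q : Sylow r G)
    (h1 : r ∣ Nat.card G) (h2 : ¬ r ^ 2 ∣ Nat.card G) : Nat.card (Q : Subgroup G) = r := by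
  obtain ⟨k, hk⟩ := IsPGroup.iff_card.mp Q.2
  have hd := Q.dvd_card_of_dvd_card h1
  have hg := Subgroup.card_subgroup_dvd_card (Q : Subgroup G)
  rw [hk] at hd hg ⊢
  rcases k with _ | _ | k
  · rw [pow_zero, Nat.dvd_one] at hd
    exact absurd hd hr.out.ne_one
  · exact pow_one r
  · exact absurd (dvd_trans (pow_dvd_pow r (by omega)) hg) h2

/-- Elements of prime order counted through the Sylow subgroups. -/
theorem mul_le_card_orderOf {G : Type*} [Group G] [Finite G] {r : ℕ} [hr : Fact r.Prime]
    (hQ : ∀ Q : Sylow r G, Nat.card (Q : Subgroup G) = r) :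
    Nat.card (Sylow r G) * (r - 1) ≤ Nat.card {y : G // orderOf y = r} := by
  classical
  haveI : Fintype G := Fintype.ofFinite _
  haveI : Fintype (Sylow r G) := Fintype.ofFinite _
  have hord : ∀ (Q : Sylow r G) (y : (Q : Subgroup G)), y ≠ 1 → orderOf (y : G) = r := by
    intro Q y hy
    rw [Subgroup.orderOf_coe]
    haveI : Fact (Nat.card (Q : Subgroup G)).Prime := ⟨by rw [hQ]; exact hr.out⟩
    have := orderOf_eq_prime (p := r) (x := y) ((congrArg (y ^ ·) (hQ Q).symm).trans pow_card_eq_one') hy
    exact this
  have hz : ∀ (R : Sylow r G) (y : G), y ∈ (R : Subgroup G) → orderOf y = r →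
      (R : Subgroup G) = Subgroup.zpowers y := by
    intro R y hy ho
    exact (Subgroup.eq_of_le_of_card_ge (Subgroup.zpowers_le.mpr hy)
      (le_of_eq (by rw [hQ, Nat.card_zpowers, ho]))).symm
  let f : (Σ Q : Sylow r G, {y : (Q : Subgroup G) // y ≠ 1}) → {y : G // orderOf y = r} :=
    fun z => ⟨(z.2.1 : G), hord z.1 z.2.1 z.2.2⟩
  have hf : Function.Injective f := by
    rintro ⟨Q, y⟩ ⟨Q', y'⟩ e
    have he : (y.1 : G) = y'.1 := congrArg Subtype.val e
    have hQ' : Q = Q' := Sylow.ext ((hz Q y.1 y.1.2 (hord Q y.1 y.2)).trans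
      (hz Q' y.1 (he ▸ y'.1.2) (hord Q y.1 y.2)).symm)
    subst hQ'
    exact Sigma.ext rfl (heq_of_eq (Subtype.ext (Subtype.ext he)))
  refine le_trans (le_of_eq ?_) (Nat.card_le_card_of_injective f hf)
  rw [Nat.card_sigma]
  have hQ1 : ∀ Q : Sylow r G, Nat.card {y : (Q : Subgroup G) // y ≠ 1} = r - 1 := by
    intro Q
    rw [Nat.card_eq_fintype_card, Fintype.card_subtype_compl, Fintype.card_subtype_eq,
      ← Nat.card_eq_fintype_card, hQ Q]
  simp only [hQ1, Finset.sum_const, smul_eq_mul, Finset.card_univ, ← Nat.card_eq_fintype_card]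

/-- The action on the Sylow `3`-subgroups. -/
theorem exists_hom_sylow_three (hG : NoNormalCyclic G) (h : Nat.card G = 12 ∨ Nat.card G = 24) :
    ∃ f : G →* Equiv.Perm (Fin 4), Function.Injective f := by
  haveI := Fact.mk Nat.prime_three
  obtain ⟨P⟩ : Nonempty (Sylow 3 G) := inferInstance
  have hPc : Nat.card (P : Subgroup G) = 3 := card_sylow_eq_prime P (by omega) (by norm_num; omega)
  have hn1 := card_sylow_modEq_one 3 G
  have hn2 : Nat.card (Sylow 3 G) ∣ (P : Subgroup G).index := P.card_dvd_index
  have hidx := Subgroup.card_mul_index (P : Subgroup G)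
  rw [hPc] at hidx
  have hn : Nat.card (Sylow 3 G) = 4 := by
    have hle := Nat.le_of_dvd (by omega) hn2
    have hne : Nat.card (Sylow 3 G) ≠ 1 := by
      intro h1
      have hsub : Subsingleton (Sylow 3 G) := (Nat.card_eq_one_iff_unique.mp h1).1
      haveI := P.normal_of_subsingleton
      exact hG.card_ne_prime _ inferInstance Nat.prime_three hPc
    rcases h with h | h
    · have : (P : Subgroup G).index = 4 := by omega
      rw [this] at hn2 hle
      unfold Nat.ModEq at hn1
      interval_cases hh : Nat.card (Sylow 3 G) <;> omega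
    · have : (P : Subgroup G).index = 8 := by omega
      rw [this] at hn2 hle
      unfold Nat.ModEq at hn1
      interval_cases hh : Nat.card (Sylow 3 G) <;> omega
  obtain ⟨e⟩ : Nonempty (Sylow 3 G ≃ Fin 4) := ⟨(Finite.equivFinOfCardEq hn)⟩
  refine ⟨e.permCongrHom.toMonoidHom.comp (MulAction.toPermHom G (Sylow 3 G)), ?_⟩
  refine e.permCongrHom.injective.comp ?_
  set K := (MulAction.toPermHom G (Sylow 3 G)).ker with hK
  rw [← MonoidHom.ker_eq_bot_iff, ← hK]
  have hKle : K ≤ Subgroup.normalizer (P : Set G) := by
    intro k hk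
    rw [← Sylow.smul_eq_iff_mem_normalizer]
    exact Equiv.ext_iff.mp hk P
  have hN : Nat.card (Subgroup.normalizer (P : Set G)) * 4 = Nat.card G := by
    rw [← hn, P.card_eq_index_normalizer, Subgroup.card_mul_index]
  have hKd := Subgroup.card_dvd_of_le hKle
  have hKpos : 0 < Nat.card K := Nat.card_pos
  -- the kernel has no element of order three
  have h3 : ¬ 3 ∣ Nat.card K := by
    intro hd
    obtain ⟨Q⟩ : Nonempty (Sylow 3 K) := inferInstance
    have hQ : Nat.card (Q : Subgroup K) = 3 := card_sylow_eq_prime Q hd fun h9 => by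
      have := h9.trans (Subgroup.card_subgroup_dvd_card K)
      norm_num at this
      omega
    have hQP : (Q : Subgroup K).map K.subtype ≤ (P : Subgroup G) := by
      refine le_sylow_of_le_normalizer (Q.2.map K.subtype) P ?_
      exact (Subgroup.map_subtype_le _).trans hKle
    have hQP' : (Q : Subgroup K).map K.subtype = (P : Subgroup G) :=
      Subgroup.eq_of_le_of_card_ge hQP (le_of_eq (by
        rw [hPc, ← Nat.card_congr (Subgroup.equivMapOfInjective _ _ K.subtype_injective).toEquiv, hQ]))
    have hPK : (P : Subgroup G) ≤ K := hQP' ▸ Subgroup.map_subtype_le _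
    have hall : ∀ g : G, g • P = P := by
      intro g
      have hgP : ((g • P : Sylow 3 G) : Subgroup G) ≤ Subgroup.normalizer (P : Set G) := by
        refine le_trans ?_ hKle
        intro x hx
        rw [Sylow.coe_subgroup_smul] at hx
        obtain ⟨y, hy, rfl⟩ := hx
        exact (MonoidHom.normal_ker _).conj_mem y (hPK hy) g
      exact Sylow.ext (Subgroup.eq_of_le_of_card_ge (le_sylow_of_le_normalizer (g • P).2 P hgP)
        (le_of_eq (by rw [hPc]; exact ((g • P).card_eq_multiplicity.trans (P.card_eq_multiplicity.symm.trans hPc)).symm)))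
    haveI : MulAction.IsPretransitive G (Sylow 3 G) := inferInstance
    have : Subsingleton (Sylow 3 G) := ⟨fun a b => by
      obtain ⟨g, rfl⟩ := MulAction.exists_smul_eq G P a
      obtain ⟨g', rfl⟩ := MulAction.exists_smul_eq G P b
      rw [hall, hall]⟩
    have := Nat.card_of_subsingleton P
    omega
  have hK6 : Nat.card K ∣ 6 := by
    rcases h with h | h
    · have : Nat.card (Subgroup.normalizer (P : Set G)) = 3 := by omega
      exact (this ▸ hKd).trans (by norm_num)
    · have : Nat.card (Subgroup.normalizer (P : Set G)) = 6 := by omega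
      exact this ▸ hKd
  have hle := Nat.le_of_dvd (by norm_num) hK6
  interval_cases hc : Nat.card K
  · exact Subgroup.eq_bot_of_card_eq K hc
  · exact absurd hc (hG.card_ne_prime K (MonoidHom.normal_ker _) Nat.prime_two)
  all_goals omega

theorem iso_alternating_four (hG : NoNormalCyclic G) (h : Nat.card G = 12) :
    Nonempty (G ≃* alternatingGroup (Fin 4)) := by
  obtain ⟨f, hf⟩ := exists_hom_sylow_three hG (Or.inl h)
  have hr : f.range = alternatingGroup (Fin 4) := by
    refine Equiv.Perm.eq_alternatingGroup_of_index_eq_two ?_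
    have h1 := Subgroup.card_mul_index f.range
    rw [← Nat.card_congr (MonoidHom.ofInjective hf).toEquiv, h, Nat.card_perm, Nat.card_fin] at h1
    norm_num [Nat.factorial] at h1
    omega
  exact ⟨(MonoidHom.ofInjective hf).trans (MulEquiv.subgroupCongr hr)⟩

theorem iso_perm_four (hG : NoNormalCyclic G) (h : Nat.card G = 24) :
    Nonempty (G ≃* Equiv.Perm (Fin 4)) := by
  obtain ⟨f, hf⟩ := exists_hom_sylow_three hG (Or.inr h)
  exact ⟨MulEquiv.ofBijective f ((Nat.bijective_iff_injective_and_card f).2
    ⟨hf, by rw [h, Nat.card_perm, Nat.card_fin]; rfl⟩)⟩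

/-- A group of order 60 without a nontrivial cyclic normal subgroup is simple. -/
theorem isSimpleGroup_of_card_sixty (hG : NoNormalCyclic G) (h : Nat.card G = 60) : IsSimpleGroup G := by
  haveI := Fact.mk (show Nat.Prime 5 by norm_num)
  haveI : Nontrivial G := Finite.one_lt_card_iff_nontrivial.mp (by omega)
  have hP : ∀ P : Sylow 5 G, Nat.card (P : Subgroup G) = 5 := fun P =>
    card_sylow_eq_prime P (by omega) (by norm_num; omega)
  obtain ⟨P⟩ : Nonempty (Sylow 5 G) := inferInstance
  have hn : Nat.card (Sylow 5 G) = 6 := by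
    have hn1 := card_sylow_modEq_one 5 G
    have hn2 := P.card_dvd_index
    have hidx := Subgroup.card_mul_index (P : Subgroup G)
    rw [hP P, h] at hidx
    have hi : (P : Subgroup G).index = 12 := by omega
    rw [hi] at hn2
    have hle := Nat.le_of_dvd (by omega) hn2
    have hne : Nat.card (Sylow 5 G) ≠ 1 := by
      intro h1
      haveI := (Nat.card_eq_one_iff_unique.mp h1).1
      haveI := P.normal_of_subsingleton
      exact hG.card_ne_prime _ inferInstance (by norm_num) (hP P)
    unfold Nat.ModEq at hn1
    interval_cases hh : Nat.card (Sylow 5 G) <;> omega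
  have hNP : ∀ P : Sylow 5 G, Nat.card (Subgroup.normalizer (P : Set G)) = 10 := by
    intro P
    have := Subgroup.card_mul_index (Subgroup.normalizer (P : Set G))
    rw [← P.card_eq_index_normalizer, hn, h] at this
    omega
  -- a subgroup of order at most five normalised by a Sylow subgroup has order at most two
  have small : ∀ R : Subgroup G, Nat.card R ≤ 4 → (P : Subgroup G) ≤ Subgroup.normalizer (R : Set G) →
      Nat.card R ∣ 10 := by
    intro R hR hle
    refine (Subgroup.card_dvd_of_le ?_).trans (dvd_of_eq (hNP P))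
    intro r hr
    rw [Subgroup.mem_set_normalizer_iff]
    intro x
    simp only [SetLike.mem_coe, Sylow.coe_coe]
    have key : ∀ y ∈ (P : Subgroup G), r * y = y * r := by
      intro y hy
      let act : MulAction (P : Subgroup G) R :=
        { smul := fun a b => ⟨(a : G) * b * (a : G)⁻¹, (Subgroup.mem_normalizer_iff.mp (hle a.2) b).mp b.2⟩
          one_smul := fun b => Subtype.ext (by change (1 : G) * b * (1 : G)⁻¹ = b; group)
          mul_smul := fun a c b => Subtype.ext (by
            change ((a * c : (P : Subgroup G)) : G) * b * ((a * c : (P : Subgroup G)) : G)⁻¹ =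
              (a : G) * ((c : G) * b * (c : G)⁻¹) * (a : G)⁻¹
            rw [Subgroup.coe_mul]; group) }
      letI := act
      have hfix : (⟨r, hr⟩ : R) ∈ MulAction.fixedPoints (P : Subgroup G) R := by
        obtain ⟨k, hk⟩ := P.2.card_orbit (⟨r, hr⟩ : R)
        rcases k with _ | k
        · rw [pow_zero] at hk
          intro a
          haveI := (Nat.card_eq_one_iff_unique.mp hk).1
          exact congrArg Subtype.val (Subsingleton.elim
            (⟨a • ⟨r, hr⟩, MulAction.mem_orbit _ a⟩ : MulAction.orbit (P : Subgroup G) (⟨r, hr⟩ : R))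
            ⟨_, MulAction.mem_orbit_self _⟩)
        · exfalso
          have h1 : Nat.card (MulAction.orbit (P : Subgroup G) (⟨r, hr⟩ : R)) ≤ Nat.card R :=
            Nat.card_le_card_of_injective _ Subtype.val_injective
          have h2 : 5 ≤ 5 ^ (k + 1) := Nat.le_self_pow (by omega) 5
          omega
      have e : y * r * y⁻¹ = r := congrArg Subtype.val (hfix ⟨y, hy⟩)
      calc r * y = y * r * y⁻¹ * y := by rw [e]
        _ = y * r := by group
    constructor
    · intro hx
      rw [key x hx]
      simpa using hx
    · intro hx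
      have h' := key _ hx
      rw [← mul_assoc, ← mul_assoc] at h'
      have : r * x = x * r := by
        have := congrArg (fun z => r⁻¹ * z * r) h'
        simpa [mul_assoc] using this
      rwa [this, mul_inv_cancel_right] at hx
  refine { eq_bot_or_eq_top_of_normal := fun N hN => ?_ }
  by_contra hcon
  push Not at hcon
  have hd := Subgroup.card_subgroup_dvd_card N
  rw [h] at hd
  have hne1 : Nat.card N ≠ 1 := fun e => hcon.1 (Subgroup.eq_bot_of_card_eq N e)
  have hne60 : Nat.card N ≠ 60 := fun e => hcon.2 (Subgroup.eq_top_of_card_eq N (e.trans h.symm))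
  have hPN : (P : Subgroup G) ≤ Subgroup.normalizer (N : Set G) := by
    rw [Subgroup.normalizer_eq_top]; exact le_top
  by_cases h5 : 5 ∣ Nat.card N
  · -- all Sylow subgroups lie in `N`
    have hall : ∀ Q : Sylow 5 G, (Q : Subgroup G) ≤ N := by
      obtain ⟨⟨c, hc⟩, hord⟩ := exists_prime_orderOf_dvd_card' (G := N) 5 h5
      rw [Subgroup.orderOf_mk] at hord
      have hp : IsPGroup 5 (Subgroup.zpowers c) :=
        IsPGroup.of_card (n := 1) (by rw [Nat.card_zpowers, hord, pow_one])
      obtain ⟨Q₀, hQ₀⟩ := hp.exists_le_sylow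
      have hQ₀N : (Q₀ : Subgroup G) ≤ N := by
        rw [← Subgroup.eq_of_le_of_card_ge hQ₀ (by rw [hP, Nat.card_zpowers, hord])]
        rwa [Subgroup.zpowers_le]
      intro Q
      obtain ⟨g, rfl⟩ := MulAction.exists_smul_eq G Q₀ Q
      rw [Sylow.coe_subgroup_smul]
      rintro _ ⟨y, hy, rfl⟩
      exact hN.conj_mem y (hQ₀N hy) g
    -- the elements of order five
    classical
    haveI := Fact.mk Nat.prime_three
    have hNQ : ∀ Q : Sylow 5 N, Nat.card (Q : Subgroup N) = 5 := fun Q =>
      card_sylow_eq_prime Q h5 fun h25 => by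
        have := h25.trans hd
        norm_num at this
    have hm : 6 ≤ Nat.card (Sylow 5 N) := by
      rw [← hn]
      refine Nat.card_le_card_of_injective (fun Q => Q.subtype (hall Q)) fun Q Q' e => ?_
      have e' : ((Q : Subgroup G).subgroupOf N) = (Q' : Subgroup G).subgroupOf N :=
        congrArg (fun R : Sylow 5 N => (R : Subgroup N)) e
      refine Sylow.ext ?_
      rw [Subgroup.subgroupOf_inj, inf_eq_left.mpr (hall Q), inf_eq_left.mpr (hall Q')] at e'
      exact e'
    have hc5 := mul_le_card_orderOf hNQ
    have hle5 : Nat.card {y : N // orderOf y = 5} ≤ Nat.card N :=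
      Nat.card_le_card_of_injective _ Subtype.val_injective
    have hN30 : Nat.card N = 30 := by
      have := Nat.le_of_dvd (by norm_num) hd
      interval_cases hh : Nat.card N <;> omega
    obtain ⟨R⟩ : Nonempty (Sylow 3 N) := inferInstance
    have hR : ∀ R : Sylow 3 N, Nat.card (R : Subgroup N) = 3 := fun R =>
      card_sylow_eq_prime R (by omega) (by rw [hN30]; norm_num)
    by_cases hm1 : Nat.card (Sylow 3 N) = 1
    · -- a normal subgroup of order three
      haveI := (Nat.card_eq_one_iff_unique.mp hm1).1
      haveI : (R : Subgroup N).Characteristic := R.characteristic_of_subsingleton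
      have hn' : ((R : Subgroup N).map N.subtype).Normal := inferInstance
      exact hG.card_ne_prime _ hn' Nat.prime_three (by
        rw [← Nat.card_congr (Subgroup.equivMapOfInjective _ _ N.subtype_injective).toEquiv, hR])
    · -- too many elements
      have hm10 : 4 ≤ Nat.card (Sylow 3 N) := by
        have h1 := card_sylow_modEq_one 3 N
        unfold Nat.ModEq at h1
        have : 0 < Nat.card (Sylow 3 N) := Nat.card_pos
        omega
      have hdiv := R.card_dvd_index
      have hidx := Subgroup.card_mul_index (R : Subgroup N)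
      rw [hR, hN30] at hidx
      have hi : (R : Subgroup N).index = 10 := by omega
      rw [hi] at hdiv
      have hle10 := Nat.le_of_dvd (by norm_num) hdiv
      have hc3 := mul_le_card_orderOf hR
      have hsum : Nat.card {y : N // orderOf y = 3} + Nat.card {y : N // orderOf y = 5} ≤ Nat.card N := by
        rw [← Nat.card_sum]
        refine Nat.card_le_card_of_injective (Sum.elim Subtype.val Subtype.val) ?_
        rintro (⟨a, ha⟩ | ⟨a, ha⟩) (⟨b, hb⟩ | ⟨b, hb⟩) e <;> simp only [Sum.elim_inl, Sum.elim_inr] at e <;>
          subst e <;> first | rfl | omega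
      have hm10' : Nat.card (Sylow 3 N) = 10 := by
        have h1 := card_sylow_modEq_one 3 N
        unfold Nat.ModEq at h1
        interval_cases hh : Nat.card (Sylow 3 N) <;> omega
      omega
  · have hco : Nat.Coprime (Nat.card N) 5 := (((show Nat.Prime 5 by norm_num).coprime_iff_not_dvd).mpr h5).symm
    have h12 : Nat.card N ∣ 12 := hco.dvd_of_dvd_mul_right (m := 12) (by simpa using hd)
    by_cases h3 : 3 ∣ Nat.card N
    · haveI := Fact.mk Nat.prime_three
      let act : MulAction (P : Subgroup G) (Sylow 3 N) :=
        MulAction.compHom _ ((MulAut.conjNormal (H := N)).comp (P : Subgroup G).subtype)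
      letI := act
      have hlt : Nat.card (Sylow 3 N) < 5 := by
        obtain ⟨R⟩ : Nonempty (Sylow 3 N) := inferInstance
        have hm2 := R.card_dvd_index
        have h1 := R.not_dvd_index
        have hidx := Subgroup.index_dvd_card (R : Subgroup N)
        have h4 : (R : Subgroup N).index ∣ 12 := hidx.trans h12
        have := Nat.le_of_dvd (by norm_num) h4
        have hpos : 0 < (R : Subgroup N).index := Subgroup.index_ne_zero_of_finite.bot_lt
        have := Nat.le_of_dvd hpos hm2
        interval_cases hh : (R : Subgroup N).index <;> omega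
      obtain ⟨R⟩ : Nonempty (Sylow 3 N) := inferInstance
      have hfix : ∀ a : (P : Subgroup G), a • R = R := by
        intro a
        obtain ⟨k, hk⟩ := P.2.card_orbit R
        rcases k with _ | k
        · rw [pow_zero] at hk
          haveI := (Nat.card_eq_one_iff_unique.mp hk).1
          exact congrArg Subtype.val (Subsingleton.elim
            (⟨a • R, MulAction.mem_orbit _ a⟩ : MulAction.orbit (P : Subgroup G) R)
            ⟨_, MulAction.mem_orbit_self _⟩)
        · exfalso
          have h1 : Nat.card (MulAction.orbit (P : Subgroup G) R) ≤ Nat.card (Sylow 3 N) :=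
            Nat.card_le_card_of_injective _ Subtype.val_injective
          have h2 : 5 ≤ 5 ^ (k + 1) := Nat.le_self_pow (by omega) 5
          omega
      set R' := (R : Subgroup N).map N.subtype
      have hR' : Nat.card R' = 3 := by
        rw [← Nat.card_congr (Subgroup.equivMapOfInjective _ _ N.subtype_injective).toEquiv]
        exact card_sylow_eq_prime R h3 fun h9 => by
          have := h9.trans h12
          norm_num at this
      have h10 := small R' (by omega) fun a ha => by
        rw [Subgroup.mem_normalizer_iff]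
        intro x
        have hx : ∀ (b : (P : Subgroup G)) (y : G), y ∈ R' → (b : G) * y * (b : G)⁻¹ ∈ R' := by
          rintro b _ ⟨z, hz, rfl⟩
          have : (b • R : Sylow 3 N) = R := hfix b
          refine ⟨MulAut.conjNormal (b : G) z, ?_, by simp [MulAut.conjNormal_apply]⟩
          rw [← this]
          exact Subgroup.smul_mem_pointwise_smul z (MulAut.conjNormal (b : G)) _ hz
        refine ⟨hx ⟨a, ha⟩ x, fun hh => ?_⟩
        have := hx (⟨a, ha⟩⁻¹) _ hh
        simpa [mul_assoc] using this
      rw [hR'] at h10
      omega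
    · have h4 : Nat.card N ∣ 4 := (((Nat.prime_three.coprime_iff_not_dvd).mpr h3).symm).dvd_of_dvd_mul_right
        (m := 4) (by simpa using h12)
      have h10 := small N (Nat.le_of_dvd (by norm_num) h4) hPN
      have := Nat.le_of_dvd (by norm_num) h4
      interval_cases hh : Nat.card N
      all_goals first
        | omega
        | exact hG.card_ne_prime N hN Nat.prime_two hh

theorem iso_alternating_five (hG : NoNormalCyclic G) (h : Nat.card G = 60) :
    Nonempty (G ≃* alternatingGroup (Fin 5)) := by
  haveI := isSimpleGroup_of_card_sixty hG h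
  exact Cfsg.Lib.OrderLeHundred.iso_alternating_five h

end Cfsg.Lib.Dickson
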