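import Mathlib
import Cfsg.Agent.Lib.Dickson.SmallIds
import Cfsg.Agent.Lib.OrderLeHundred

/-!
# Tetrahedral, octahedral and icosahedral subgroups of `PSL₂`

Finite subgroups of the unit quaternions over `ℤ[√D, 1/4]`, reduced into `SL₂` of a field.
-/

set_option autoImplicit false
set_option linter.unusedSectionVars false

namespace Cfsg.Lib.Dickson

open Matrix
open scoped MatrixGroups

/-- A quaternion with coordinates `(p + q √D) / 4`. -/
structure Q8 where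
  a0 : ℤ
  a1 : ℤ
  b0 : ℤ
  b1 : ℤ
  c0 : ℤ
  c1 : ℤ
  d0 : ℤ
  d1 : ℤ
deriving DecidableEq

namespace Q8

/-- Four times the product. -/
def mulRaw (D : ℤ) (x y : Q8) : Q8 :=
  ⟨(x.a0 * y.a0 + D * (x.a1 * y.a1)) - (x.b0 * y.b0 + D * (x.b1 * y.b1))
      - (x.c0 * y.c0 + D * (x.c1 * y.c1)) - (x.d0 * y.d0 + D * (x.d1 * y.d1)),
    (x.a0 * y.a1 + x.a1 * y.a0) - (x.b0 * y.b1 + x.b1 * y.b0)
      - (x.c0 * y.c1 + x.c1 * y.c0) - (x.d0 * y.d1 + x.d1 * y.d0),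
    (x.a0 * y.b0 + D * (x.a1 * y.b1)) + (x.b0 * y.a0 + D * (x.b1 * y.a1))
      + (x.c0 * y.d0 + D * (x.c1 * y.d1)) - (x.d0 * y.c0 + D * (x.d1 * y.c1)),
    (x.a0 * y.b1 + x.a1 * y.b0) + (x.b0 * y.a1 + x.b1 * y.a0)
      + (x.c0 * y.d1 + x.c1 * y.d0) - (x.d0 * y.c1 + x.d1 * y.c0),
    (x.a0 * y.c0 + D * (x.a1 * y.c1)) - (x.b0 * y.d0 + D * (x.b1 * y.d1))
      + (x.c0 * y.a0 + D * (x.c1 * y.a1)) + (x.d0 * y.b0 + D * (x.d1 * y.b1)),
    (x.a0 * y.c1 + x.a1 * y.c0) - (x.b0 * y.d1 + x.b1 * y.d0)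
      + (x.c0 * y.a1 + x.c1 * y.a0) + (x.d0 * y.b1 + x.d1 * y.b0),
    (x.a0 * y.d0 + D * (x.a1 * y.d1)) + (x.b0 * y.c0 + D * (x.b1 * y.c1))
      - (x.c0 * y.b0 + D * (x.c1 * y.b1)) + (x.d0 * y.a0 + D * (x.d1 * y.a1)),
    (x.a0 * y.d1 + x.a1 * y.d0) + (x.b0 * y.c1 + x.b1 * y.c0)
      - (x.c0 * y.b1 + x.c1 * y.b0) + (x.d0 * y.a1 + x.d1 * y.a0)⟩

/-- Coordinate-wise multiple. -/
def scale (n : ℤ) (x : Q8) : Q8 :=
  ⟨n * x.a0, n * x.a1, n * x.b0, n * x.b1, n * x.c0, n * x.c1, n * x.d0, n * x.d1⟩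

/-- Conjugate. -/
def conj (x : Q8) : Q8 := ⟨x.a0, x.a1, -x.b0, -x.b1, -x.c0, -x.c1, -x.d0, -x.d1⟩

/-- The one. -/
def one : Q8 := ⟨4, 0, 0, 0, 0, 0, 0, 0⟩

/-- `g * x = y` up to sign. -/
def MulEq (D : ℤ) (g x y : Q8) : Prop := mulRaw D g x = scale 4 y ∨ mulRaw D g x = scale (-4) y

instance (D : ℤ) (g x y : Q8) : Decidable (MulEq D g x y) := inferInstanceAs (Decidable (_ ∨ _))

/-- Norm one. -/
def NormOne (D : ℤ) (x : Q8) : Prop := mulRaw D x (conj x) = scale 4 one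

instance (D : ℤ) (x : Q8) : Decidable (NormOne D x) := inferInstanceAs (Decidable (_ = _))

/-- Representatives up to sign. -/
def tetList : List Q8 := [
  ⟨4, 0, 0, 0, 0, 0, 0, 0⟩, ⟨0, 0, 4, 0, 0, 0, 0, 0⟩, ⟨2, 0, 2, 0, 2, 0, 2, 0⟩,
  ⟨2, 0, -2, 0, -2, 0, 2, 0⟩, ⟨2, 0, -2, 0, 2, 0, -2, 0⟩, ⟨2, 0, -2, 0, -2, 0, -2, 0⟩,
  ⟨2, 0, 2, 0, -2, 0, -2, 0⟩, ⟨2, 0, 2, 0, -2, 0, 2, 0⟩, ⟨2, 0, -2, 0, 2, 0, 2, 0⟩,
  ⟨2, 0, 2, 0, 2, 0, -2, 0⟩, ⟨0, 0, 0, 0, 0, 0, 4, 0⟩, ⟨0, 0, 0, 0, 4, 0, 0, 0⟩]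

/-- Representatives up to sign. -/
def octList : List Q8 := [
  ⟨4, 0, 0, 0, 0, 0, 0, 0⟩, ⟨0, 0, 4, 0, 0, 0, 0, 0⟩, ⟨2, 0, 2, 0, 2, 0, 2, 0⟩,
  ⟨0, 2, 0, 2, 0, 0, 0, 0⟩, ⟨2, 0, -2, 0, -2, 0, 2, 0⟩, ⟨0, 2, 0, -2, 0, 0, 0, 0⟩,
  ⟨2, 0, -2, 0, 2, 0, -2, 0⟩, ⟨2, 0, -2, 0, -2, 0, -2, 0⟩, ⟨0, 0, 0, 2, 0, 0, 0, 2⟩,
  ⟨0, 0, 0, 2, 0, 2, 0, 0⟩, ⟨2, 0, 2, 0, -2, 0, -2, 0⟩, ⟨2, 0, 2, 0, -2, 0, 2, 0⟩,
  ⟨0, 2, 0, 0, 0, -2, 0, 0⟩, ⟨0, 2, 0, 0, 0, 0, 0, 2⟩, ⟨2, 0, -2, 0, 2, 0, 2, 0⟩,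
  ⟨0, 2, 0, 0, 0, 2, 0, 0⟩, ⟨2, 0, 2, 0, 2, 0, -2, 0⟩, ⟨0, 2, 0, 0, 0, 0, 0, -2⟩,
  ⟨0, 0, 0, 2, 0, 0, 0, -2⟩, ⟨0, 0, 0, 2, 0, -2, 0, 0⟩, ⟨0, 0, 0, 0, 0, 0, 4, 0⟩,
  ⟨0, 0, 0, 0, 0, 2, 0, 2⟩, ⟨0, 0, 0, 0, 4, 0, 0, 0⟩, ⟨0, 0, 0, 0, 0, 2, 0, -2⟩]

/-- Representatives up to sign. -/
def icoList : List Q8 := [
  ⟨4, 0, 0, 0, 0, 0, 0, 0⟩, ⟨0, 0, 4, 0, 0, 0, 0, 0⟩, ⟨2, 0, 1, -1, 0, 0, 1, 1⟩,
  ⟨1, -1, -2, 0, -1, -1, 0, 0⟩, ⟨1, -1, -2, 0, 1, 1, 0, 0⟩, ⟨2, 0, -1, 1, 0, 0, -1, -1⟩,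
  ⟨2, 0, 1, -1, 0, 0, -1, -1⟩, ⟨1, -1, 2, 0, -1, -1, 0, 0⟩, ⟨1, -1, -1, -1, 0, 0, -2, 0⟩,
  ⟨1, -1, 2, 0, 1, 1, 0, 0⟩, ⟨1, 1, 1, -1, -2, 0, 0, 0⟩, ⟨2, 0, -1, 1, 0, 0, 1, 1⟩,
  ⟨1, 1, 1, -1, 2, 0, 0, 0⟩, ⟨0, 0, 1, -1, -1, -1, -2, 0⟩, ⟨0, 0, 1, -1, 1, 1, -2, 0⟩,
  ⟨1, -1, -1, -1, 0, 0, 2, 0⟩, ⟨1, -1, 0, 0, 2, 0, -1, -1⟩, ⟨1, -1, 0, 0, 2, 0, 1, 1⟩,
  ⟨1, -1, 1, 1, 0, 0, -2, 0⟩, ⟨1, -1, 0, 0, -2, 0, 1, 1⟩, ⟨1, -1, 0, 0, -2, 0, -1, -1⟩,
  ⟨1, -1, 1, 1, 0, 0, 2, 0⟩, ⟨1, 1, -1, 1, 2, 0, 0, 0⟩, ⟨0, 0, 1, -1, 1, 1, 2, 0⟩,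
  ⟨0, 0, 1, -1, -1, -1, 2, 0⟩, ⟨1, 1, -1, 1, -2, 0, 0, 0⟩, ⟨2, 0, 2, 0, 2, 0, -2, 0⟩,
  ⟨1, 1, -2, 0, 0, 0, 1, -1⟩, ⟨2, 0, 2, 0, -2, 0, -2, 0⟩, ⟨2, 0, -2, 0, 2, 0, 2, 0⟩,
  ⟨2, 0, 1, 1, 1, -1, 0, 0⟩, ⟨2, 0, -2, 0, 2, 0, -2, 0⟩, ⟨2, 0, -2, 0, -2, 0, -2, 0⟩,
  ⟨2, 0, 1, 1, -1, 1, 0, 0⟩, ⟨2, 0, -2, 0, -2, 0, 2, 0⟩, ⟨1, 1, 2, 0, 0, 0, -1, 1⟩,
  ⟨2, 0, 2, 0, -2, 0, 2, 0⟩, ⟨1, 1, -2, 0, 0, 0, -1, 1⟩, ⟨2, 0, 2, 0, 2, 0, 2, 0⟩,
  ⟨2, 0, -1, -1, 1, -1, 0, 0⟩, ⟨2, 0, 0, 0, -1, -1, -1, 1⟩, ⟨2, 0, 0, 0, 1, 1, -1, 1⟩,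
  ⟨2, 0, -1, -1, -1, 1, 0, 0⟩, ⟨0, 0, 2, 0, -1, 1, 1, 1⟩, ⟨0, 0, 2, 0, -1, 1, -1, -1⟩,
  ⟨1, 1, 2, 0, 0, 0, 1, -1⟩, ⟨0, 0, 2, 0, 1, -1, -1, -1⟩, ⟨0, 0, 2, 0, 1, -1, 1, 1⟩,
  ⟨0, 0, 1, 1, -2, 0, 1, -1⟩, ⟨0, 0, 1, 1, 2, 0, 1, -1⟩, ⟨2, 0, 0, 0, 1, 1, 1, -1⟩,
  ⟨2, 0, 0, 0, -1, -1, 1, -1⟩, ⟨1, 1, 0, 0, -1, 1, -2, 0⟩, ⟨1, 1, 0, 0, -1, 1, 2, 0⟩,
  ⟨1, 1, 0, 0, 1, -1, 2, 0⟩, ⟨1, 1, 0, 0, 1, -1, -2, 0⟩, ⟨0, 0, 1, 1, 2, 0, -1, 1⟩,
  ⟨0, 0, 1, 1, -2, 0, -1, 1⟩, ⟨0, 0, 0, 0, 0, 0, 4, 0⟩, ⟨0, 0, 0, 0, 4, 0, 0, 0⟩]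

end Q8

/-- The data for reducing quaternions over `ℤ[√D, 1/4]` into `2 × 2` matrices. -/
structure Red (D : ℤ) (F : Type*) [Field F] where
  s : F
  a : F
  b : F
  hs : s ^ 2 = (D : F)
  hab : a ^ 2 + b ^ 2 = -1
  h2 : (2 : F) ≠ 0

namespace Red

variable {F : Type*} [Field F] {D : ℤ} (R : Red D F)

/-- A coordinate. -/
def co (p q : ℤ) : F := ((p : F) + (q : F) * R.s) / 4

/-- The matrix of a quaternion. -/
def mat (x : Q8) : Matrix (Fin 2) (Fin 2) F :=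
  !![R.co x.a0 x.a1 + R.co x.c0 x.c1 * R.a + R.co x.d0 x.d1 * R.b,
     R.co x.b0 x.b1 + R.co x.c0 x.c1 * R.b - R.co x.d0 x.d1 * R.a;
     -R.co x.b0 x.b1 + R.co x.c0 x.c1 * R.b - R.co x.d0 x.d1 * R.a,
     R.co x.a0 x.a1 - R.co x.c0 x.c1 * R.a - R.co x.d0 x.d1 * R.b]

include R in
theorem h4 : (4 : F) ≠ 0 := by
  rw [show (4 : F) = 2 * 2 by norm_num]; exact mul_ne_zero R.h2 R.h2

theorem mat_mulRaw (x y : Q8) : R.mat (Q8.mulRaw D x y) = (4 : F) • (R.mat x * R.mat y) := by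
  have h4 := R.h4
  have hs := R.hs
  have hab := R.hab
  have hb : R.b * R.b = -1 - R.a * R.a := by linear_combination hab
  have hD : (D : F) = R.s * R.s := by linear_combination -hs
  ext i j
  fin_cases i <;> fin_cases j <;>
    simp [mat, co, Q8.mulRaw, Matrix.mul_apply, Fin.sum_univ_two, hD] <;> field_simp <;>
    ring_nf <;>
    simp only [show R.b ^ 2 = -1 - R.a ^ 2 by linear_combination hab] <;> ring

theorem mat_scale (n : ℤ) (x : Q8) : R.mat (Q8.scale n x) = (n : F) • R.mat x := by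
  ext i j
  fin_cases i <;> fin_cases j <;> simp [mat, co, Q8.scale] <;> ring

theorem mat_one : R.mat Q8.one = 1 := by
  have h4 := R.h4
  ext i j
  fin_cases i <;> fin_cases j <;> simp [mat, co, Q8.one, h4]

theorem det_mat {x : Q8} (hx : Q8.NormOne D x) : (R.mat x).det = 1 := by
  have h := R.mat_mulRaw x (Q8.conj x)
  rw [hx, R.mat_scale, R.mat_one] at h
  have h' := congrArg (fun M : Matrix (Fin 2) (Fin 2) F => M 0 0) h
  have h4 := R.h4
  simp [mat, co, Q8.conj, Matrix.mul_apply, Fin.sum_univ_two] at h'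
  rw [det_fin_two]
  simp [mat, co]
  field_simp at h' ⊢
  linear_combination -h'

/-- The matrix as an element of `SL₂`. -/
def slOf {x : Q8} (hx : Q8.NormOne D x) : SL(2, F) := ⟨R.mat x, R.det_mat hx⟩

theorem slOf_coe {x : Q8} (hx : Q8.NormOne D x) :
    ((R.slOf hx : SL(2, F)) : Matrix (Fin 2) (Fin 2) F) = R.mat x := rfl

/-- The image in `PSL₂`. -/
noncomputable def psl {x : Q8} (hx : Q8.NormOne D x) : Matrix.ProjectiveSpecialLinearGroup (Fin 2) F :=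
  QuotientGroup.mk' _ (R.slOf hx)

theorem psl_mul {g x y : Q8} (hg : Q8.NormOne D g) (hx : Q8.NormOne D x) (hy : Q8.NormOne D y)
    (h : Q8.MulEq D g x y) : R.psl hg * R.psl hx = R.psl hy := by
  have h4 := R.h4
  rw [psl, psl, psl, ← map_mul]
  rcases h with h | h
  · congr 1
    apply Subtype.ext
    have h' := congrArg R.mat h
    rw [R.mat_mulRaw, R.mat_scale] at h'
    exact smul_right_injective _ h4 (by simpa [slOf_coe] using h')
  · refine (QuotientGroup.mk'_eq_mk' _).mpr ⟨-1, ?_, ?_⟩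
    · rw [Subgroup.mem_center_iff]; intro m; simp
    apply Subtype.ext
    have h' := congrArg R.mat h
    rw [R.mat_mulRaw, R.mat_scale] at h'
    have h'' : R.mat g * R.mat x = -(R.mat y) := smul_right_injective _ h4 (by simpa using h')
    simp [slOf_coe, h'']

theorem psl_one (h1 : Q8.NormOne D Q8.one) : R.psl h1 = 1 := by
  rw [psl, show R.slOf h1 = 1 from Subtype.ext R.mat_one, map_one]

/-- The subgroup generated by listed elements is no larger than a list closed under them. -/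
theorem card_closure_le [Finite (Matrix.ProjectiveSpecialLinearGroup (Fin 2) F)] (L G : List Q8)
    (hG : ∀ g ∈ G, Q8.NormOne D g) (hL : ∀ x ∈ L, Q8.NormOne D x) (h1 : Q8.one ∈ L)
    (hcl : ∀ g ∈ G, ∀ x ∈ L, ∃ y ∈ L, Q8.MulEq D g x y) :
    Nat.card (Subgroup.closure {z | ∃ g, ∃ h : g ∈ G, z = R.psl (hG g h)}) ≤ L.length := by
  classical
  set S := {z | ∃ g, ∃ h : g ∈ G, z = R.psl (hG g h)} with hS
  let f : {x // x ∈ L} → Matrix.ProjectiveSpecialLinearGroup (Fin 2) F := fun x => R.psl (hL x x.2)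
  have hsub : (Subgroup.closure S : Set (Matrix.ProjectiveSpecialLinearGroup (Fin 2) F)) ⊆ Set.range f := by
    rw [← Subgroup.coe_toSubmonoid, Subgroup.closure_toSubmonoid_of_finite]
    intro z hz
    induction hz using Submonoid.closure_induction_left with
    | one => exact ⟨⟨Q8.one, h1⟩, R.psl_one _⟩
    | mul_left g hg w _ ih =>
      obtain ⟨g, hgG, rfl⟩ := hg
      obtain ⟨⟨x, hx⟩, rfl⟩ := ih
      obtain ⟨y, hy, hxy⟩ := hcl g hgG x hx
      exact ⟨⟨y, hy⟩, (R.psl_mul (hG g hgG) (hL x hx) (hL y hy) hxy).symm⟩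
  calc Nat.card (Subgroup.closure S) ≤ Nat.card (Set.range f) :=
        Nat.card_mono (Set.finite_range f) hsub
    _ ≤ Nat.card {x // x ∈ L} := Nat.card_le_card_of_surjective (Set.rangeFactorization f) Set.rangeFactorization_surjective
    _ ≤ L.length := by
        refine le_trans (Nat.card_le_card_of_surjective (fun i : Fin L.length => (⟨L.get i, L.get_mem i⟩ : {x // x ∈ L})) ?_)
          (le_of_eq (Nat.card_fin _))
        rintro ⟨x, hx⟩
        obtain ⟨i, rfl⟩ := List.get_of_mem hx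
        exact ⟨i, rfl⟩

theorem psl_ne_one {x : Q8} (hx : Q8.NormOne D x) (h : R.mat x 0 1 ≠ 0 ∨ R.mat x 1 0 ≠ 0) :
    R.psl hx ≠ 1 := by
  intro e
  rw [psl, QuotientGroup.mk'_apply, QuotientGroup.eq_one_iff, Matrix.SpecialLinearGroup.mem_center_iff] at e
  obtain ⟨r, -, hr⟩ := e
  rw [R.slOf_coe hx] at hr
  rw [← hr] at h
  simp at h

end Red

/-- Recognition of `A₅` inside a finite group. -/
theorem iso_alternating_five_of_relations {G : Type*} [Group G] [Finite G] {x y : G}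
    (hgen : Subgroup.closure {x, y} = ⊤) (hx : x ^ 2 = 1) (hy : y ^ 3 = 1) (hxy : (x * y) ^ 5 = 1)
    (hne : x ≠ 1) (hcard : Nat.card G ≤ 60) : Nonempty (G ≃* alternatingGroup (Fin 5)) := by
  haveI : Nontrivial G := ⟨⟨x, 1, hne⟩⟩
  obtain ⟨N, hN⟩ := (Finite.exists_le_maximal (p := fun N : Subgroup G => N.Normal ∧ N ≠ ⊤)
    (a := ⊥) ⟨inferInstance, bot_ne_top⟩)
  haveI := hN.2.1.1
  have hQn : Nontrivial (G ⧸ N) := by
    rw [← not_subsingleton_iff_nontrivial]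
    intro h
    exact hN.2.1.2 (Subgroup.index_eq_one.mp (by rw [Subgroup.index_eq_card]; exact Nat.card_of_subsingleton (1 : G ⧸ N)))
  haveI : IsSimpleGroup (G ⧸ N) := ⟨fun M hM => by
    by_contra hcon
    push Not at hcon
    have h1 : N ≤ M.comap (QuotientGroup.mk' N) := fun n hn => by
      rw [Subgroup.mem_comap, QuotientGroup.mk'_apply, (QuotientGroup.eq_one_iff n).mpr hn]; exact one_mem _
    have h2 : M.comap (QuotientGroup.mk' N) ≠ ⊤ := fun e => hcon.2 (by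
      have := congrArg (Subgroup.map (QuotientGroup.mk' N)) e
      rwa [Subgroup.map_comap_eq_self_of_surjective (QuotientGroup.mk'_surjective N),
        Subgroup.map_top_of_surjective _ (QuotientGroup.mk'_surjective N)] at this)
    have h3 := hN.2.2 ⟨hM.comap _, h2⟩ h1
    refine hcon.1 ?_
    have := congrArg (Subgroup.map (QuotientGroup.mk' N)) (le_antisymm h3 h1)
    rwa [Subgroup.map_comap_eq_self_of_surjective (QuotientGroup.mk'_surjective N),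
      QuotientGroup.map_mk'_self] at this⟩
  set π := QuotientGroup.mk' N
  have hnc : ¬ IsCyclic (G ⧸ N) := by
    intro hc
    letI := hc.commGroup
    have hX : π x ^ 2 = 1 := by rw [← map_pow, hx, map_one]
    have hY : π y ^ 3 = 1 := by rw [← map_pow, hy, map_one]
    have hXY : π x ^ 5 * π y ^ 5 = 1 := by rw [← mul_pow, ← map_mul, ← map_pow, hxy, map_one]
    rw [show π x ^ 5 = π x by rw [show (5 : ℕ) = 2 * 2 + 1 by norm_num, pow_succ, pow_mul, hX, one_pow, one_mul],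
      show π y ^ 5 = π y ^ 2 by rw [show (5 : ℕ) = 3 + 2 by norm_num, pow_add, hY, one_mul]] at hXY
    have hY1 : π y = 1 := by
      have h2 := congrArg (· ^ 2) hXY
      simp only [one_pow, mul_pow, hX, one_mul, ← pow_mul] at h2
      rw [show 2 * 2 = 3 + 1 by norm_num, pow_succ, hY, one_mul] at h2
      exact h2
    rw [hY1, one_pow, mul_one] at hXY
    have htop : (⊤ : Subgroup G) ≤ N := by
      rw [← hgen, Subgroup.closure_le]
      rintro z (rfl | rfl)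
      · exact (QuotientGroup.eq_one_iff _).mp hXY
      · exact (QuotientGroup.eq_one_iff _).mp hY1
    exact hN.2.1.2 (eq_top_iff.mpr htop)
  have hQ : Nat.card (G ⧸ N) ≤ 60 := (Nat.card_le_card_of_surjective π (QuotientGroup.mk'_surjective N)).trans hcard
  have h60 := Cfsg.Lib.OrderLeHundred.card_eq_sixty hnc (by omega)
  have hG : Nat.card G = Nat.card (G ⧸ N) := by
    have := Nat.card_le_card_of_surjective π (QuotientGroup.mk'_surjective N)
    omega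
  have e : G ≃* G ⧸ N := MulEquiv.ofBijective π ((Nat.bijective_iff_surjective_and_card π).mpr
    ⟨QuotientGroup.mk'_surjective N, hG⟩)
  obtain ⟨f⟩ := Cfsg.Lib.OrderLeHundred.iso_alternating_five (G := G ⧸ N) h60
  exact ⟨e.trans f⟩

/-- Recognition of `A₄` and `S₄`. -/
theorem noNormalCyclic_of_generators {G : Type*} [Group G] [Finite G] {i j y : G}
    (hi : i ≠ 1) (hi2 : i * i = 1) (hj2 : j * j = 1) (hy3 : y ^ 3 = 1) (hy : y ≠ 1)
    (hyi : y * i * y⁻¹ = j) (hyj : y * j * y⁻¹ = i * j)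
    (h : Nat.card G = 12 ∨ (Nat.card G = 24 ∧ ∃ t : G, t * y * t⁻¹ = y⁻¹)) : NoNormalCyclic G := by
  intro N hN hc
  by_contra hne
  haveI := Fact.mk Nat.prime_three
  have hjne : j ≠ i := by
    intro e
    rw [e, hi2] at hyj
    rw [e] at hyi
    exact hi (hyi.symm.trans hyj)
  have hci : ¬ Commute y i := fun hc => hjne (by rw [← hyi, hc.eq, mul_inv_cancel_right])
  obtain ⟨P⟩ : Nonempty (Sylow 3 G) := inferInstance
  have hyo : orderOf y = 3 := orderOf_eq_prime hy3 hy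
  have hYc : Nat.card (Subgroup.zpowers y) = 3 := by rw [Nat.card_zpowers, hyo]
  have hYnormal : ¬ (Subgroup.zpowers y).Normal := by
    intro hY
    obtain ⟨k, hk⟩ := Subgroup.mem_zpowers_iff.mp (hY.conj_mem y (Subgroup.mem_zpowers y) i)
    have hii : i⁻¹ = i := inv_eq_of_mul_eq_one_left hi2
    rw [hii] at hk
    rw [← zpow_mod_orderOf, hyo] at hk
    have hk3 : k % 3 = 0 ∨ k % 3 = 1 ∨ k % 3 = 2 := by omega
    rcases hk3 with e | e | e <;> norm_num [e] at hk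
    · refine hy ?_
      calc y = i * (i * y * i) * i := by simp [← mul_assoc, hi2, mul_assoc y i i]
        _ = 1 := by rw [← hk, mul_one, hi2]
    · refine hci ?_
      show y * i = i * y
      calc y * i = i * y * i * i := by rw [← hk]
        _ = i * y := by rw [mul_assoc _ i i, hi2, mul_one]
    · have hy2 : y ^ 2 = i * y * i := hk
      have hyinv : y⁻¹ = y ^ 2 := inv_eq_of_mul_eq_one_right (by rw [← pow_succ', hy3])
      have hj' : j = i * y := by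
        rw [← hyi, hyinv, hy2]
        calc y * i * (i * y * i) = y * (i * i) * y * i := by group
          _ = y ^ 2 * i := by rw [hi2, mul_one, sq]
          _ = i * y * (i * i) := by rw [hy2]; group
          _ = i * y := by rw [hi2, mul_one]
      have h5 : y * i = y := by
        have e1 : y * j * y⁻¹ = y * i := by rw [hj']; group
        have e2 : i * j = y := by rw [hj', ← mul_assoc, hi2, one_mul]
        rw [← e1, hyj, e2]
      exact hi (by simpa using h5)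
  have hP : ∀ P : Sylow 3 G, Nat.card (P : Subgroup G) = 3 := fun P =>
    card_sylow_eq_prime P (by omega) (by norm_num; omega)
  have hn : Nat.card (Sylow 3 G) = 4 := by
    have hm := card_sylow_modEq_one 3 G
    have hd := P.card_dvd_index
    have hidx := Subgroup.card_mul_index (P : Subgroup G)
    rw [hP] at hidx
    have hne1 : Nat.card (Sylow 3 G) ≠ 1 := by
      intro h1
      haveI := (Nat.card_eq_one_iff_unique.mp h1).1
      haveI := P.normal_of_subsingleton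
      obtain ⟨Q, hQ⟩ := (IsPGroup.of_card (n := 1) (by rw [hYc, pow_one]) : IsPGroup 3 (Subgroup.zpowers y)).exists_le_sylow
      rw [Subsingleton.elim Q P] at hQ
      rw [Subgroup.eq_of_le_of_card_ge hQ (by rw [hP, hYc])] at hYnormal
      exact hYnormal inferInstance
    unfold Nat.ModEq at hm
    rcases h with h | ⟨h, -⟩ <;>
    · rw [h] at hidx
      have hle := Nat.le_of_dvd (by omega) hd
      have h8 : (P : Subgroup G).index = 4 ∨ (P : Subgroup G).index = 8 := by omega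
      rcases h8 with h8 | h8 <;> rw [h8] at hd hle <;> interval_cases hh : Nat.card (Sylow 3 G) <;> omega
  have hNY : Nat.card (Subgroup.normalizer (Subgroup.zpowers y : Set G)) * 4 = Nat.card G := by
    obtain ⟨Q, hQ⟩ := (IsPGroup.of_card (n := 1) (by rw [hYc, pow_one]) : IsPGroup 3 (Subgroup.zpowers y)).exists_le_sylow
    have hYQ : Subgroup.zpowers y = (Q : Subgroup G) := Subgroup.eq_of_le_of_card_ge hQ (by rw [hP, hYc])
    have := Subgroup.card_mul_index (Subgroup.normalizer (Q : Set G))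
    rw [← Q.card_eq_index_normalizer, hn] at this
    rw [hYQ]
    exact this
  obtain ⟨⟨c, hcN⟩, hgen⟩ := hc.exists_generator
  obtain ⟨r, hr, hrN⟩ := Nat.exists_prime_and_dvd (show Nat.card N ≠ 1 from fun e => hne (Subgroup.eq_bot_of_card_eq N e))
  haveI := Fact.mk hr
  obtain ⟨⟨z, hzN⟩, hzo⟩ := exists_prime_orderOf_dvd_card' (G := N) r hrN
  rw [Subgroup.orderOf_mk] at hzo
  -- the subgroup of order `r` of a cyclic group is unique, hence normal
  have hZn : (Subgroup.zpowers z).Normal := by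
    haveI := hc
    classical
    haveI : Fintype N := Fintype.ofFinite _
    refine ⟨fun n hn g => ?_⟩
    have hnN : n ∈ N := (Subgroup.zpowers_le.mpr hzN) hn
    have hw : (⟨g * n * g⁻¹, hN.conj_mem n hnN g⟩ : N) ^ r = 1 := by
      refine Subtype.ext ?_
      obtain ⟨k, rfl⟩ := Subgroup.mem_zpowers_iff.mp hn
      show (g * z ^ k * g⁻¹) ^ r = 1
      rw [conj_pow, ← zpow_natCast (z ^ k), ← _root_.zpow_mul, mul_comm, _root_.zpow_mul, zpow_natCast, ← hzo,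
        pow_orderOf_eq_one, _root_.one_zpow, mul_one, mul_inv_cancel]
    by_contra hnot
    let S : Finset N := Finset.univ.filter fun x => x ^ r = 1
    let e : Option (Subgroup.zpowers z) → S := fun o => o.elim
      ⟨⟨g * n * g⁻¹, hN.conj_mem n hnN g⟩, Finset.mem_filter.mpr ⟨Finset.mem_univ _, hw⟩⟩
      fun x => ⟨⟨x, (Subgroup.zpowers_le.mpr hzN) x.2⟩, Finset.mem_filter.mpr ⟨Finset.mem_univ _, Subtype.ext (by
        show (x : G) ^ r = 1
        have h' := congrArg Subtype.val (pow_card_eq_one' (x := x))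
        simpa [Nat.card_zpowers, hzo] using h')⟩⟩
    have he : Function.Injective e := by
      rintro (_ | a) (_ | b) hab
      · rfl
      · exact absurd (by rw [show g * n * g⁻¹ = (b : G) from congrArg (fun x : S => ((x : N) : G)) hab]; exact b.2) hnot
      · exact absurd (by rw [show g * n * g⁻¹ = (a : G) from (congrArg (fun x : S => ((x : N) : G)) hab).symm]; exact a.2) hnot
      · exact congrArg some (Subtype.ext (congrArg (fun x : S => ((x : N) : G)) hab))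
    have h1 := Nat.card_le_card_of_injective e he
    have h2 : S.card ≤ r := by
      convert IsCyclic.card_pow_eq_one_le (α := N) hr.pos using 2
    rw [Finite.card_option, Nat.card_zpowers, hzo, Nat.card_eq_finsetCard] at h1
    omega
  have hr23 : r = 2 ∨ r = 3 := by
    have hd := hrN.trans (Subgroup.card_subgroup_dvd_card N)
    have hd24 : r ∣ 24 := by
      rcases h with h | ⟨h, -⟩ <;> rw [h] at hd
      · exact hd.trans (by norm_num)
      · exact hd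
    have hle := Nat.le_of_dvd (by norm_num) hd24
    interval_cases r <;> first | omega | (exfalso; revert hr hd24; norm_num)
  have hzy : Subgroup.zpowers z ≠ Subgroup.zpowers y := fun e => hYnormal (e ▸ hZn)
  rcases hr23 with rfl | rfl
  · -- a central involution
    have hzc : ∀ g : G, g * z * g⁻¹ = z := by
      intro g
      obtain ⟨k, hk⟩ := Subgroup.mem_zpowers_iff.mp (hZn.conj_mem z (Subgroup.mem_zpowers z) g)
      rw [← hk, ← zpow_mod_orderOf, hzo]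
      have hk2 : k % 2 = 0 ∨ k % 2 = 1 := by omega
      rcases hk2 with e | e
      · exfalso
        rw [← zpow_mod_orderOf, hzo] at hk
        norm_num [e] at hk
        have : z = 1 := conj_eq_one_iff.mp hk.symm
        rw [this, orderOf_one] at hzo
        omega
      · norm_num [e]
    have hzNy : z ∈ Subgroup.normalizer (Subgroup.zpowers y : Set G) := by
      rw [Subgroup.mem_set_normalizer_iff]
      intro n
      have : z * n * z⁻¹ = n := by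
        have := hzc n
        calc z * n * z⁻¹ = (n * z * n⁻¹) * n * z⁻¹ := by rw [this]
          _ = n := by group
      rw [this]
    rcases h with h | ⟨h, t, ht⟩
    · -- order three normaliser
      have h3 : Nat.card (Subgroup.normalizer (Subgroup.zpowers y : Set G)) = 3 := by omega
      have := Subgroup.orderOf_mk z hzNy ▸ orderOf_dvd_natCard (⟨z, hzNy⟩ : Subgroup.normalizer (Subgroup.zpowers y : Set G))
      rw [hzo, h3] at this
      omega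
    · -- order six normaliser, which is cyclic
      set M := Subgroup.normalizer (Subgroup.zpowers y : Set G)
      have hM : Nat.card M = 6 := by omega
      have hyM : y ∈ M := Subgroup.le_normalizer (Subgroup.mem_zpowers y)
      have htM : t ∈ M := by
        rw [Subgroup.mem_set_normalizer_iff]
        intro n
        constructor
        · intro hn'
          obtain ⟨k, rfl⟩ := Subgroup.mem_zpowers_iff.mp hn'
          rw [← conj_zpow, ht]
          exact Subgroup.zpow_mem _ (Subgroup.inv_mem _ (Subgroup.mem_zpowers y)) k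
        · intro hn'
          obtain ⟨k, hk⟩ := Subgroup.mem_zpowers_iff.mp hn'
          refine Subgroup.mem_zpowers_iff.mpr ⟨-k, ?_⟩
          have : t * y ^ (-k) * t⁻¹ = t * n * t⁻¹ := by
            rw [← conj_zpow, ht, ← hk, _root_.zpow_neg, _root_.inv_zpow, inv_inv]
          exact mul_left_cancel (mul_right_cancel this)
      have hcomm : Commute y z := by
        show y * z = z * y
        have := hzc y
        calc y * z = y * z * y⁻¹ * y := by group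
          _ = z * y := by rw [this]
      have hord : orderOf (y * z) = 6 := by
        rw [hcomm.orderOf_mul_eq_mul_orderOf_of_coprime (by rw [hyo, hzo]; norm_num), hyo, hzo]
      have hgenM : Subgroup.zpowers (y * z) = M := Subgroup.eq_of_le_of_card_ge
        (Subgroup.zpowers_le.mpr (M.mul_mem hyM hzNy)) (by rw [hM, Nat.card_zpowers, hord])
      rw [← hgenM] at htM hyM
      obtain ⟨k, hk⟩ := Subgroup.mem_zpowers_iff.mp htM
      obtain ⟨l, hl⟩ := Subgroup.mem_zpowers_iff.mp hyM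
      have hty : t * y = y * t := by
        have := Commute.zpow_zpow_self (y * z) k l
        rw [hk, hl] at this
        exact this.eq
      rw [hty, mul_inv_cancel_right] at ht
      have h2 : y ^ 2 = 1 := by rw [sq]; nth_rewrite 1 [ht]; exact inv_mul_cancel y
      have h6 := orderOf_dvd_of_pow_eq_one h2
      rw [hyo] at h6
      omega
  · -- a normal Sylow subgroup
    obtain ⟨Q, hQ⟩ := (IsPGroup.of_card (n := 1) (by rw [Nat.card_zpowers, hzo, pow_one]) : IsPGroup 3 (Subgroup.zpowers z)).exists_le_sylow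
    have hQz : Subgroup.zpowers z = (Q : Subgroup G) := Subgroup.eq_of_le_of_card_ge hQ (by rw [hP, Nat.card_zpowers, hzo])
    have hidx := Q.card_eq_index_normalizer
    rw [hn, ← Sylow.coe_coe, ← hQz] at hidx
    haveI := hZn
    rw [Subgroup.normalizer_eq_top, Subgroup.index_top] at hidx
    omega

end Cfsg.Lib.Dickson
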