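import Mathlib

/-!
# Counting fixed points

A finite group acting so that every nontrivial element fixes one or two points, the elements
fixing exactly one given point forming, together with the identity, a `p`-subgroup.
-/

set_option autoImplicit false
set_option linter.unusedSectionVars false

namespace Cfsg.Lib.Dickson

open MulAction

section Arith

theorem arith_one_fix {P n t e m : ℕ} (hP : 3 ≤ P) (hm : m = n * (P - 2) + 2)
    (he : e * m = n * (t * P)) (he0 : 1 ≤ e) (hn : ∃ k, 1 ≤ k ∧ n = 1 + k * P) (ht : t ≤ P - 1) :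
    (n = P + 1 ∧ (t = P - 1 ∨ 2 * t = P - 1)) ∨ (P = 3 ∧ n = 10 ∧ t = 2) := by
  obtain ⟨k, hk, rfl⟩ := hn
  obtain ⟨Q, rfl⟩ : ∃ Q, P = Q + 2 := ⟨P - 2, by omega⟩
  simp only [Nat.add_sub_cancel] at hm
  obtain ⟨M, hM⟩ : ∃ M, 2 * e = (1 + k * (Q + 2)) * M := by
    have h : e * Q ≤ t * (Q + 2) := by
      by_contra hlt
      push Not at hlt
      subst hm
      nlinarith [Nat.mul_le_mul_left (1 + k * (Q + 2)) hlt.le]
    refine ⟨t * (Q + 2) - e * Q, ?_⟩
    subst hm
    obtain ⟨d, hd⟩ := Nat.exists_eq_add_of_le h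
    rw [hd, Nat.add_sub_cancel_left]
    rw [hd] at he
    nlinarith
  have hMpos : 0 < (1 + k * (Q + 2)) := by positivity
  have h2 : M * m = 2 * t * (Q + 2) :=
    Nat.eq_of_mul_eq_mul_left hMpos (by rw [← mul_assoc, ← hM]; linear_combination 2 * he)
  have h3 : M * (1 + k * Q) = 2 * t := by
    refine Nat.eq_of_mul_eq_mul_left (show 0 < Q + 2 by omega) ?_
    rw [← mul_comm (2 * t), ← h2, hm]; ring
  have hM1 : 1 ≤ M := by
    rcases Nat.eq_zero_or_pos M with rfl | h
    · exfalso
      simp only [zero_mul] at h2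
      rcases Nat.eq_zero_or_pos t with rfl | h'
      · simp only [zero_mul, mul_zero] at he
        rcases mul_eq_zero.mp he with he | he <;> omega
      · nlinarith
    · exact h
  rcases lt_trichotomy k 1 with h | rfl | h
  · omega
  · left
    refine ⟨by ring, ?_⟩
    rcases lt_trichotomy M 1 with h | rfl | h
    · omega
    · right; omega
    · rcases lt_trichotomy M 2 with h' | rfl | h'
      · omega
      · left; omega
      · exfalso
        have := Nat.mul_le_mul_right (1 + 1 * Q) h'
        omega
  · have hkQ : 1 + 2 * Q ≤ 1 + k * Q := by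
      have := Nat.mul_le_mul_right Q h
      omega
    have hM' : M = 1 := by
      by_contra hne
      have := Nat.mul_le_mul (show 2 ≤ M by omega) hkQ
      omega
    subst hM'
    rw [one_mul] at h3
    rcases Nat.lt_or_ge k 3 with h' | h'
    · obtain rfl : k = 2 := by omega
      omega
    · right
      have hQ : Q = 1 := by
        have := Nat.mul_le_mul_right Q h'
        omega
      subst hQ
      rcases Nat.lt_or_ge k 4 with h4 | h4
      · obtain rfl : k = 3 := by omega
        omega
      · omega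

theorem arith_three {g a b c ea eb ec : ℕ} (hg : 0 < g) (hab : b ≤ a) (hbc : c ≤ b)
    (hea : 2 ≤ ea) (heb : 2 ≤ eb) (hec : 2 ≤ ec)
    (ha : a * ea = g) (hb : b * eb = g) (hc : c * ec = g) (h : a + b + c = g + 2) :
    c = 2 ∨ g = 12 ∨ g = 24 ∨ g = 60 := by
  have e1 : ea = 2 := by
    by_contra hne
    have := Nat.mul_le_mul_left a (show 3 ≤ ea by omega)
    omega
  subst e1
  have e2 : eb = 2 ∨ eb = 3 := by
    by_contra hne
    have := Nat.mul_le_mul_left b (show 4 ≤ eb by omega)
    omega
  rcases e2 with rfl | rfl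
  · omega
  · rcases Nat.lt_or_ge ec 6 with h6 | h6
    · interval_cases ec <;> omega
    · have := Nat.mul_le_mul_left c h6
      omega

end Arith

theorem arith_K_le {K g n Q R : ℕ} (hsum : (K + 1) * g + n * (Q + 1) + 2 = n + R + 2 * g)
    (hrest : 2 * R ≤ K * g) : K ≤ 1 := by
  by_contra h
  have := Nat.mul_le_mul_right g (show 2 ≤ K by omega)
  simp only [add_mul, mul_add, one_mul, mul_one] at hsum
  omega

variable {H X : Type*} [Group H] [Finite H] [MulAction H X] [Finite X]

theorem smul_mem_orbit' {x y : X} (h : H) (hy : y ∈ orbit H x) : h • y ∈ orbit H x := by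
  obtain ⟨u, rfl⟩ := hy
  exact ⟨h * u, mul_smul h u x⟩

variable (H X) in
/-- `H` fixes a point or leaves a pair of points invariant. -/
def HasSmallOrbit : Prop :=
  (∃ x : X, ∀ h : H, h • x = x) ∨
    ∃ x y : X, x ≠ y ∧ ∀ h : H, (h • x = x ∧ h • y = y) ∨ (h • x = y ∧ h • y = x)

theorem hasSmallOrbit_of_ncard_le_two {s : Set X} (hs : s.ncard ≤ 2) (hne : s.Nonempty)
    (hinv : ∀ (h : H), ∀ x ∈ s, h • x ∈ s) : HasSmallOrbit H X := by
  obtain ⟨x, hx⟩ := hne
  by_cases h1 : s ⊆ {x}
  · exact Or.inl ⟨x, fun h => h1 (hinv h x hx)⟩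
  · obtain ⟨y, hy, hyx⟩ : ∃ y ∈ s, y ≠ x := by
      simpa [Set.not_subset] using h1
    have hs' : s = {x, y} := (Set.eq_of_subset_of_ncard_le
      (Set.insert_subset hx (Set.singleton_subset_iff.mpr hy))
      (by rw [Set.ncard_pair hyx.symm]; exact hs) (Set.toFinite s)).symm
    refine Or.inr ⟨x, y, hyx.symm, fun h => ?_⟩
    have hx' := hinv h x hx
    have hy' := hinv h y hy
    rw [hs'] at hx' hy'
    simp only [Set.mem_insert_iff, Set.mem_singleton_iff] at hx' hy'
    have hinj : h • x ≠ h • y := fun e => hyx (MulAction.injective h e).symm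
    rcases hx' with e | e <;> rcases hy' with e' | e'
    · exact absurd (e.trans e'.symm) hinj
    · exact Or.inl ⟨e, e'⟩
    · exact Or.inr ⟨e, e'⟩
    · exact absurd (e.trans e'.symm) hinj

theorem hasSmallOrbit_of_orbit {x : X} (h : (orbit H x).ncard ≤ 2) : HasSmallOrbit H X :=
  hasSmallOrbit_of_ncard_le_two h ⟨x, mem_orbit_self x⟩ fun h _ hy => smul_mem_orbit' h hy

variable (hfix : ∀ h : H, h ≠ 1 → (fixedBy X h).ncard = 1 ∨ (fixedBy X h).ncard = 2)
include hfix

theorem hasSmallOrbit_of_normal_cyclic (N : Subgroup H) [N.Normal] (hne : N ≠ ⊥) (hc : IsCyclic N) :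
    HasSmallOrbit H X := by
  obtain ⟨⟨c, hcN⟩, hgen⟩ := hc.exists_generator
  have hc1 : c ≠ 1 := by
    rintro rfl
    refine hne ((Subgroup.eq_bot_iff_forall _).mpr fun y hy => ?_)
    obtain ⟨k, hk⟩ := Subgroup.mem_zpowers_iff.mp (hgen ⟨y, hy⟩)
    have := congrArg Subtype.val hk
    simp at this
    exact this.symm
  refine hasSmallOrbit_of_ncard_le_two (s := fixedBy X c) ?_ ?_ fun h x hx => ?_
  · rcases hfix c hc1 with e | e <;> omega
  · exact Set.nonempty_of_ncard_ne_zero (by rcases hfix c hc1 with e | e <;> omega)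
  · obtain ⟨k, hk⟩ := Subgroup.mem_zpowers_iff.mp
      (hgen ⟨h⁻¹ * c * h, by simpa using Subgroup.Normal.conj_mem ‹_› c hcN h⁻¹⟩)
    have hk' := congrArg Subtype.val hk
    simp only [Subgroup.coe_zpow] at hk'
    have hck : (c ^ k) • x = x := by
      have : c ∈ stabilizer H x := hx
      exact (Subgroup.zpow_mem _ this k : c ^ k ∈ stabilizer H x)
    rw [hk', mul_smul, mul_smul, inv_smul_eq_iff] at hck
    exact hck

variable (p : ℕ) [hp : Fact p.Prime] (A : X → Subgroup H) (hA : ∀ x, IsPGroup p (A x))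
  (hmem : ∀ x h, h ∈ A x ↔ h = 1 ∨ fixedBy X h = {x})
  (hstab : ∀ x : X, stabilizer H x ≠ ⊥) (hne : 1 < Nat.card H)

include hA hmem

theorem A_le_stabilizer (x : X) : A x ≤ stabilizer H x := by
  intro a ha
  rcases (hmem x a).mp ha with rfl | e
  · exact one_mem _
  · show a ∈ stabilizer H x
    rw [mem_stabilizer_iff]
    exact (e.symm ▸ Set.mem_singleton x : x ∈ fixedBy X a)

theorem fixedBy_conj (g h : H) (x : X) :
    g • x ∈ fixedBy X (g * h * g⁻¹) ↔ x ∈ fixedBy X h := by
  simp [MulAction.mem_fixedBy, mul_smul]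

theorem conj_mem_A {g h : H} {x : X} (hh : h ∈ A x) : g * h * g⁻¹ ∈ A (g • x) := by
  rw [hmem]
  rcases (hmem x h).mp hh with rfl | e
  · left; group
  · right
    ext y
    obtain ⟨z, rfl⟩ : ∃ z, g • z = y := ⟨g⁻¹ • y, smul_inv_smul g y⟩
    rw [fixedBy_conj (X := X) hfix p A hA hmem, e]
    simp

theorem eq_one_of_mem_A {h : H} {x y : X} (hh : h ∈ A x) (hy : h • y = y) (hne : y ≠ x) : h = 1 := by
  rcases (hmem x h).mp hh with rfl | e
  · rfl
  · have : y ∈ fixedBy X h := hy
    rw [e] at this
    exact absurd this hne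

/-- The number of elements of the one-point subgroup divides every orbit length away from it. -/
theorem card_A_dvd (x : X) (s : Set X) (hx : x ∉ s) (hinv : ∀ h ∈ A x, ∀ y ∈ s, h • y ∈ s) :
    Nat.card (A x) ∣ s.ncard := by
  let act : MulAction (A x) s :=
    { smul := fun h y => ⟨(h : H) • (y : X), hinv h h.2 y y.2⟩
      one_smul := fun y => Subtype.ext (one_smul H (y : X))
      mul_smul := fun a b y => Subtype.ext (mul_smul (a : H) (b : H) (y : X)) }
  letI := act
  have hfree : ∀ y : s, stabilizer (A x) y = ⊥ := fun y => (Subgroup.eq_bot_iff_forall _).mpr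
    fun h hh => Subtype.ext (eq_one_of_mem_A hfix p A hA hmem h.2 (congrArg Subtype.val hh)
      (fun e => hx (e ▸ y.2)))
  have e := MulAction.selfEquivSigmaOrbitsQuotientStabilizer (A x) s
  haveI : Fintype (Quotient (orbitRel (A x) s)) := Fintype.ofFinite _
  rw [← Nat.card_coe_set_eq s, Nat.card_congr e, Nat.card_sigma]
  refine Finset.dvd_sum fun ω _ => ?_
  rw [← Subgroup.index_eq_card, hfree, Subgroup.index_bot]

theorem card_A_congr (g : H) (x : X) : Nat.card (A (g • x)) = Nat.card (A x) := by
  refine (Nat.card_congr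
    { toFun := fun h : A x => (⟨g * (h : H) * g⁻¹, conj_mem_A hfix p A hA hmem h.2⟩ : A (g • x))
      invFun := fun h : A (g • x) => ⟨g⁻¹ * (h : H) * g, by
        have := conj_mem_A (g := g⁻¹) hfix p A hA hmem h.2
        rwa [inv_inv, inv_smul_smul] at this⟩
      left_inv := fun h => Subtype.ext (by simp [mul_assoc])
      right_inv := fun h => Subtype.ext (by simp [mul_assoc]) }).symm

theorem dvd_card_A {x : X} (hx : A x ≠ ⊥) : p ∣ Nat.card (A x) := by
  obtain ⟨k, hk⟩ := IsPGroup.iff_card.mp (hA x)
  rcases k with _ | k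
  · exact absurd (Subgroup.eq_bot_of_card_eq _ (by simpa using hk)) hx
  · exact hk ▸ dvd_pow_self p (Nat.succ_ne_zero k)

/-- All points that are unique fixed points form one orbit. -/
theorem mem_orbit_of_A_ne_bot {x y : X} (hx : A x ≠ ⊥) (hy : A y ≠ ⊥) : y ∈ orbit H x := by
  by_contra hne
  have h1 : p ∣ (orbit H y).ncard :=
    (dvd_card_A hfix p A hA hmem hx).trans (card_A_dvd hfix p A hA hmem x _
      (fun e => hne (mem_orbit_symm.mp e)) fun h _ z hz => smul_mem_orbit' h hz)
  have h2 : p ∣ (orbit H y \ {y}).ncard :=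
    (dvd_card_A hfix p A hA hmem hy).trans (card_A_dvd hfix p A hA hmem y _ (fun e => e.2 rfl)
      fun h hh z hz => ⟨smul_mem_orbit' h hz.1, fun e => hz.2 (by
        have : h • y = y := A_le_stabilizer hfix p A hA hmem y hh
        exact MulAction.injective h ((Set.mem_singleton_iff.mp e).trans this.symm))⟩)
  rw [Set.ncard_diff_singleton_of_mem (mem_orbit_self y)] at h2
  have hpos : 0 < (orbit H y).ncard := (Set.ncard_pos (Set.toFinite _)).mpr ⟨y, mem_orbit_self y⟩
  have h3 := Nat.dvd_sub h1 h2
  rw [show (orbit H y).ncard - ((orbit H y).ncard - 1) = 1 by omega] at h3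
  exact hp.out.ne_one (Nat.dvd_one.mp h3)

/-- The stabilizer of a unique fixed point is small. -/
theorem card_stabilizer_le {x : X} (hx : A x ≠ ⊥) :
    ∃ t, Nat.card (stabilizer H x) = t * Nat.card (A x) ∧ t ≤ Nat.card (A x) - 1 := by
  classical
  obtain ⟨t, ht⟩ := Subgroup.card_dvd_of_le (A_le_stabilizer hfix p A hA hmem x)
  refine ⟨t, by rw [ht, mul_comm], ?_⟩
  obtain ⟨a, ha, ha1⟩ := (A x).bot_or_exists_ne_one.resolve_left hx
  have hafix : fixedBy X a = {x} := ((hmem x a).mp ha).resolve_left ha1
  let S := stabilizer H x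
  let φ : S → {b : A x // b ≠ 1} := fun h => ⟨⟨(h : H) * a * (h : H)⁻¹, by
      have := conj_mem_A (g := (h : H)) hfix p A hA hmem ha
      rwa [mem_stabilizer_iff.mp h.2] at this⟩, fun e => ha1 (by
      have := congrArg Subtype.val e
      simpa using this)⟩
  haveI : Fintype S := Fintype.ofFinite _
  haveI : Fintype {b : A x // b ≠ 1} := Fintype.ofFinite _
  have hfib : ∀ b ∈ (Finset.univ : Finset {b : A x // b ≠ 1}),
      ((Finset.univ : Finset S).filter (φ · = b)).card ≤ Nat.card (A x) := by
    intro b _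
    rcases Finset.eq_empty_or_nonempty ((Finset.univ : Finset S).filter (φ · = b)) with e | ⟨h₀, hh₀⟩
    · simp [e]
    rw [← Fintype.card_coe, ← Nat.card_eq_fintype_card]
    refine Nat.card_le_card_of_injective (fun h => (⟨((h₀ : H))⁻¹ * ((h : S) : H), ?_⟩ : A x)) ?_
    · have e1 : ((h₀ : H)) * a * (h₀ : H)⁻¹ = ((h : S) : H) * a * ((h : S) : H)⁻¹ := by
        have := (Finset.mem_filter.mp hh₀).2.trans (Finset.mem_filter.mp h.2).2.symm
        exact congrArg (fun z : {b : A x // b ≠ 1} => ((z.1 : A x) : H)) this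
      set w := ((h₀ : H))⁻¹ * ((h : S) : H) with hw
      have hwx : w • x = x := by
        rw [hw, mul_smul, mem_stabilizer_iff.mp (h : S).2, inv_smul_eq_iff, mem_stabilizer_iff.mp h₀.2]
      have hcomm : w * a = a * w := by
        rw [hw]
        calc (h₀ : H)⁻¹ * ((h : S) : H) * a
            = (h₀ : H)⁻¹ * (((h : S) : H) * a * ((h : S) : H)⁻¹) * ((h : S) : H) := by group
          _ = (h₀ : H)⁻¹ * ((h₀ : H) * a * (h₀ : H)⁻¹) * ((h : S) : H) := by rw [e1]
          _ = a * ((h₀ : H)⁻¹ * ((h : S) : H)) := by group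
      rw [hmem]
      by_cases hw1 : w = 1
      · exact Or.inl hw1
      right
      refine Set.Subset.antisymm (fun y hy => ?_) (Set.singleton_subset_iff.mpr hwx)
      by_contra hyx
      have hay : a • y ∈ fixedBy X w := by
        show w • a • y = a • y
        rw [← mul_smul, hcomm, mul_smul, hy]
      have hsub : ({x, y, a • y} : Set X) ⊆ fixedBy X w :=
        Set.insert_subset hwx (Set.insert_subset hy (Set.singleton_subset_iff.mpr hay))
      have hyy : a • y ≠ y := fun e => hyx (by
        have : y ∈ fixedBy X a := e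
        rwa [hafix] at this)
      have hxy : a • y ≠ x := fun e => hyx (by
        have h2 : a • x = x := A_le_stabilizer hfix p A hA hmem x ha
        exact Set.mem_singleton_iff.mpr (MulAction.injective a (e.trans h2.symm)))
      have hcard : ({x, y, a • y} : Set X).ncard = 3 := by
        rw [Set.ncard_insert_of_notMem (by simp [Ne.symm (fun e : y = x => hyx e), Ne.symm hxy]),
          Set.ncard_pair hyy.symm]
      have := Set.ncard_le_ncard hsub (Set.toFinite _)
      rcases hfix w hw1 with e | e <;> omega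
    · intro h k e
      have e' := mul_left_cancel (congrArg Subtype.val e)
      exact Subtype.ext (Subtype.ext e')
  have hle := Finset.card_le_mul_card_image_of_maps_to (f := φ) (s := (Finset.univ : Finset S))
    (t := Finset.univ) (fun _ _ => Finset.mem_univ _) _ hfib
  rw [Finset.card_univ, Finset.card_univ, ← Nat.card_eq_fintype_card, ← Nat.card_eq_fintype_card] at hle
  have hb : Nat.card {b : A x // b ≠ 1} = Nat.card (A x) - 1 := by
    haveI : Fintype (A x) := Fintype.ofFinite _
    rw [Nat.card_eq_fintype_card, Nat.card_eq_fintype_card, Fintype.card_subtype_compl,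
      Fintype.card_subtype_eq]
  rw [hb, ht] at hle
  exact Nat.le_of_mul_le_mul_left hle Nat.card_pos

include hstab hne

/-- The possible configurations. -/
theorem configuration :
    HasSmallOrbit H X ∨ Nat.card H = 12 ∨ Nat.card H = 24 ∨ Nat.card H = 60 ∨
      ∃ x : X, 3 ≤ Nat.card (A x) ∧ (orbit H x).ncard = Nat.card (A x) + 1 ∧
        (Nat.card H = (Nat.card (A x) + 1) * Nat.card (A x) * (Nat.card (A x) - 1) ∨
          2 * Nat.card H = (Nat.card (A x) + 1) * Nat.card (A x) * (Nat.card (A x) - 1)) := by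
  classical
  haveI : Fintype H := Fintype.ofFinite _
  haveI : Fintype X := Fintype.ofFinite _
  by_cases hsmall : HasSmallOrbit H X
  · exact Or.inl hsmall
  right
  set Ω := Quotient (orbitRel H X)
  haveI : Fintype Ω := Fintype.ofFinite _
  set g := Nat.card H with hg
  have hgpos : 0 < g := Nat.card_pos
  let f : Ω → ℕ := fun ω => (orbit H ω.out).ncard
  have hf : ∀ ω, ∃ e, 2 ≤ e ∧ f ω * e = g := by
    intro ω
    refine ⟨Nat.card (stabilizer H ω.out), ?_, ?_⟩
    · have := (Subgroup.one_lt_card_iff_ne_bot _).mpr (hstab ω.out)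
      omega
    · show (orbit H ω.out).ncard * _ = g
      rw [← index_stabilizer, Subgroup.index_mul_card]
  have hfg : ∀ ω, 2 * f ω ≤ g := by
    intro ω
    obtain ⟨e, he, heq⟩ := hf ω
    nlinarith
  have hfbig : ∀ ω, 3 ≤ f ω := by
    intro ω
    by_contra h
    have he : f ω = (orbit H ω.out).ncard := rfl
    exact hsmall (hasSmallOrbit_of_orbit (x := ω.out) (by omega))
  have hX : Nat.card X = ∑ ω, f ω := by
    rw [Nat.card_congr (MulAction.selfEquivSigmaOrbits H X), Nat.card_sigma]
    exact Finset.sum_congr rfl fun ω _ => Nat.card_coe_set_eq _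
  have hB : (∑ h : H, (fixedBy X h).ncard) = Fintype.card Ω * g := by
    have := Nat.card_congr (MulAction.sigmaFixedByEquivOrbitsProdGroup H X)
    rw [Nat.card_sigma, Nat.card_prod, Nat.card_eq_fintype_card (α := Ω)] at this
    rw [← this]
    exact Finset.sum_congr rfl fun h _ => (Nat.card_coe_set_eq _).symm
  set S := (Finset.univ : Finset H).filter fun h => h ≠ 1 ∧ (fixedBy X h).ncard = 1 with hS
  have hsum : (∑ h : H, (fixedBy X h).ncard) + S.card + 2 = Nat.card X + 2 * g := by
    have h1 : ∀ h : H, (fixedBy X h).ncard + (if h ∈ S then 1 else 0) + (if h = 1 then 2 else 0) =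
        2 + (if h = 1 then Nat.card X else 0) := by
      intro h
      by_cases h1 : h = 1
      · subst h1
        simp [hS, Set.ncard_univ]
        omega
      · rcases hfix h h1 with e | e
        · have hm : h ∈ S := Finset.mem_filter.mpr ⟨Finset.mem_univ _, h1, e⟩
          rw [if_pos hm, if_neg h1, if_neg h1, e]
        · have hm : h ∉ S := fun m => by
            have := (Finset.mem_filter.mp m).2.2
            omega
          rw [if_neg hm, if_neg h1, if_neg h1, e]
    have h2 := Finset.sum_congr rfl fun h (_ : h ∈ (Finset.univ : Finset H)) => h1 h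
    rw [Finset.sum_add_distrib, Finset.sum_add_distrib, Finset.sum_add_distrib] at h2
    simp only [Finset.sum_ite_mem, Finset.univ_inter, Finset.sum_ite_eq', Finset.mem_univ, if_true,
      Finset.sum_const, smul_eq_mul, mul_one, Finset.card_univ] at h2
    rw [hg, Nat.card_eq_fintype_card (α := H)]
    omega
  rw [hB] at hsum
  by_cases hU : ∃ x, A x ≠ ⊥
  swap
  · push Not at hU
    have hS0 : S.card = 0 := by
      rw [Finset.card_eq_zero, Finset.eq_empty_iff_forall_notMem]
      intro h hh
      obtain ⟨h1, h2⟩ := (Finset.mem_filter.mp hh).2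
      obtain ⟨x, hx⟩ := Set.ncard_eq_one.mp h2
      have : h ∈ A x := (hmem x h).mpr (Or.inr hx)
      rw [hU x, Subgroup.mem_bot] at this
      exact h1 this
    have hle : 2 * Nat.card X ≤ Fintype.card Ω * g := by
      rw [hX, Finset.mul_sum]
      calc ∑ ω, 2 * f ω ≤ ∑ _ω : Ω, g := Finset.sum_le_sum fun ω _ => hfg ω
        _ = Fintype.card Ω * g := by simp
    have hk3 : Fintype.card Ω ≤ 3 := by
      by_contra h
      nlinarith [Nat.mul_le_mul_right g (show 4 ≤ Fintype.card Ω by omega)]
    obtain ⟨k, hk⟩ : ∃ k, Fintype.card Ω = k := ⟨_, rfl⟩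
    rw [hk] at hsum hle hk3
    interval_cases k
    · simp only [zero_mul] at hsum hle
      omega
    · simp only [one_mul] at hsum hle
      obtain ⟨ω⟩ : Nonempty Ω := Fintype.card_pos_iff.mp (by omega)
      have h1 := hfbig ω
      have h2 : f ω ≤ Nat.card X := hX ▸ Finset.single_le_sum (fun i _ => Nat.zero_le _) (Finset.mem_univ ω)
      omega
    · exfalso
      have hX2 : Nat.card X = 2 := by omega
      obtain ⟨ω⟩ : Nonempty Ω := Fintype.card_pos_iff.mp (by omega)
      have h1 := hfbig ω
      have h2 : f ω ≤ Nat.card X := hX ▸ Finset.single_le_sum (fun i _ => Nat.zero_le _) (Finset.mem_univ ω)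
      omega
    · obtain ⟨a, b, c, hab, hac, hbc, huniv⟩ := Finset.card_eq_three.mp (show (Finset.univ : Finset Ω).card = 3 from hk)
      have hX3 : Nat.card X = f a + f b + f c := by
        rw [hX, huniv, Finset.sum_insert (by simp [hab, hac]), Finset.sum_pair hbc, add_assoc]
      have key : ∀ u v w : Ω, f v ≤ f u → f w ≤ f v → f u + f v + f w = g + 2 →
          g = 12 ∨ g = 24 ∨ g = 60 := by
        intro u v w huv hvw h
        obtain ⟨eu, heu, hu⟩ := hf u
        obtain ⟨ev, hev, hv⟩ := hf v
        obtain ⟨ew, hew, hw⟩ := hf w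
        rcases arith_three hgpos huv hvw heu hev hew hu hv hw h with e | e
        · exact absurd e (by have := hfbig w; omega)
        · exact e
      have hres : g = 12 ∨ g = 24 ∨ g = 60 := by
        rcases le_total (f b) (f a) with h1 | h1 <;> rcases le_total (f c) (f b) with h2 | h2 <;>
          rcases le_total (f c) (f a) with h3 | h3
        all_goals first
          | exact key a b c (by omega) (by omega) (by omega)
          | exact key a c b (by omega) (by omega) (by omega)
          | exact key b a c (by omega) (by omega) (by omega)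
          | exact key b c a (by omega) (by omega) (by omega)
          | exact key c a b (by omega) (by omega) (by omega)
          | exact key c b a (by omega) (by omega) (by omega)
      tauto
  · obtain ⟨x, hx⟩ := hU
    set n := (orbit H x).ncard with hn
    set P := Nat.card (A x) with hP
    have hP1 : 2 ≤ P := (Subgroup.one_lt_card_iff_ne_bot _).mpr hx
    have hSc : S.card = n * (P - 1) := by
      haveI : Nonempty X := ⟨x⟩
      choose! F hF using fun h (hh : h ∈ S) => Set.ncard_eq_one.mp (Finset.mem_filter.mp hh).2.2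
      rw [Finset.card_eq_sum_card_fiberwise (f := F) (t := (orbit H x).toFinset)]
      · rw [Finset.sum_const_nat (m := P - 1), ← Set.ncard_eq_toFinset_card']
        intro y hy
        obtain ⟨u, rfl⟩ : y ∈ orbit H x := Set.mem_toFinset.mp hy
        simp only
        rw [show S.filter (fun h => F h = u • x) =
          (Finset.univ.filter fun h => h ∈ A (u • x)).erase 1 from ?_]
        · rw [Finset.card_erase_of_mem (by simp [one_mem]), ← Fintype.card_subtype,
            ← Nat.card_eq_fintype_card, hP, ← card_A_congr hfix p A hA hmem u x]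
        · ext h
          simp only [Finset.mem_filter, Finset.mem_erase, Finset.mem_univ, true_and]
          constructor
          · rintro ⟨hh, e⟩
            exact ⟨(Finset.mem_filter.mp hh).2.1, (hmem _ h).mpr (Or.inr (e ▸ hF h hh))⟩
          · rintro ⟨h1, hh⟩
            have hxe := ((hmem _ h).mp hh).resolve_left h1
            have hhS : h ∈ S := Finset.mem_filter.mpr ⟨Finset.mem_univ _, h1, by
              rw [hxe, Set.ncard_singleton]⟩
            exact ⟨hhS, Set.singleton_eq_singleton_iff.mp ((hF h hhS).symm.trans hxe)⟩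
      · intro h hh
        have h1 := (Finset.mem_filter.mp hh).2.1
        have : A (F h) ≠ ⊥ := fun e => h1 (by
          have h2 : h ∈ A (F h) := (hmem _ h).mpr (Or.inr (hF h hh))
          rwa [e, Subgroup.mem_bot] at h2)
        exact Set.mem_toFinset.mpr (mem_orbit_of_A_ne_bot hfix p A hA hmem hx this)
    obtain ⟨t, hts, htle⟩ := card_stabilizer_le hfix p A hA hmem hx
    rw [← hP] at hts htle
    have hgn : g = n * (t * P) := by
      rw [← hts, hn, ← index_stabilizer, Subgroup.index_mul_card]
    obtain ⟨k, hk⟩ : ∃ k, n = 1 + k * P := by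
      have h := card_A_dvd hfix p A hA hmem x (orbit H x \ {x}) (fun e => e.2 rfl)
        fun h hh z hz => ⟨smul_mem_orbit' h hz.1, fun e => hz.2 (by
          have h2 : h • x = x := A_le_stabilizer hfix p A hA hmem x hh
          exact MulAction.injective h ((Set.mem_singleton_iff.mp e).trans h2.symm))⟩
      rw [Set.ncard_diff_singleton_of_mem (mem_orbit_self x), ← hP, ← hn] at h
      obtain ⟨k, hk⟩ := h
      have hpos : 0 < n := (Set.ncard_pos (Set.toFinite _)).mpr ⟨x, mem_orbit_self x⟩
      exact ⟨k, by rw [mul_comm k]; omega⟩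
    have hn3 : 3 ≤ n := by
      by_contra h
      exact hsmall (hasSmallOrbit_of_orbit (x := x) (by omega))
    set ω₀ : Ω := Quotient.mk'' x with hω₀
    have hfω₀ : f ω₀ = n := by
      have hr : ω₀.out ∈ orbit H x := orbitRel_apply.mp (Quotient.exact' (Quotient.out_eq' ω₀))
      show (orbit H ω₀.out).ncard = n
      rw [orbit_eq_iff.mpr hr]
    have hrest : 2 * (Nat.card X - n) ≤ (Fintype.card Ω - 1) * g := by
      rw [hX, ← Finset.add_sum_erase _ _ (Finset.mem_univ ω₀), hfω₀, Nat.add_sub_cancel_left,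
        Finset.mul_sum]
      calc ∑ ω ∈ Finset.univ.erase ω₀, 2 * f ω ≤ ∑ _ω ∈ Finset.univ.erase ω₀, g :=
            Finset.sum_le_sum fun ω _ => hfg ω
        _ = (Fintype.card Ω - 1) * g := by
            rw [Finset.sum_const, smul_eq_mul, Finset.card_erase_of_mem (Finset.mem_univ _), Finset.card_univ]
    have hnX : n ≤ Nat.card X := hfω₀ ▸ hX ▸ Finset.single_le_sum (fun i _ => Nat.zero_le _) (Finset.mem_univ ω₀)
    obtain ⟨K, hK⟩ : ∃ K, Fintype.card Ω = K + 1 := ⟨Fintype.card Ω - 1, by
      have : 0 < Fintype.card Ω := Fintype.card_pos_iff.mpr ⟨ω₀⟩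
      omega⟩
    obtain ⟨Q, hQ⟩ : ∃ Q, P = Q + 2 := ⟨P - 2, by omega⟩
    rw [hK] at hsum hrest
    rw [hSc, hQ] at hsum
    simp only [Nat.add_sub_cancel] at hrest
    rw [show Q + 2 - 1 = Q + 1 by omega] at hsum
    obtain ⟨R, hR⟩ := Nat.exists_eq_add_of_le hnX
    rw [hR, Nat.add_sub_cancel_left] at hrest
    rw [hR] at hsum
    have hK1 : K = 1 := by
      rcases K with _ | _ | K
      · exfalso
        have hR0 : R = 0 := by simpa using hrest
        subst hR0
        obtain ⟨e, he, heq⟩ := hf ω₀
        rw [hfω₀] at heq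
        rw [hQ] at htle hgn
        rcases Nat.eq_zero_or_pos t with rfl | ht
        · simp at hgn
          omega
        · nlinarith [Nat.mul_le_mul_left n (show 1 * (Q + 2) ≤ t * (Q + 2) from Nat.mul_le_mul_right _ ht)]
      · rfl
      · exact absurd (arith_K_le hsum hrest) (by omega)
    subst hK1
    obtain ⟨ω₁, hω₁, hne⟩ := Finset.exists_mem_ne (show 1 < (Finset.univ : Finset Ω).card by
      rw [Finset.card_univ, hK]; omega) ω₀
    obtain ⟨e, he, heq⟩ := hf ω₁
    have hω : f ω₁ = R := by
      have huniv : (Finset.univ : Finset Ω) = {ω₀, ω₁} := (Finset.eq_of_subset_of_card_le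
        (Finset.subset_univ _) (by rw [Finset.card_univ, hK, Finset.card_pair hne.symm])).symm
      rw [huniv, Finset.sum_pair hne.symm, hfω₀, hR] at hX
      omega
    have hm : R = n * Q + 2 := by
      simp only [Nat.reduceAdd, mul_add, mul_one] at hsum
      omega
    have hQ0 : 1 ≤ Q := by
      rcases Nat.eq_zero_or_pos Q with rfl | h
      · have := hfbig ω₁
        omega
      · exact h
    rw [hω, hgn, hQ] at heq
    rcases arith_one_fix (P := Q + 2) (n := n) (t := t) (e := e) (m := R) (by omega)
        (by rw [Nat.add_sub_cancel]; exact hm) (by rw [mul_comm e]; exact heq) (by omega)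
        ⟨k, by rcases Nat.eq_zero_or_pos k with rfl | h <;> omega, hQ ▸ hk⟩ (hQ ▸ htle)
      with ⟨h1, h2⟩ | ⟨h1, h2, h3⟩
    · refine Or.inr (Or.inr (Or.inr ⟨x, by omega, by rw [← hn, h1, ← hQ], ?_⟩))
      rw [← hP, hgn, hQ, h1]
      rcases h2 with h2 | h2
      · left; rw [h2]; ring
      · right; rw [← h2]; ring
    · right; right; left
      rw [hgn, hQ, h1, h2, h3]

end Cfsg.Lib.Dickson
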