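import Mathlib
import Cfsg.Agent.Lib.Dickson.Count
import Cfsg.Agent.Lib.Dickson.SmallIds

/-!
# Finite subgroups of `PGL₂` over an algebraically closed field: geometry of the projective line
-/

set_option autoImplicit false
set_option linter.unusedSectionVars false

namespace Cfsg.Lib.Dickson

open Matrix MulAction
open scoped MatrixGroups OnePoint

variable {E : Type*} [Field E] [DecidableEq E]

local notation "G2" => Matrix.ProjGenLinGroup (Fin 2) E

theorem scalar_smul (u : Eˣ) (x : OnePoint E) : GeneralLinearGroup.scalar (Fin 2) u • x = x := by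
  cases x with
  | infty =>
    rw [OnePoint.smul_infty_eq_self_iff]
    simp
  | coe k =>
    rw [OnePoint.smul_some_eq_ite]
    simp

/-- The action of `PGL₂` on the projective line. -/
noncomputable instance lineAction : MulAction (Matrix.ProjGenLinGroup (Fin 2) E) (OnePoint E) :=
  Matrix.ProjGenLinGroup.mulActionOfGL scalar_smul

theorem mk_smul' (g : GL (Fin 2) E) (x : OnePoint E) : (ProjGenLinGroup.mk g : G2) • x = g • x := rfl

/-- The affine map `x ↦ a x + b`. -/
noncomputable def affGL (a : Eˣ) (b : E) : GL (Fin 2) E :=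
  GeneralLinearGroup.mkOfDetNeZero !![(a : E), b; 0, 1] (by simp [det_fin_two])

/-- The affine map `x ↦ a x + b` in `PGL₂`. -/
noncomputable def aff (a : Eˣ) (b : E) : Matrix.ProjGenLinGroup (Fin 2) E :=
  ProjGenLinGroup.mk (affGL a b)

theorem affGL_coe (a : Eˣ) (b : E) : (affGL a b : Matrix (Fin 2) (Fin 2) E) = !![(a : E), b; 0, 1] := rfl

theorem aff_infty (a : Eˣ) (b : E) : (aff a b : G2) • (∞ : OnePoint E) = ∞ := by
  rw [aff, mk_smul', OnePoint.smul_infty_eq_self_iff, affGL_coe]
  simp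

theorem aff_some (a : Eˣ) (b x : E) : (aff a b : G2) • (x : OnePoint E) = ((a * x + b : E) : OnePoint E) := by
  rw [aff, mk_smul', OnePoint.smul_some_eq_ite, affGL_coe]
  simp

theorem aff_mul (a c : Eˣ) (b d : E) : (aff a b : G2) * aff c d = aff (a * c) (a * d + b) := by
  rw [aff, aff, aff, ← map_mul]
  congr 1
  apply Units.ext
  rw [Units.val_mul, affGL_coe, affGL_coe, affGL_coe]
  ext i j
  fin_cases i <;> fin_cases j <;> simp [Matrix.mul_apply, Fin.sum_univ_two]

theorem aff_one : (aff 1 0 : G2) = 1 := by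
  rw [aff, show affGL (1 : Eˣ) (0 : E) = 1 from Units.ext (by
    rw [affGL_coe]; ext i j; fin_cases i <;> fin_cases j <;> simp)]
  exact map_one _

theorem aff_inv (a : Eˣ) (b : E) : (aff a b : G2)⁻¹ = aff a⁻¹ (-((a⁻¹ : Eˣ) : E) * b) := by
  rw [inv_eq_iff_mul_eq_one, aff_mul]
  convert aff_one (E := E) using 2
  · simp
  · rw [neg_mul, mul_neg, ← mul_assoc, Units.mul_inv]; simp

theorem aff_injective {a c : Eˣ} {b d : E} (h : (aff a b : G2) = aff c d) : a = c ∧ b = d := by
  have h0 := congrArg (fun g : G2 => g • ((0 : E) : OnePoint E)) h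
  have h1 := congrArg (fun g : G2 => g • ((1 : E) : OnePoint E)) h
  simp only [aff_some, OnePoint.coe_eq_coe, mul_zero, mul_one, zero_add] at h0 h1
  subst h0
  exact ⟨Units.ext (add_right_cancel h1), rfl⟩

theorem exists_aff_of_smul_infty {g : G2} (h : g • (∞ : OnePoint E) = ∞) : ∃ a b, g = aff a b := by
  induction g using Matrix.ProjGenLinGroup.induction_on with | mk g =>
  rw [mk_smul', OnePoint.smul_infty_eq_self_iff] at h
  have hd : g 1 1 ≠ 0 := fun e => g.det_ne_zero (by rw [det_fin_two, h, e]; ring)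
  have ha : g 0 0 ≠ 0 := fun e => g.det_ne_zero (by rw [det_fin_two, h, e]; ring)
  refine ⟨Units.mk0 (g 0 0 / g 1 1) (div_ne_zero ha hd), g 0 1 / g 1 1,
    ProjGenLinGroup.mk_eq_mk_iff.mpr ⟨Units.mk0 (g 1 1)⁻¹ (inv_ne_zero hd), Units.ext ?_⟩⟩
  rw [Units.val_mul, affGL_coe]
  ext i j
  fin_cases i <;> fin_cases j <;>
    simp [Matrix.mul_apply, Fin.sum_univ_two, h, hd, div_eq_mul_inv]

/-- The inversion `x ↦ c / x`. -/
noncomputable def flipGL (c : Eˣ) : GL (Fin 2) E :=
  GeneralLinearGroup.mkOfDetNeZero !![0, (c : E); 1, 0] (by simp [det_fin_two])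

/-- The inversion `x ↦ c / x` in `PGL₂`. -/
noncomputable def flip' (c : Eˣ) : Matrix.ProjGenLinGroup (Fin 2) E := ProjGenLinGroup.mk (flipGL c)

theorem flipGL_coe (c : Eˣ) : (flipGL c : Matrix (Fin 2) (Fin 2) E) = !![0, (c : E); 1, 0] := rfl

theorem flip_infty (c : Eˣ) : (flip' c : G2) • (∞ : OnePoint E) = ((0 : E) : OnePoint E) := by
  rw [flip', mk_smul', OnePoint.smul_infty_eq_ite, flipGL_coe]
  simp

theorem flip_zero (c : Eˣ) : (flip' c : G2) • ((0 : E) : OnePoint E) = ∞ := by
  rw [flip', mk_smul', OnePoint.smul_some_eq_ite, flipGL_coe]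
  simp

theorem flip_some (c : Eˣ) {x : E} (hx : x ≠ 0) :
    (flip' c : G2) • (x : OnePoint E) = ((c / x : E) : OnePoint E) := by
  rw [flip', mk_smul', OnePoint.smul_some_eq_ite, flipGL_coe]
  simp [hx]

theorem exists_flip {g : G2} (h1 : g • (∞ : OnePoint E) = ((0 : E) : OnePoint E))
    (h2 : g • ((0 : E) : OnePoint E) = ∞) : ∃ c, g = flip' c := by
  have hfix : ((flip' (1 : Eˣ) : G2) * g) • (∞ : OnePoint E) = ∞ := by rw [mul_smul, h1, flip_zero]
  obtain ⟨a, b, hab⟩ := exists_aff_of_smul_infty hfix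
  have hb : b = 0 := by
    have h := congrArg (fun z : G2 => z • ((0 : E) : OnePoint E)) hab
    simp only [mul_smul, h2, flip_infty, aff_some, OnePoint.coe_eq_coe, mul_zero, zero_add] at h
    exact h.symm
  subst hb
  refine ⟨a⁻¹, ?_⟩
  have : g = (flip' (1 : Eˣ) : G2)⁻¹ * aff a 0 := by rw [← hab, inv_mul_cancel_left]
  rw [this, inv_mul_eq_iff_eq_mul, flip', flip', aff, ← map_mul]
  refine (ProjGenLinGroup.mk_eq_mk_iff.mpr ⟨Units.mk0 (a : E)⁻¹ (inv_ne_zero a.ne_zero), Units.ext ?_⟩)
  rw [Units.val_mul, Units.val_mul, affGL_coe, flipGL_coe, flipGL_coe]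
  ext i j
  fin_cases i <;> fin_cases j <;> simp [Matrix.mul_apply, Fin.sum_univ_two]

theorem exists_smul_infty (x : OnePoint E) : ∃ u : G2, u • x = ∞ := by
  cases x with
  | infty => exact ⟨1, one_smul _ _⟩
  | coe a => exact ⟨flip' 1 * aff 1 (-a), by rw [mul_smul, aff_some]; simp [flip_zero]⟩

theorem exists_smul_pair {x y : OnePoint E} (hxy : x ≠ y) :
    ∃ u : G2, u • x = ∞ ∧ u • y = ((0 : E) : OnePoint E) := by
  obtain ⟨u, hu⟩ := exists_smul_infty x
  obtain ⟨b, hb⟩ : ∃ b : E, (b : OnePoint E) = u • y := by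
    rcases hc : u • y with _ | b
    · exact absurd (MulAction.injective u (hu.trans hc.symm)) hxy
    · exact ⟨b, rfl⟩
  refine ⟨aff 1 (-b) * u, by rw [mul_smul, hu, aff_infty], ?_⟩
  rw [mul_smul, ← hb, aff_some]
  simp

theorem fixedBy_conj_eq (u g : G2) :
    fixedBy (OnePoint E) (u * g * u⁻¹) = (fun x => u • x) '' fixedBy (OnePoint E) g := by
  ext y
  simp only [mem_fixedBy, Set.mem_image, mul_smul]
  constructor
  · intro h
    exact ⟨u⁻¹ • y, by rw [eq_inv_smul_iff]; exact h, smul_inv_smul u y⟩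
  · rintro ⟨x, hx, rfl⟩
    rw [inv_smul_smul, hx]

theorem fixedBy_aff_ne {a : Eˣ} (ha : a ≠ 1) (b : E) :
    fixedBy (OnePoint E) (aff a b : G2) = {∞, ((b / (1 - a) : E) : OnePoint E)} := by
  have ha' : (1 : E) - a ≠ 0 := fun e => ha (Units.ext (sub_eq_zero.mp e).symm)
  ext y
  cases y with
  | infty => simp [aff_infty]
  | coe x =>
    simp only [mem_fixedBy, aff_some, OnePoint.coe_eq_coe, Set.mem_insert_iff, OnePoint.coe_ne_infty,
      Set.mem_singleton_iff, false_or]
    rw [eq_div_iff ha']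
    constructor <;> intro h <;> linear_combination -h

theorem fixedBy_trans {b : E} (hb : b ≠ 0) : fixedBy (OnePoint E) (aff 1 b : G2) = {∞} := by
  ext y
  cases y with
  | infty => simp [aff_infty]
  | coe x => simp [aff_some, hb]

/-- The translations. -/
noncomputable def transHom : Multiplicative E →* Matrix.ProjGenLinGroup (Fin 2) E where
  toFun b := aff 1 b.toAdd
  map_one' := aff_one
  map_mul' b c := by rw [aff_mul]; simp [add_comm]

/-- The elements fixing exactly the point `x`, with the identity. -/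
noncomputable def unip (x : OnePoint E) : Subgroup (Matrix.ProjGenLinGroup (Fin 2) E) :=
  (transHom (E := E)).range.map (MulAut.conj (exists_smul_infty x).choose⁻¹).toMonoidHom

variable [IsAlgClosed E]

theorem fixedBy_nonempty (g : G2) : (fixedBy (OnePoint E) g).Nonempty := by
  induction g using Matrix.ProjGenLinGroup.induction_on with | mk g =>
  by_cases h : g 1 0 = 0
  · exact ⟨∞, by rw [mem_fixedBy, mk_smul', OnePoint.smul_infty_eq_self_iff]; exact h⟩
  · obtain ⟨x, hx⟩ := IsAlgClosed.exists_root (Polynomial.C (g 1 0) * Polynomial.X ^ 2 +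
      Polynomial.C (g 1 1 - g 0 0) * Polynomial.X + Polynomial.C (-g 0 1)) (by
        rw [Polynomial.degree_quadratic h]; decide)
    simp only [Polynomial.IsRoot, Polynomial.eval_add, Polynomial.eval_mul, Polynomial.eval_C,
      Polynomial.eval_pow, Polynomial.eval_X] at hx
    refine ⟨(x : OnePoint E), ?_⟩
    rw [mem_fixedBy, mk_smul', ← GeneralLinearGroup.fixpointPolynomial_aeval_eq_zero_iff]
    simp only [GeneralLinearGroup.fixpointPolynomial, map_sub, map_mul, map_add, Polynomial.aeval_X_pow,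
      Polynomial.aeval_C, Polynomial.aeval_X, Algebra.algebraMap_self_apply]
    linear_combination hx

theorem fixedBy_ncard {g : G2} (hg : g ≠ 1) :
    (fixedBy (OnePoint E) g).ncard = 1 ∨ (fixedBy (OnePoint E) g).ncard = 2 := by
  obtain ⟨x, hx⟩ := fixedBy_nonempty g
  obtain ⟨u, hu⟩ := exists_smul_infty x
  have h1 : (u * g * u⁻¹) • (∞ : OnePoint E) = ∞ := by
    rw [← hu, mul_smul, mul_smul, inv_smul_smul, hx]
  obtain ⟨a, b, hab⟩ := exists_aff_of_smul_infty h1
  have he : (fixedBy (OnePoint E) (u * g * u⁻¹)).ncard = (fixedBy (OnePoint E) g).ncard := by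
    rw [fixedBy_conj_eq, Set.ncard_image_of_injective _ (MulAction.injective u)]
  rw [← he, hab]
  by_cases ha : a = 1
  · subst ha
    have hb : b ≠ 0 := by
      rintro rfl
      exact hg (conj_eq_one_iff.mp (hab.trans aff_one))
    rw [fixedBy_trans hb, Set.ncard_singleton]
    exact Or.inl rfl
  · rw [fixedBy_aff_ne ha, Set.ncard_pair (OnePoint.infty_ne_coe _)]
    exact Or.inr rfl

theorem mem_unip_iff {x : OnePoint E} {g : G2} : g ∈ unip x ↔ g = 1 ∨ fixedBy (OnePoint E) g = {x} := by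
  set u := (exists_smul_infty x).choose
  have hu : u • x = ∞ := (exists_smul_infty x).choose_spec
  constructor
  · rintro ⟨_, ⟨b, rfl⟩, rfl⟩
    by_cases hb : b.toAdd = 0
    · left
      simp [transHom, hb, aff_one]
    · right
      show fixedBy (OnePoint E) (u⁻¹ * aff 1 b.toAdd * u⁻¹⁻¹) = {x}
      rw [fixedBy_conj_eq, fixedBy_trans hb, Set.image_singleton]
      simp [← hu]
  · rintro (rfl | h)
    · exact one_mem _
    · have h1 : fixedBy (OnePoint E) (u * g * u⁻¹) = {∞} := by
        rw [fixedBy_conj_eq, h, Set.image_singleton, hu]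
      obtain ⟨a, b, hab⟩ := exists_aff_of_smul_infty (g := u * g * u⁻¹)
        (h1.symm ▸ Set.mem_singleton _ : (∞ : OnePoint E) ∈ fixedBy (OnePoint E) (u * g * u⁻¹))
      have ha : a = 1 := by
        by_contra ha
        have h2 : ((b / (1 - a) : E) : OnePoint E) ∈ fixedBy (OnePoint E) (u * g * u⁻¹) := by
          rw [hab, fixedBy_aff_ne ha]; simp
        rw [h1] at h2
        exact OnePoint.coe_ne_infty _ h2
      subst ha
      exact ⟨aff 1 b, ⟨Multiplicative.ofAdd b, rfl⟩, by
        show u⁻¹ * aff 1 b * u⁻¹⁻¹ = g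
        rw [← hab]; group⟩

theorem pow_char_of_mem_unip (p : ℕ) [CharP E p] {x : OnePoint E} {g : G2} (hg : g ∈ unip x) : g ^ p = 1 := by
  obtain ⟨_, ⟨b, rfl⟩, rfl⟩ := hg
  rw [← map_pow, ← map_pow, show b ^ p = 1 from Multiplicative.toAdd.injective (by simp [CharP.cast_eq_zero]),
    map_one, map_one]

section Subgroups

variable (H : Subgroup (Matrix.ProjGenLinGroup (Fin 2) E))

theorem isPGroup_unip (p : ℕ) [CharP E p] (x : OnePoint E) : IsPGroup p ((unip x).comap H.subtype) :=
  fun h => ⟨1, Subtype.ext (Subtype.ext ((by rw [pow_one]; exact pow_char_of_mem_unip p h.2 : ((h : H) : G2) ^ p ^ 1 = 1)))⟩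

/-- The points fixed by a nontrivial element of `H`. -/
abbrev FixPts : Type _ := {x : OnePoint E // ∃ h : H, h ≠ 1 ∧ (h : Matrix.ProjGenLinGroup (Fin 2) E) • x = x}

noncomputable instance fixPtsAction : MulAction H (FixPts H) where
  smul h x := ⟨(h : G2) • x.1, by
    obtain ⟨k, hk1, hk⟩ := x.2
    refine ⟨h * k * h⁻¹, fun e => hk1 (conj_eq_one_iff.mp e), ?_⟩
    simp [mul_smul, hk]⟩
  one_smul x := Subtype.ext (one_smul _ _)
  mul_smul a b x := Subtype.ext (mul_smul _ _ _)

theorem fixPts_smul_val (h : H) (x : FixPts H) : (h • x).1 = (h : G2) • x.1 := rfl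

instance [Finite H] : Finite (FixPts H) := by
  have : {x : OnePoint E | ∃ h : H, h ≠ 1 ∧ (h : G2) • x = x}.Finite := by
    refine Set.Finite.subset (Set.finite_iUnion (f := fun h : {h : H // h ≠ 1} =>
      fixedBy (OnePoint E) ((h.1 : H) : G2)) fun h => ?_) ?_
    · refine Set.finite_of_ncard_ne_zero ?_
      rcases fixedBy_ncard (g := ((h.1 : H) : G2)) (fun e => h.2 (Subtype.ext e)) with e | e <;> omega
    · rintro x ⟨h, h1, hx⟩
      exact Set.mem_iUnion.mpr ⟨⟨h, h1⟩, hx⟩
  exact this.to_subtype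

theorem val_image_fixedBy {h : H} (h1 : h ≠ 1) :
    (Subtype.val '' fixedBy (FixPts H) h : Set (OnePoint E)) = fixedBy (OnePoint E) (h : G2) := by
  ext x
  constructor
  · rintro ⟨y, hy, rfl⟩
    exact congrArg Subtype.val hy
  · intro hx
    exact ⟨⟨x, h, h1, hx⟩, Subtype.ext hx, rfl⟩

/-- `H` fixes a point of the projective line or leaves a pair of points invariant. -/
def HasSmallOrbitOn (H : Subgroup (Matrix.ProjGenLinGroup (Fin 2) E)) : Prop :=
  (∃ x : OnePoint E, ∀ h ∈ H, h • x = x) ∨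
    ∃ x y : OnePoint E, x ≠ y ∧ ∀ h ∈ H, (h • x = x ∧ h • y = y) ∨ (h • x = y ∧ h • y = x)

theorem hasSmallOrbitOn_of (h : HasSmallOrbit H (FixPts H)) : HasSmallOrbitOn H := by
  rcases h with ⟨x, hx⟩ | ⟨x, y, hxy, hh⟩
  · exact Or.inl ⟨x.1, fun h hh' => congrArg Subtype.val (hx ⟨h, hh'⟩)⟩
  · refine Or.inr ⟨x.1, y.1, fun e => hxy (Subtype.ext e), fun h hh' => ?_⟩
    rcases hh ⟨h, hh'⟩ with ⟨a, b⟩ | ⟨a, b⟩
    · exact Or.inl ⟨congrArg Subtype.val a, congrArg Subtype.val b⟩
    · exact Or.inr ⟨congrArg Subtype.val a, congrArg Subtype.val b⟩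

variable [Finite H]

theorem fixPts_ncard {h : H} (h1 : h ≠ 1) :
    (fixedBy (FixPts H) h).ncard = 1 ∨ (fixedBy (FixPts H) h).ncard = 2 := by
  rw [← Set.ncard_image_of_injective (fixedBy (FixPts H) h) Subtype.val_injective, val_image_fixedBy H h1]
  exact fixedBy_ncard fun e => h1 (Subtype.ext e)

theorem noNormalCyclic (h : ¬ HasSmallOrbitOn H) : NoNormalCyclic H := by
  intro N hN hc
  by_contra hne
  haveI := hN
  exact h (hasSmallOrbitOn_of H (hasSmallOrbit_of_normal_cyclic (fun _ => fixPts_ncard H) N hne hc))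

/-- The possible configurations of a finite subgroup. -/
theorem configuration_on (p : ℕ) [Fact p.Prime] [CharP E p] (hne : H ≠ ⊥) :
    HasSmallOrbitOn H ∨ Nat.card H = 12 ∨ Nat.card H = 24 ∨ Nat.card H = 60 ∨
      ∃ x : OnePoint E, 3 ≤ Nat.card ((unip x).comap H.subtype) ∧
        (orbit H x).ncard = Nat.card ((unip x).comap H.subtype) + 1 ∧
        (Nat.card H = (Nat.card ((unip x).comap H.subtype) + 1) * Nat.card ((unip x).comap H.subtype) *
            (Nat.card ((unip x).comap H.subtype) - 1) ∨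
          2 * Nat.card H = (Nat.card ((unip x).comap H.subtype) + 1) * Nat.card ((unip x).comap H.subtype) *
            (Nat.card ((unip x).comap H.subtype) - 1)) := by
  have hmem : ∀ (x : FixPts H) (h : H),
      h ∈ (unip x.1).comap H.subtype ↔ h = 1 ∨ fixedBy (FixPts H) h = {x} := by
    intro x h
    rw [Subgroup.mem_comap, mem_unip_iff]
    by_cases h1 : h = 1
    · simp [h1]
    · have h1' : (h : G2) ≠ 1 := fun e => h1 (Subtype.ext e)
      simp only [Subgroup.coe_subtype, h1, h1', false_or]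
      rw [← val_image_fixedBy H h1]
      constructor
      · intro e
        exact Subtype.val_injective.image_injective (e.trans (Set.image_singleton (f := Subtype.val)).symm)
      · intro e
        rw [e, Set.image_singleton]
  have hst : ∀ x : FixPts H, stabilizer H x ≠ ⊥ := by
    rintro ⟨x, h, h1, hx⟩ e
    have : h ∈ stabilizer H (⟨x, h, h1, hx⟩ : FixPts H) := Subtype.ext hx
    rw [e, Subgroup.mem_bot] at this
    exact h1 this
  rcases configuration (X := FixPts H) (fun _ => fixPts_ncard H) p (fun x => (unip x.1).comap H.subtype)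
      (fun x => isPGroup_unip H p x.1) hmem hst ((Subgroup.one_lt_card_iff_ne_bot H).mpr hne) with h | h | h | h |
      ⟨x, h3, hO, hg⟩
  · exact Or.inl (hasSmallOrbitOn_of H h)
  · exact Or.inr (Or.inl h)
  · exact Or.inr (Or.inr (Or.inl h))
  · exact Or.inr (Or.inr (Or.inr (Or.inl h)))
  · refine Or.inr (Or.inr (Or.inr (Or.inr ⟨x.1, h3, ?_, hg⟩)))
    rw [← hO, ← Set.ncard_image_of_injective (orbit H x) Subtype.val_injective]
    congr 1
    ext y
    constructor
    · rintro ⟨h, rfl⟩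
      exact ⟨h • x, ⟨h, rfl⟩, rfl⟩
    · rintro ⟨_, ⟨h, rfl⟩, rfl⟩
      exact ⟨h, rfl⟩

end Subgroups

end Cfsg.Lib.Dickson
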