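import Mathlib
import Cfsg.Agent.Lib.Dickson.Mobius
import Cfsg.Agent.Lib.Linear.SLBasic
import Cfsg.Agent.Lib.Linear.GLTwo

/-!
# The subfield case of the classification of the finite subgroups of `PGL₂`
-/

set_option autoImplicit false
set_option linter.unusedSectionVars false

namespace Cfsg.Lib.Dickson

open Matrix MulAction
open scoped MatrixGroups OnePoint

variable {E : Type*} [Field E] [DecidableEq E]

local notation "G2" => Matrix.ProjGenLinGroup (Fin 2) E

/-- The translation part of a subgroup. -/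
noncomputable def transSet (H : Subgroup (Matrix.ProjGenLinGroup (Fin 2) E)) : AddSubgroup E where
  carrier := {b | aff 1 b ∈ H}
  zero_mem' := by show aff 1 0 ∈ H; rw [aff_one]; exact one_mem _
  add_mem' {a b} ha hb := by
    show aff 1 (a + b) ∈ H
    have := H.mul_mem hb ha
    rwa [aff_mul, mul_one, Units.val_one, one_mul] at this
  neg_mem' {a} ha := by
    show aff 1 (-a) ∈ H
    have := H.inv_mem ha
    rw [aff_inv] at this
    simpa using this

theorem mem_transSet {H : Subgroup (Matrix.ProjGenLinGroup (Fin 2) E)} {b : E} :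
    b ∈ transSet H ↔ aff 1 b ∈ H := Iff.rfl

theorem map_injective_of_field {K : Type*} [Field K] (f : K →+* E) :
    Function.Injective (ProjGenLinGroup.map f : Matrix.ProjGenLinGroup (Fin 2) K →* G2) := by
  rw [← MonoidHom.ker_eq_bot_iff, Subgroup.eq_bot_iff_forall]
  intro g hg
  induction g using Matrix.ProjGenLinGroup.induction_on with | mk g =>
  rw [MonoidHom.mem_ker, ProjGenLinGroup.map_mk, ProjGenLinGroup.mk_eq_one,
    GeneralLinearGroup.center_eq_range_scalar] at hg
  obtain ⟨u, hu⟩ := hg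
  have hval : ∀ i j, f (g i j) = (Matrix.diagonal fun _ : Fin 2 => (u : E)) i j := by
    intro i j
    have := congrArg (fun z : GL (Fin 2) E => (z : Matrix (Fin 2) (Fin 2) E) i j) hu
    simpa using this.symm
  have h00 := hval 0 0
  have h01 := hval 0 1
  have h10 := hval 1 0
  have h11 := hval 1 1
  simp at h00 h01 h10 h11
  rw [ProjGenLinGroup.mk_eq_one, GeneralLinearGroup.center_eq_range_scalar]
  have hd : g 0 0 ≠ 0 := fun e => u.ne_zero (by rw [← h00, e, map_zero])
  refine ⟨Units.mk0 _ hd, Units.ext ?_⟩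
  ext i j
  fin_cases i <;> fin_cases j
  · simp
  · simp [h01]
  · simp [h10]
  · simpa using f.injective (h00.trans h11.symm)

theorem aff_mem_range {K : Subfield E} {a : Eˣ} {b : E} (ha : (a : E) ∈ K) (hb : b ∈ K) :
    (aff a b : G2) ∈ (ProjGenLinGroup.map K.subtype : Matrix.ProjGenLinGroup (Fin 2) K →* G2).range := by
  refine ⟨ProjGenLinGroup.mk (GeneralLinearGroup.mkOfDetNeZero !![(⟨a, ha⟩ : K), ⟨b, hb⟩; 0, 1]
    (by simp [det_fin_two, Subtype.ext_iff])), ?_⟩
  rw [ProjGenLinGroup.map_mk, aff]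
  congr 1
  apply Units.ext
  ext i j
  fin_cases i <;> fin_cases j <;> simp [GeneralLinearGroup.mkOfDetNeZero, affGL_coe]

theorem flip_mem_range {K : Subfield E} {c : Eˣ} (hc : (c : E) ∈ K) :
    (flip' c : G2) ∈ (ProjGenLinGroup.map K.subtype : Matrix.ProjGenLinGroup (Fin 2) K →* G2).range := by
  refine ⟨ProjGenLinGroup.mk (GeneralLinearGroup.mkOfDetNeZero !![(0 : K), ⟨c, hc⟩; 1, 0]
    (by simp [det_fin_two, Subtype.ext_iff])), ?_⟩
  rw [ProjGenLinGroup.map_mk, flip']
  congr 1
  apply Units.ext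
  ext i j
  fin_cases i <;> fin_cases j <;> simp [GeneralLinearGroup.mkOfDetNeZero, flipGL_coe]

/-- A subgroup whose exceptional orbit is normalised to `{∞} ∪ Λ` lives over the field `Λ`. -/
theorem normalized_case (p : ℕ) [hp : Fact p.Prime] [CharP E p] (H : Subgroup (Matrix.ProjGenLinGroup (Fin 2) E))
    (hfin : (transSet H : Set E).Finite) (h1 : (1 : E) ∈ transSet H)
    (hO : ∀ h ∈ H, ∀ z : OnePoint E, (z = ∞ ∨ ∃ b ∈ transSet H, z = (b : OnePoint E)) →
      (h • z = ∞ ∨ ∃ b ∈ transSet H, h • z = (b : OnePoint E)))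
    (h0 : ∃ h ∈ H, h • (∞ : OnePoint E) = ((0 : E) : OnePoint E)) :
    ∃ K : Subfield E, (K : Set E) = (transSet H : Set E) ∧
      H ≤ (ProjGenLinGroup.map K.subtype : Matrix.ProjGenLinGroup (Fin 2) K →* G2).range := by
  set L := transSet H with hL
  -- an element interchanging `0` and `∞`
  obtain ⟨h, hh, hinf⟩ := h0
  obtain ⟨z, hz, hzh⟩ : ∃ z ∈ L, h • ((z : E) : OnePoint E) = ∞ := by
    rcases hO h⁻¹ (H.inv_mem hh) ∞ (Or.inl rfl) with e | ⟨z, hz, e⟩
    · rw [inv_smul_eq_iff, hinf] at e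
      exact absurd e.symm (OnePoint.coe_ne_infty _)
    · exact ⟨z, hz, by rw [← e, smul_inv_smul]⟩
  set s := h * aff 1 z with hs
  have hsH : s ∈ H := H.mul_mem hh hz
  have hs0 : s • ((0 : E) : OnePoint E) = ∞ := by rw [hs, mul_smul, aff_some]; simpa using hzh
  have hsi : s • (∞ : OnePoint E) = ((0 : E) : OnePoint E) := by rw [hs, mul_smul, aff_infty, hinf]
  obtain ⟨c, hsc⟩ := exists_flip hsi hs0
  have hc0 : (c : E) ≠ 0 := c.ne_zero
  have hσ : ∀ a ∈ L, (c : E) / a ∈ L := by
    intro a ha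
    by_cases ha0 : a = 0
    · rw [ha0, div_zero]; exact L.zero_mem
    rcases hO s hsH (a : OnePoint E) (Or.inr ⟨a, ha, rfl⟩) with e | ⟨b, hb, e⟩
    · rw [hsc, flip_some c ha0] at e
      exact absurd e (OnePoint.coe_ne_infty _)
    · rw [hsc, flip_some c ha0, OnePoint.coe_eq_coe] at e
      rwa [e]
  have hcL : (c : E) ∈ L := by simpa using hσ 1 h1
  have hua : ∀ a ∈ L, ∀ b ∈ L, a ^ 2 * b / c ∈ L := by
    intro a ha b hb
    by_cases ha0 : a = 0
    · simp [ha0, L.zero_mem]
    by_cases hb0 : b = 0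
    · simp [hb0, L.zero_mem]
    by_cases hd : (c : E) - a * b = 0
    · have : a ^ 2 * b / c = a := by
        rw [div_eq_iff hc0]; linear_combination -a * hd
      rw [this]; exact ha
    have e1 := hσ _ (L.sub_mem (hσ b hb) ha)
    have e2 := hσ _ (L.add_mem (hσ a ha) e1)
    have e3 := L.sub_mem ha e2
    have hkey : a - (c : E) / ((c : E) / a + (c : E) / ((c : E) / b - a)) = a ^ 2 * b / c := by
      have h2 : (c : E) / b - a = ((c : E) - a * b) / b := by field_simp
      rw [h2, div_div_eq_mul_div]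
      have h3 : (c : E) / a + (c : E) * b / ((c : E) - a * b) =
          (c : E) * c / (a * ((c : E) - a * b)) := by
        rw [div_add_div _ _ ha0 hd]
        congr 1
        ring
      rw [h3, div_div_eq_mul_div]
      field_simp
      ring
    rwa [hkey] at e3
  have hdiv : ∀ b ∈ L, b / (c : E) ∈ L := fun b hb => by simpa using hua 1 h1 b hb
  have hsur : ∀ b ∈ L, ∃ b' ∈ L, b' / (c : E) = b := by
    intro b hb
    haveI : Finite L := hfin.to_subtype
    obtain ⟨⟨b', hb'⟩, e⟩ := (Finite.injective_iff_surjective.mp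
      (fun (x y : L) (e : (⟨(x : E) / c, hdiv x x.2⟩ : L) = ⟨(y : E) / c, hdiv y y.2⟩) =>
        Subtype.ext ((div_left_inj' hc0).mp (congrArg Subtype.val e)))) ⟨b, hb⟩
    exact ⟨b', hb', congrArg Subtype.val e⟩
  have hsq : ∀ a ∈ L, ∀ b ∈ L, a ^ 2 * b ∈ L := by
    intro a ha b hb
    obtain ⟨b', hb', rfl⟩ := hsur b hb
    rw [← mul_div_assoc]
    exact hua a ha b' hb'
  have hmul : ∀ a ∈ L, ∀ b ∈ L, a * b ∈ L := by
    intro a ha b hb
    by_cases h2 : p = 2
    · subst h2
      haveI : Finite L := hfin.to_subtype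
      let fsq : L → L := fun x => ⟨(x : E) ^ 2, by simpa using hsq x x.2 1 h1⟩
      have hinj : Function.Injective fsq := fun x y e => Subtype.ext
        (frobenius_inj E 2 (show frobenius E 2 x = frobenius E 2 y from congrArg Subtype.val e))
      obtain ⟨⟨a', ha'⟩, e⟩ := Finite.injective_iff_surjective.mp hinj ⟨a, ha⟩
      have e' : a' ^ 2 = a := congrArg Subtype.val e
      rw [← e']
      exact hsq a' ha' b hb
    · have hsq1 : ∀ x ∈ L, x ^ 2 ∈ L := fun x hx => by simpa using hsq x hx 1 h1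
      have h2ab : 2 * (a * b) ∈ L := by
        have := L.sub_mem (L.sub_mem (hsq1 _ (L.add_mem ha hb)) (hsq1 a ha)) (hsq1 b hb)
        convert this using 1
        ring
      have hodd : p % 2 = 1 := (hp.out.eq_two_or_odd).resolve_left h2
      have := L.nsmul_mem h2ab ((p + 1) / 2)
      rw [nsmul_eq_mul, ← mul_assoc] at this
      have he : (((p + 1) / 2 : ℕ) : E) * 2 = 1 := by
        have : (p + 1) / 2 * 2 = p + 1 := by omega
        calc (((p + 1) / 2 : ℕ) : E) * 2 = (((p + 1) / 2 * 2 : ℕ) : E) := by push_cast; ring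
          _ = 1 := by rw [this]; simp [CharP.cast_eq_zero]
      rwa [he, one_mul] at this
  let K : Subfield E :=
    { carrier := L
      mul_mem' := fun {a b} ha hb => hmul a ha b hb
      one_mem' := h1
      add_mem' := L.add_mem'
      zero_mem' := L.zero_mem'
      neg_mem' := L.neg_mem'
      inv_mem' := fun a ha => by
        by_cases ha0 : a = 0
        · simp [ha0, L.zero_mem]
        haveI : Finite L := hfin.to_subtype
        obtain ⟨⟨b, hb⟩, e⟩ := (Finite.injective_iff_surjective.mp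
          (fun (x y : L) (e : (⟨a * x, hmul a ha x x.2⟩ : L) = ⟨a * y, hmul a ha y y.2⟩) =>
            Subtype.ext (mul_left_cancel₀ ha0 (congrArg Subtype.val e)))) ⟨1, h1⟩
        have e' : a * b = 1 := congrArg Subtype.val e
        rw [inv_eq_of_mul_eq_one_right e']
        exact hb }
  refine ⟨K, rfl, fun g hg => ?_⟩
  have haff : ∀ g ∈ H, g • (∞ : OnePoint E) = ∞ →
      g ∈ (ProjGenLinGroup.map K.subtype : Matrix.ProjGenLinGroup (Fin 2) K →* G2).range := by
    intro g hg hgi
    obtain ⟨a, b, rfl⟩ := exists_aff_of_smul_infty hgi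
    have hb : b ∈ L := by
      rcases hO _ hg ((0 : E) : OnePoint E) (Or.inr ⟨0, L.zero_mem, rfl⟩) with e | ⟨b', hb', e⟩
      · rw [aff_some] at e
        exact absurd e (OnePoint.coe_ne_infty _)
      · rw [aff_some, mul_zero, zero_add, OnePoint.coe_eq_coe] at e
        rwa [e]
    have ha : (a : E) ∈ L := by
      rcases hO _ hg ((1 : E) : OnePoint E) (Or.inr ⟨1, h1, rfl⟩) with e | ⟨b', hb', e⟩
      · rw [aff_some] at e
        exact absurd e (OnePoint.coe_ne_infty _)
      · rw [aff_some, mul_one, OnePoint.coe_eq_coe] at e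
        have := L.sub_mem hb' hb
        rwa [← e, add_sub_cancel_right] at this
    exact aff_mem_range (K := K) ha hb
  rcases hO g hg ∞ (Or.inl rfl) with e | ⟨b, hb, e⟩
  · exact haff g hg e
  · have hm : (aff 1 (-b) : G2) ∈ H := L.neg_mem hb
    have hw : (s * (aff 1 (-b) * g)) • (∞ : OnePoint E) = ∞ := by
      rw [mul_smul s, mul_smul (aff 1 (-b) : G2) g, e, aff_some]
      simpa using hs0
    have h2 := haff _ (H.mul_mem hsH (H.mul_mem hm hg)) hw
    have hsr : s ∈ (ProjGenLinGroup.map K.subtype : Matrix.ProjGenLinGroup (Fin 2) K →* G2).range := by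
      rw [hsc]; exact flip_mem_range (K := K) hcL
    have hmr : (aff 1 (-b) : G2) ∈ (ProjGenLinGroup.map K.subtype : Matrix.ProjGenLinGroup (Fin 2) K →* G2).range :=
      aff_mem_range (K := K) (by simp [K.one_mem]) (K.neg_mem hb)
    exact (Subgroup.mul_mem_cancel_left _ hmr).mp ((Subgroup.mul_mem_cancel_left _ hsr).mp h2)

/-- `PSL₂` lies in every subgroup of index at most two of `PGL₂` in odd characteristic. -/
theorem toPGL_range_le_of_index_two {K : Type*} [Field K] (r : ℕ) [Fact r.Prime] [CharP K r] (hr : r ≠ 2)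
    (S : Subgroup (Matrix.ProjGenLinGroup (Fin 2) K)) (hS : S.index = 2) :
    (SpecialLinearGroup.toPGL : SpecialLinearGroup (Fin 2) K →* _).range ≤ S := by
  rw [MonoidHom.range_eq_map, ← Cfsg.Lib.Linear.closure_transvection_eq_top, MonoidHom.map_closure,
    Subgroup.closure_le]
  rintro _ ⟨_, ⟨i, j, hij, c, rfl⟩, rfl⟩
  set t := SpecialLinearGroup.transvection hij c with ht
  have hpow : t ^ r = 1 := by
    have : ∀ n : ℕ, t ^ n = SpecialLinearGroup.transvection hij (n * c) := by
      intro n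
      induction n with
      | zero =>
        apply Matrix.SpecialLinearGroup.ext
        intro a b
        simp [SpecialLinearGroup.transvection_coe]
      | succ n ih =>
        rw [pow_succ, ih, ht]
        apply Matrix.SpecialLinearGroup.ext
        intro a b
        push_cast
        rw [add_mul, one_mul]
        show (Matrix.transvection i j ((n : K) * c) * Matrix.transvection i j c) a b =
          Matrix.transvection i j ((n : K) * c + c) a b
        rw [Matrix.transvection_mul_transvection_same _ _ hij]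
    rw [this, CharP.cast_eq_zero, zero_mul]
    apply Matrix.SpecialLinearGroup.ext
    intro a b
    simp [SpecialLinearGroup.transvection_coe]
  have hodd : r % 2 = 1 := ((Fact.out : r.Prime).eq_two_or_odd).resolve_left hr
  have : t = t ^ ((r + 1) / 2) * t ^ ((r + 1) / 2) := by
    rw [← pow_add, show (r + 1) / 2 + (r + 1) / 2 = r + 1 by omega, pow_succ, hpow, one_mul]
  rw [this, map_mul]
  exact Subgroup.mul_self_mem_of_index_two hS _

variable [IsAlgClosed E]

theorem card_unip_infty (H : Subgroup (Matrix.ProjGenLinGroup (Fin 2) E)) :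
    Nat.card ((unip (∞ : OnePoint E)).comap H.subtype) = Nat.card (transSet H) := by
  symm
  refine Nat.card_congr (Equiv.ofBijective (fun b : transSet H =>
    (⟨⟨aff 1 (b : E), b.2⟩, ?_⟩ : (unip (∞ : OnePoint E)).comap H.subtype)) ⟨?_, ?_⟩)
  · show aff 1 (b : E) ∈ unip (∞ : OnePoint E)
    rw [mem_unip_iff]
    by_cases hb : (b : E) = 0
    · exact Or.inl (by rw [hb, aff_one])
    · exact Or.inr (fixedBy_trans hb)
  · intro a b e
    exact Subtype.ext (aff_injective (congrArg (fun z => ((z : ↥((unip (∞ : OnePoint E)).comap H.subtype)) : G2)) e)).2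
  · rintro ⟨⟨g, hgH⟩, hg⟩
    obtain ⟨b, hb⟩ : ∃ b : E, g = aff 1 b := by
      rcases mem_unip_iff.mp (show g ∈ unip (∞ : OnePoint E) from hg) with rfl | e
      · exact ⟨0, aff_one.symm⟩
      · obtain ⟨a, b, rfl⟩ := exists_aff_of_smul_infty
          (e.symm ▸ Set.mem_singleton _ : (∞ : OnePoint E) ∈ fixedBy (OnePoint E) g)
        refine ⟨b, ?_⟩
        by_contra hne
        have ha : a ≠ 1 := fun h => hne (by rw [h])
        have h2 : ((b / (1 - a) : E) : OnePoint E) ∈ fixedBy (OnePoint E) (aff a b : G2) := by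
          rw [fixedBy_aff_ne ha]; simp
        rw [e] at h2
        exact OnePoint.coe_ne_infty _ h2
    subst hb
    exact ⟨⟨b, hgH⟩, rfl⟩

/-- Normal form of the case with `P + 1` points. -/
theorem exists_normalisation (p : ℕ) [hp : Fact p.Prime] [CharP E p] (H : Subgroup (Matrix.ProjGenLinGroup (Fin 2) E)) [Finite H] {x : OnePoint E}
    {P : ℕ} (hP : Nat.card ((unip x).comap H.subtype) = P) (hP1 : 2 ≤ P) (hO : (orbit H x).ncard = P + 1) :
    ∃ u : Matrix.ProjGenLinGroup (Fin 2) E, ∃ K : Subfield E, Nat.card K = P ∧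
      H.map (MulAut.conj u).toMonoidHom ≤
        (ProjGenLinGroup.map K.subtype : Matrix.ProjGenLinGroup (Fin 2) K →* G2).range := by
  obtain ⟨u₀, hu₀⟩ := exists_smul_infty x
  -- move `x` to infinity
  have hconjA : ∀ (u : G2), u • x = ∞ →
      Nat.card (transSet (H.map (MulAut.conj u).toMonoidHom)) = P := by
    intro u hu
    rw [← card_unip_infty, ← hP]
    refine (Nat.card_congr (Equiv.ofBijective (fun g : (unip x).comap H.subtype =>
      (⟨⟨u * (g : H) * u⁻¹, Subgroup.mem_map_of_mem _ (g : H).2⟩, ?_⟩ :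
        (unip (∞ : OnePoint E)).comap (H.map (MulAut.conj u).toMonoidHom).subtype)) ⟨?_, ?_⟩)).symm
    · show u * ((g : H) : G2) * u⁻¹ ∈ unip (∞ : OnePoint E)
      rw [mem_unip_iff]
      rcases mem_unip_iff.mp (show ((g : H) : G2) ∈ unip x from g.2) with e | e
      · exact Or.inl (by rw [e]; group)
      · exact Or.inr (by rw [fixedBy_conj_eq, e, Set.image_singleton, hu])
    · intro a b e
      have := congrArg (fun z : (unip (∞ : OnePoint E)).comap (H.map (MulAut.conj u).toMonoidHom).subtype =>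
        ((z : H.map (MulAut.conj u).toMonoidHom) : G2)) e
      simpa using this
    · rintro ⟨⟨g, hgH⟩, hg⟩
      obtain ⟨h, hh, e⟩ := hgH
      refine ⟨⟨⟨h, hh⟩, ?_⟩, Subtype.ext (Subtype.ext e)⟩
      show h ∈ unip x
      have e' : u * h * u⁻¹ = g := e
      rw [mem_unip_iff]
      rcases mem_unip_iff.mp (show g ∈ unip (∞ : OnePoint E) from hg) with e1 | e1
      · exact Or.inl (conj_eq_one_iff.mp (e'.trans e1))
      · refine Or.inr ?_
        rw [← e', fixedBy_conj_eq, ← hu, ← Set.image_singleton (f := fun y => u • y)] at e1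
        exact (MulAction.injective u).image_injective e1
  have horb : ∀ (u : G2), u • x = ∞ →
      (fun z => u • z) '' orbit H x = orbit (H.map (MulAut.conj u).toMonoidHom) (∞ : OnePoint E) := by
    intro u hu
    ext z
    constructor
    · rintro ⟨_, ⟨h, rfl⟩, rfl⟩
      refine ⟨⟨_, Subgroup.mem_map_of_mem _ h.2⟩, ?_⟩
      show (u * (h : G2) * u⁻¹) • (∞ : OnePoint E) = u • (h : G2) • x
      rw [← hu, mul_smul, mul_smul, inv_smul_smul]
    · rintro ⟨⟨_, h, hh, rfl⟩, rfl⟩
      refine ⟨h • x, ⟨⟨h, hh⟩, rfl⟩, ?_⟩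
      show u • h • x = (u * h * u⁻¹) • (∞ : OnePoint E)
      rw [← hu, mul_smul, mul_smul, inv_smul_smul]
  set H₀ := H.map (MulAut.conj u₀).toMonoidHom with hH₀
  have hL₀ : Nat.card (transSet H₀) = P := hconjA u₀ hu₀
  haveI : Finite (transSet H₀) := Nat.finite_of_card_ne_zero (by omega)
  obtain ⟨⟨lam, hlam⟩, hlam0⟩ : ∃ l : transSet H₀, l ≠ 0 := by
    by_contra hcon
    push Not at hcon
    haveI : Subsingleton (transSet H₀) := ⟨fun a b => by rw [hcon a, hcon b]⟩
    have := Nat.card_of_subsingleton (0 : transSet H₀)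
    omega
  have hlam0' : lam ≠ 0 := fun e => hlam0 (Subtype.ext e)
  -- a second point of the orbit
  have hcard₀ : (orbit H₀ (∞ : OnePoint E)).ncard = P + 1 := by
    rw [← horb u₀ hu₀, Set.ncard_image_of_injective _ (MulAction.injective u₀), hO]
  obtain ⟨w, hw, hw'⟩ := Set.exists_ne_of_one_lt_ncard (s := orbit H₀ (∞ : OnePoint E)) (by omega) ∞
  obtain ⟨β, rfl⟩ : ∃ β : E, (β : OnePoint E) = w := by
    cases w with
    | infty => exact absurd rfl hw'
    | coe β => exact ⟨β, rfl⟩
  set v : G2 := aff (Units.mk0 lam⁻¹ (inv_ne_zero hlam0')) 0 * aff 1 (-β) with hv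
  have hvu : (v * u₀) • x = ∞ := by rw [mul_smul, hu₀, hv, mul_smul, aff_infty, aff_infty]
  set H₁ := H.map (MulAut.conj (v * u₀)).toMonoidHom with hH₁
  have hL₁ : Nat.card (transSet H₁) = P := hconjA _ hvu
  haveI : Finite H₁ := Finite.of_equiv _ (Subgroup.equivMapOfInjective H _ (MulAut.conj (v * u₀)).injective).toEquiv
  have hone : (1 : E) ∈ transSet H₁ := by
    obtain ⟨h, hh, e⟩ := hlam
    refine ⟨h, hh, ?_⟩
    have e' : u₀ * h * u₀⁻¹ = aff 1 lam := e
    show v * u₀ * h * (v * u₀)⁻¹ = aff 1 1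
    rw [show v * u₀ * h * (v * u₀)⁻¹ = v * (u₀ * h * u₀⁻¹) * v⁻¹ by group, e', mul_inv_eq_iff_eq_mul, hv,
      aff_mul, aff_mul, aff_mul]
    congr 1
    · simp [mul_comm]
    · simp [hlam0']
      ring
  haveI : Finite (transSet H₁) := Nat.finite_of_card_ne_zero (by omega)
  have hcard : (orbit H₁ (∞ : OnePoint E)).ncard = P + 1 := by
    rw [← horb _ hvu, Set.ncard_image_of_injective _ (MulAction.injective _), hO]
  have h0 : ((0 : E) : OnePoint E) ∈ orbit H₁ (∞ : OnePoint E) := by
    rw [← horb _ hvu]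
    rw [← horb _ hu₀] at hw
    obtain ⟨z, hz, e⟩ := hw
    refine ⟨z, hz, ?_⟩
    show (v * u₀) • z = ((0 : E) : OnePoint E)
    rw [mul_smul, show u₀ • z = ((β : E) : OnePoint E) from e, hv, mul_smul, aff_some, aff_some]
    simp
  have hOset : orbit H₁ (∞ : OnePoint E) = insert ∞ ((fun b : E => (b : OnePoint E)) '' (transSet H₁ : Set E)) := by
    refine (Set.eq_of_subset_of_ncard_le ?_ ?_ (by exact Set.finite_range _ : (orbit H₁ (∞ : OnePoint E)).Finite)).symm
    · refine Set.insert_subset (mem_orbit_self _) ?_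
      rintro _ ⟨b, hb, rfl⟩
      obtain ⟨g, hg⟩ := h0
      refine ⟨⟨aff 1 b, hb⟩ * g, ?_⟩
      show (⟨aff 1 b, hb⟩ * g : H₁) • (∞ : OnePoint E) = (b : OnePoint E)
      rw [mul_smul]
      rw [show g • (∞ : OnePoint E) = ((0 : E) : OnePoint E) from hg]
      show aff 1 b • ((0 : E) : OnePoint E) = _
      rw [aff_some]
      simp
    · rw [hcard, Set.ncard_insert_of_notMem (by rintro ⟨b, -, e⟩; exact OnePoint.coe_ne_infty _ e),
        Set.ncard_image_of_injective _ OnePoint.coe_injective, ← Nat.card_coe_set_eq]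
      exact le_of_eq (congrArg (· + 1) hL₁.symm)
  obtain ⟨K, hK, hle⟩ := normalized_case p H₁ (Set.toFinite _) hone (fun h hh z hz => by
      have hz' : z ∈ orbit H₁ (∞ : OnePoint E) := by
        rw [hOset]
        rcases hz with rfl | ⟨b, hb, rfl⟩
        · exact Set.mem_insert _ _
        · exact Set.mem_insert_of_mem _ ⟨b, hb, rfl⟩
      have : h • z ∈ orbit H₁ (∞ : OnePoint E) := by
        obtain ⟨w, rfl⟩ := hz'
        exact ⟨⟨h, hh⟩ * w, mul_smul (⟨h, hh⟩ : H₁) w (∞ : OnePoint E)⟩
      rw [hOset] at this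
      rcases this with e | ⟨b, hb, e⟩
      · exact Or.inl e
      · exact Or.inr ⟨b, hb, e.symm⟩)
    (by obtain ⟨g, hg⟩ := h0; exact ⟨g, g.2, hg⟩)
  refine ⟨v * u₀, K, ?_, hle⟩
  rw [← hL₁]
  exact Nat.card_congr (Equiv.setCongr hK)

/-- The classification of the finite subgroups of `PGL₂` over an algebraically closed field. -/
theorem finite_subgroup_cases (p : ℕ) [hp : Fact p.Prime] [CharP E p] (H : Subgroup (Matrix.ProjGenLinGroup (Fin 2) E)) [Finite H] :
    HasSmallOrbitOn H ∨ (NoNormalCyclic H ∧ (Nonempty (H ≃* alternatingGroup (Fin 4)) ∨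
      Nonempty (H ≃* Equiv.Perm (Fin 4)) ∨ Nonempty (H ≃* alternatingGroup (Fin 5)) ∨
      ∃ (K : Subfield E) (u : Matrix.ProjGenLinGroup (Fin 2) E), Finite K ∧ 3 ≤ Nat.card K ∧
        ((SpecialLinearGroup.toPGL : SpecialLinearGroup (Fin 2) K →* _).range.map
            (ProjGenLinGroup.map K.subtype)) ≤ H.map (MulAut.conj u).toMonoidHom ∧
        (Nonempty (H ≃* Matrix.ProjectiveSpecialLinearGroup (Fin 2) K) ∧ Nat.card K % 2 = 1 ∨
          Nonempty (H ≃* Matrix.ProjGenLinGroup (Fin 2) K)))) := by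
  by_cases hsmall : HasSmallOrbitOn H
  · exact Or.inl hsmall
  have hne : H ≠ ⊥ := fun e => hsmall (Or.inl ⟨∞, fun h hh => by
    rw [e, Subgroup.mem_bot] at hh; rw [hh, one_smul]⟩)
  refine Or.inr ⟨noNormalCyclic H hsmall, ?_⟩
  rcases configuration_on H p hne with h | h | h | h | ⟨x, h3, hO, hg⟩
  · exact absurd h hsmall
  · exact Or.inl (iso_alternating_four (noNormalCyclic H hsmall) h)
  · exact Or.inr (Or.inl (iso_perm_four (noNormalCyclic H hsmall) h))
  · exact Or.inr (Or.inr (Or.inl (iso_alternating_five (noNormalCyclic H hsmall) h)))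
  right; right; right
  obtain ⟨u, K, hK, hle⟩ := exists_normalisation p H rfl (by omega) hO
  set P := Nat.card ((unip x).comap H.subtype)
  haveI : Finite K := Nat.finite_of_card_ne_zero (by omega)
  haveI : Fintype K := Fintype.ofFinite _
  set M := (H.map (MulAut.conj u).toMonoidHom).comap
    (ProjGenLinGroup.map K.subtype : Matrix.ProjGenLinGroup (Fin 2) K →* G2) with hM
  have hHM : Nonempty (H ≃* M) := ⟨(Subgroup.equivMapOfInjective H _ (MulAut.conj u).injective).trans
    ((MulEquiv.subgroupCongr (Subgroup.map_comap_eq_self hle).symm).trans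
      (Subgroup.equivMapOfInjective M _ (map_injective_of_field K.subtype)).symm)⟩
  obtain ⟨eHM⟩ := hHM
  have hMc : Nat.card M = Nat.card H := Nat.card_congr eHM.toEquiv.symm
  haveI : Finite (Matrix.ProjGenLinGroup (Fin 2) K) := Finite.of_surjective _ ProjGenLinGroup.mk_surjective
  have hG : Nat.card (Matrix.ProjGenLinGroup (Fin 2) K) = (P + 1) * P * (P - 1) := by
    rw [Cfsg.Lib.Linear.card_PGL_eq_card_SL, Cfsg.Lib.Linear.Two.card_SL_two, ← Nat.card_eq_fintype_card, hK]
    rw [show P ^ 2 - 1 = (P + 1) * (P - 1) by rw [← Nat.sq_sub_sq]]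
    ring
  have hidx := Subgroup.card_mul_index M
  rw [hMc, hG] at hidx
  refine ⟨K, u, inferInstance, by omega, ?_⟩
  have hHpos : 0 < Nat.card H := Nat.card_pos
  rcases hg with hg | hg
  · have hMt : M = ⊤ := Subgroup.eq_top_of_card_eq M (by rw [hMc, hG, hg])
    refine ⟨?_, Or.inr ⟨eHM.trans ((MulEquiv.subgroupCongr hMt).trans Subgroup.topEquiv)⟩⟩
    rw [Subgroup.map_le_iff_le_comap, ← hM, hMt]
    exact le_top
  · have hi2 : M.index = 2 := by
      refine Nat.eq_of_mul_eq_mul_left hHpos ?_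
      rw [hidx, ← hg, mul_comm]
    haveI : CharP K p := Subfield.charP K p
    have hp2 : p ≠ 2 := by
      intro e
      subst e
      obtain ⟨n, -, hn⟩ := FiniteField.card K 2
      rw [← Nat.card_eq_fintype_card, hK] at hn
      rw [hn] at hg
      have hev : 2 ∣ (2 : ℕ) ^ (n : ℕ) := dvd_pow_self 2 n.pos.ne'
      -- the two candidates for the order differ by parity of the orbit
      exact absurd hg (fun hg => by
        have hx : (orbit H x).ncard * Nat.card (stabilizer H x) = Nat.card H := by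
          rw [← index_stabilizer, Subgroup.index_mul_card]
        have hstab : 2 ^ (n : ℕ) ∣ Nat.card (stabilizer H x) := by
          rw [← hn]
          exact Subgroup.card_dvd_of_le (fun h hh => by
            rcases mem_unip_iff.mp (show (h : G2) ∈ unip x from hh) with e | e
            · have : h = 1 := Subtype.ext e
              rw [this]; exact one_mem _
            · exact (e.symm ▸ Set.mem_singleton x : x ∈ fixedBy (OnePoint E) (h : G2)))
        obtain ⟨m, hm⟩ := hstab
        rw [hO, hn, hm] at hx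
        have hpos : 0 < (2 ^ (n : ℕ) + 1) * 2 ^ (n : ℕ) := by positivity
        have h4 : 2 * m = 2 ^ (n : ℕ) - 1 := Nat.eq_of_mul_eq_mul_left hpos (by rw [← hg, ← hx]; ring)
        obtain ⟨w, hw⟩ := hev
        omega)
    have hle2 := toPGL_range_le_of_index_two p hp2 M hi2
    have hPS : Nat.card (SpecialLinearGroup.toPGL : SpecialLinearGroup (Fin 2) K →* _).range * 2 =
        (P + 1) * P * (P - 1) := by
      obtain ⟨n, -, hn⟩ := FiniteField.card K p
      have h1 := Cfsg.Lib.Linear.card_SL_eq_gcd_mul_card_PSL (ι := Fin 2) (F := K)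
      rw [← Cfsg.Lib.Linear.card_PGL_eq_card_SL, hG, Fintype.card_fin, ← Nat.card_eq_fintype_card, hK] at h1
      have hodd : P % 2 = 1 := by
        rw [← Nat.card_eq_fintype_card, hK] at hn
        rw [hn]
        exact Nat.odd_iff.mp (((Fact.out : p.Prime).odd_of_ne_two hp2).pow)
      have hgcd : Nat.gcd 2 (P - 1) = 2 := Nat.gcd_eq_left (by omega)
      rw [hgcd] at h1
      have hc : Nat.card (SpecialLinearGroup.toPGL : SpecialLinearGroup (Fin 2) K →* _).range =
          Nat.card (Matrix.ProjectiveSpecialLinearGroup (Fin 2) K) :=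
        Nat.card_congr ((QuotientGroup.quotientKerEquivRange _).symm.trans
          (QuotientGroup.quotientMulEquivOfEq SpecialLinearGroup.toPGL_ker)).toEquiv
      rw [hc, mul_comm, ← h1]
    have heq : (SpecialLinearGroup.toPGL : SpecialLinearGroup (Fin 2) K →* _).range = M :=
      Subgroup.eq_of_le_of_card_ge hle2 (by rw [hMc]; omega)
    refine ⟨?_, Or.inl ⟨⟨eHM.trans ((MulEquiv.subgroupCongr heq.symm).trans
      ((QuotientGroup.quotientKerEquivRange _).symm.trans
        (QuotientGroup.quotientMulEquivOfEq SpecialLinearGroup.toPGL_ker)))⟩, ?_⟩⟩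
    · rw [Subgroup.map_le_iff_le_comap, ← hM, heq]
    · obtain ⟨n, -, hn⟩ := FiniteField.card K p
      rw [Nat.card_eq_fintype_card, hn]
      exact Nat.odd_iff.mp (((Fact.out : p.Prime).odd_of_ne_two hp2).pow)

end Cfsg.Lib.Dickson
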