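import Mathlib
import Cfsg.Agent.Lib.Dickson.SubfieldCase
import Cfsg.Agent.Lib.Spec.PSLTwoSpectrum
import Cfsg.Agent.Lib.Invol.Basic

/-!
# Dickson's list for `PSL(2, q)`
-/

set_option autoImplicit false
set_option linter.unusedSectionVars false

namespace Cfsg.Lib.Dickson

open Matrix MulAction
open scoped MatrixGroups OnePoint

section Transport

variable {K L : Type*} [Field K] [Field L]

theorem map_center_mulEquiv {G G' : Type*} [Group G] [Group G'] (e : G ≃* G') :
    (Subgroup.center G).map e.toMonoidHom = Subgroup.center G' := by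
  ext x
  rw [Subgroup.mem_map]
  constructor
  · rintro ⟨y, hy, rfl⟩
    rw [Subgroup.mem_center_iff] at hy ⊢
    intro g
    obtain ⟨g, rfl⟩ := e.surjective g
    show e g * e y = e y * e g
    rw [← map_mul, ← map_mul, hy g]
  · intro hx
    refine ⟨e.symm x, ?_, e.apply_symm_apply x⟩
    rw [Subgroup.mem_center_iff] at hx ⊢
    intro g
    apply e.injective
    rw [map_mul, map_mul, e.apply_symm_apply, hx]

/-- `SL₂` along an isomorphism of fields. -/
def slEquiv (e : K ≃+* L) : SpecialLinearGroup (Fin 2) K ≃* SpecialLinearGroup (Fin 2) L where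
  toFun := SpecialLinearGroup.map e.toRingHom
  invFun := SpecialLinearGroup.map e.symm.toRingHom
  left_inv x := by ext i j; simp
  right_inv x := by ext i j; simp
  map_mul' := map_mul _

/-- `PSL₂` along an isomorphism of fields. -/
noncomputable def pslEquiv (e : K ≃+* L) :
    ProjectiveSpecialLinearGroup (Fin 2) K ≃* ProjectiveSpecialLinearGroup (Fin 2) L :=
  QuotientGroup.congr _ _ (slEquiv e) (map_center_mulEquiv _)

/-- `PGL₂` along an isomorphism of fields. -/
noncomputable def pglEquiv (e : K ≃+* L) : ProjGenLinGroup (Fin 2) K ≃* ProjGenLinGroup (Fin 2) L :=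
  QuotientGroup.congr _ _ (Units.mapEquiv (e.mapMatrix (m := Fin 2)).toMulEquiv) (map_center_mulEquiv _)

end Transport

section Closed

variable {E : Type*} [Field E] [DecidableEq E] (p : ℕ) [hp : Fact p.Prime] [CharP E p]

local notation "G2" => Matrix.ProjGenLinGroup (Fin 2) E

theorem aff_pow (a : Eˣ) (b : E) (n : ℕ) : ∃ b', (aff a b : G2) ^ n = aff (a ^ n) b' := by
  induction n with
  | zero => exact ⟨0, by rw [pow_zero, pow_zero, aff_one]⟩
  | succ n ih =>
    obtain ⟨b', hb'⟩ := ih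
    exact ⟨_, by rw [pow_succ, hb', aff_mul, ← pow_succ]⟩

variable [IsAlgClosed E]

theorem fixedBy_eq_of_pow_eq_one {g : G2} {k : ℕ} (hg : g ^ p ^ k = 1) (h1 : g ≠ 1) {x : OnePoint E}
    (hx : g • x = x) : fixedBy (OnePoint E) g = {x} := by
  obtain ⟨u, hu⟩ := exists_smul_infty x
  obtain ⟨a, b, hab⟩ := exists_aff_of_smul_infty (g := u * g * u⁻¹) (by
    rw [← hu, mul_smul, mul_smul, inv_smul_smul, hx])
  obtain ⟨b', hb'⟩ := aff_pow a b (p ^ k)
  rw [← hab, conj_pow, hg, mul_one, mul_inv_cancel, ← aff_one] at hb'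
  have ha : a ^ p ^ k = 1 := (aff_injective hb').1.symm
  have ha1 : a = 1 := by
    refine Units.ext ?_
    have h : ((a : E) - 1) ^ p ^ k = 0 := by
      rw [sub_pow_char_pow, one_pow, ← Units.val_pow_eq_pow_val, ha, Units.val_one, sub_self]
    exact sub_eq_zero.mp (pow_eq_zero_iff (pow_ne_zero k hp.out.ne_zero) |>.mp h)
  subst ha1
  have hb : b ≠ 0 := by
    rintro rfl
    exact h1 (conj_eq_one_iff.mp (hab.trans aff_one))
  have h := fixedBy_trans (E := E) hb
  rw [← hab, fixedBy_conj_eq, ← hu, ← Set.image_singleton (f := fun y => u • y)] at h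
  exact (MulAction.injective u).image_injective h

/-- A group of transformations fixing two points is cyclic of order prime to `p`. -/
theorem cyclic_of_fix_two {H : Subgroup (Matrix.ProjGenLinGroup (Fin 2) E)} [Finite H] {x y : OnePoint E}
    (hxy : x ≠ y) (hx : ∀ h ∈ H, h • x = x) (hy : ∀ h ∈ H, h • y = y) :
    IsCyclic H ∧ ¬ p ∣ Nat.card H := by
  obtain ⟨u, hux, huy⟩ := exists_smul_pair hxy
  have hex : ∀ h : H, ∃ a : Eˣ, u * (h : G2) * u⁻¹ = aff a 0 := by
    intro h
    obtain ⟨a, b, hab⟩ := exists_aff_of_smul_infty (g := u * (h : G2) * u⁻¹) (by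
      rw [← hux, mul_smul, mul_smul, inv_smul_smul, hx _ h.2])
    have h0 : (u * (h : G2) * u⁻¹) • ((0 : E) : OnePoint E) = ((0 : E) : OnePoint E) := by
      rw [← huy, mul_smul, mul_smul, inv_smul_smul, hy _ h.2]
    rw [hab, aff_some, OnePoint.coe_eq_coe, mul_zero, zero_add] at h0
    exact ⟨a, by rw [hab, h0]⟩
  choose a ha using hex
  let f : H →* E := (Units.coeHom E).comp (MonoidHom.mk' a fun g h => by
    have := ha (g * h)
    rw [Subgroup.coe_mul, show u * ((g : G2) * h) * u⁻¹ = (u * g * u⁻¹) * (u * h * u⁻¹) by group, ha, ha,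
      aff_mul] at this
    exact (aff_injective this).1.symm)
  have hf : Function.Injective f := fun g h e => by
    have e' : a g = a h := Units.ext e
    have := (ha g).trans ((congrArg (fun z => (aff z 0 : G2)) e').trans (ha h).symm)
    exact Subtype.ext (by simpa using this)
  refine ⟨isCyclic_of_subgroup_isDomain f hf, fun hdvd => ?_⟩
  obtain ⟨⟨h, hh⟩, ho⟩ := exists_prime_orderOf_dvd_card' (G := H) p hdvd
  rw [Subgroup.orderOf_mk] at ho
  have h1 : h ≠ 1 := fun e => hp.out.ne_one (ho.symm.trans (by rw [e, orderOf_one]))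
  have hfix := fixedBy_eq_of_pow_eq_one p (k := 1) (by rw [pow_one, ← ho]; exact pow_orderOf_eq_one h) h1 (hx h hh)
  have : y ∈ fixedBy (OnePoint E) h := hy h hh
  rw [hfix] at this
  exact hxy this.symm

/-- The stabilizer of a pair of points: cyclic or dihedral. -/
theorem cyclic_or_dihedral_of_pair {H : Subgroup (Matrix.ProjGenLinGroup (Fin 2) E)} [Finite H]
    {x y : OnePoint E} (hxy : x ≠ y)
    (hpair : ∀ h ∈ H, (h • x = x ∧ h • y = y) ∨ (h • x = y ∧ h • y = x)) :
    (IsCyclic H ∧ ¬ p ∣ Nat.card H) ∨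
      ∃ r : H, ¬ p ∣ orderOf r ∧ Nonempty (H ≃* DihedralGroup (orderOf r)) := by
  by_cases hall : ∀ h ∈ H, h • x = x
  · refine Or.inl (cyclic_of_fix_two p hxy hall fun h hh => ?_)
    rcases hpair h hh with e | e
    · exact e.2
    · exact absurd ((hall h hh).symm.trans e.1) hxy
  push Not at hall
  obtain ⟨w, hw, hwx⟩ := hall
  right
  set S : Subgroup (Matrix.ProjGenLinGroup (Fin 2) E) := H ⊓ stabilizer (Matrix.ProjGenLinGroup (Fin 2) E) x
  have hSy : ∀ h ∈ S, h • y = y := fun h hh => by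
    rcases hpair h hh.1 with e | e
    · exact e.2
    · exact absurd ((mem_stabilizer_iff.mp hh.2).symm.trans e.1) hxy
  haveI : Finite S := Finite.of_injective _ (Subgroup.inclusion_injective (inf_le_left : S ≤ H))
  obtain ⟨hc, hpS⟩ := cyclic_of_fix_two p hxy (fun h (hh : h ∈ S) => mem_stabilizer_iff.mp hh.2) hSy
  obtain ⟨⟨r, hr⟩, hgen⟩ := hc.exists_generator
  have hro : orderOf r = Nat.card S := by
    rw [← Subgroup.orderOf_mk r hr]; exact orderOf_eq_card_of_forall_mem_zpowers hgen
  obtain ⟨hwx', hwy⟩ : w • x = y ∧ w • y = x := (hpair w hw).resolve_left fun e => hwx e.1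
  obtain ⟨u, hux, huy⟩ := exists_smul_pair hxy
  obtain ⟨c, hc'⟩ := exists_flip (g := u * w * u⁻¹)
    (by rw [← hux, mul_smul, mul_smul, inv_smul_smul, hwx', huy])
    (by rw [← huy, mul_smul, mul_smul, inv_smul_smul, hwy, hux])
  have hcc : (flip' c : G2) * flip' c = 1 := by
    rw [flip', ← map_mul, ProjGenLinGroup.mk_eq_one, GeneralLinearGroup.center_eq_range_scalar]
    refine ⟨c, Units.ext ?_⟩
    rw [Units.val_mul, flipGL_coe]
    ext i j
    fin_cases i <;> fin_cases j <;> simp [Matrix.mul_apply, Fin.sum_univ_two]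
  have hwsq : w * w = 1 := by
    have : (u * w * u⁻¹) * (u * w * u⁻¹) = 1 := by rw [hc', hcc]
    rw [show u * w * u⁻¹ * (u * w * u⁻¹) = u * (w * w) * u⁻¹ by group] at this
    exact conj_eq_one_iff.mp this
  obtain ⟨a, b, hab⟩ := exists_aff_of_smul_infty (g := u * r * u⁻¹) (by
    rw [← hux, mul_smul, mul_smul, inv_smul_smul, mem_stabilizer_iff.mp hr.2])
  have hb : b = 0 := by
    have h0 : (u * r * u⁻¹) • ((0 : E) : OnePoint E) = ((0 : E) : OnePoint E) := by
      rw [← huy, mul_smul, mul_smul, inv_smul_smul, hSy r hr]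
    rw [hab, aff_some, OnePoint.coe_eq_coe, mul_zero, zero_add] at h0
    exact h0
  subst hb
  have hwr : w * r * w⁻¹ = r⁻¹ := by
    have key : (flip' c : G2) * aff a 0 * (flip' c)⁻¹ = (aff a 0)⁻¹ := by
      rw [eq_inv_iff_mul_eq_one, inv_eq_of_mul_eq_one_right hcc]
      rw [flip', aff, ← map_mul, ← map_mul, ← map_mul, ProjGenLinGroup.mk_eq_one,
        GeneralLinearGroup.center_eq_range_scalar]
      refine ⟨c * a, Units.ext ?_⟩
      rw [Units.val_mul, Units.val_mul, Units.val_mul, flipGL_coe, affGL_coe]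
      ext i j
      fin_cases i <;> fin_cases j <;> simp [Matrix.mul_apply, Fin.sum_univ_two, mul_comm]
    rw [← hc', ← hab] at key
    apply (MulAut.conj u).injective
    simp only [MulAut.conj_apply]
    rw [show u * (w * r * w⁻¹) * u⁻¹ = u * w * u⁻¹ * (u * r * u⁻¹) * (u * w * u⁻¹)⁻¹ by group, key]
    group
  have hwm : w ∉ Subgroup.zpowers r := fun hm => by
    have h2 : w ∈ stabilizer (Matrix.ProjGenLinGroup (Fin 2) E) x := (Subgroup.zpowers_le.mpr hr.2) hm
    exact hwx h2
  set f := Cfsg.Lib.Invol.dihedralHom (orderOf r) (pow_orderOf_eq_one r) hwsq hwr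
  have hrange : f.range = H := by
    refine le_antisymm ?_ fun h hh => ?_
    · rintro _ ⟨(i | i), rfl⟩
      · rw [Cfsg.Lib.Invol.dihedralHom_r]; exact H.zpow_mem hr.1 _
      · rw [Cfsg.Lib.Invol.dihedralHom_sr]; exact H.mul_mem hw (H.zpow_mem hr.1 _)
    · have hS : ∀ g ∈ S, g ∈ f.range := by
        intro g hg
        obtain ⟨n, hn⟩ := Subgroup.mem_zpowers_iff.mp (hgen ⟨g, hg⟩)
        have hn' : r ^ n = g := by simpa using congrArg Subtype.val hn
        have hr' : r ∈ f.range := ⟨DihedralGroup.r 1, by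
          rw [Cfsg.Lib.Invol.dihedralHom_r]
          conv_rhs => rw [← zpow_one r]
          rw [zpow_eq_zpow_iff_modEq, ← ZMod.intCast_eq_intCast_iff]
          simp⟩
        rw [← hn']
        exact f.range.zpow_mem hr' n
      rcases hpair h hh with e | e
      · exact hS h ⟨hh, e.1⟩
      · have hw' : w ∈ f.range := ⟨DihedralGroup.sr 0, by
          rw [Cfsg.Lib.Invol.dihedralHom_sr]
          simp⟩
        have h2 : w * h ∈ S := ⟨H.mul_mem hw hh, by
          show (w * h) • x = x
          rw [mul_smul, e.1, hwy]⟩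
        exact (Subgroup.mul_mem_cancel_left _ hw').mp (hS _ h2)
  refine ⟨⟨r, hr.1⟩, by rw [Subgroup.orderOf_mk, hro]; exact hpS, ?_⟩
  rw [Subgroup.orderOf_mk]
  exact ⟨((MonoidHom.ofInjective (f := f) (Cfsg.Lib.Invol.dihedralHom_injective hwsq hwr hwm)).trans
    (MulEquiv.subgroupCongr hrange)).symm⟩

/-- A group fixing a point and containing no element fixing only that point is cyclic. -/
theorem cyclic_of_fix_one {H : Subgroup (Matrix.ProjGenLinGroup (Fin 2) E)} [Finite H] {x : OnePoint E}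
    (hx : ∀ h ∈ H, h • x = x) (hno : ∀ h ∈ H, h ≠ 1 → h ∉ unip x) :
    IsCyclic H ∧ ¬ p ∣ Nat.card H := by
  obtain ⟨u, hu⟩ := exists_smul_infty x
  have hex : ∀ h : H, ∃ a : Eˣ, ∃ b : E, u * (h : G2) * u⁻¹ = aff a b := fun h =>
    exists_aff_of_smul_infty (by rw [← hu, mul_smul, mul_smul, inv_smul_smul, hx _ h.2])
  choose a b hab using hex
  let f : H →* E := (Units.coeHom E).comp (MonoidHom.mk' a fun g h => by
    have := hab (g * h)
    rw [Subgroup.coe_mul, show u * ((g : G2) * h) * u⁻¹ = (u * g * u⁻¹) * (u * h * u⁻¹) by group, hab, hab,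
      aff_mul] at this
    exact (aff_injective this).1.symm)
  have hf : Function.Injective f := by
    rw [injective_iff_map_eq_one]
    intro h e
    have ha : a h = 1 := Units.ext e
    by_contra h1
    refine hno h h.2 (fun e' => h1 (Subtype.ext e')) (mem_unip_iff.mpr (Or.inr ?_))
    have hb : b h ≠ 0 := by
      intro hb
      exact h1 (Subtype.ext (conj_eq_one_iff.mp ((hab h).trans (by rw [ha, hb, aff_one]))))
    have h2 := fixedBy_trans (E := E) hb
    rw [← ha, ← hab, fixedBy_conj_eq, ← hu, ← Set.image_singleton (f := fun y => u • y)] at h2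
    exact (MulAction.injective u).image_injective h2
  refine ⟨isCyclic_of_subgroup_isDomain f hf, fun hdvd => ?_⟩
  obtain ⟨⟨h, hh⟩, ho⟩ := exists_prime_orderOf_dvd_card' (G := H) p hdvd
  rw [Subgroup.orderOf_mk] at ho
  have h1 : h ≠ 1 := fun e => hp.out.ne_one (ho.symm.trans (by rw [e, orderOf_one]))
  exact hno h hh h1 (mem_unip_iff.mpr (Or.inr
    (fixedBy_eq_of_pow_eq_one p (k := 1) (by rw [pow_one, ← ho]; exact pow_orderOf_eq_one h) h1 (hx h hh))))

end Closed

section Finite

variable {F : Type*} [Field F] [Fintype F]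

local notation "PSL2" => Matrix.ProjectiveSpecialLinearGroup (Fin 2) F

/-- `PSL₂` inside `PGL₂` of the algebraic closure. -/
noncomputable def emb (F : Type*) [Field F] :
    Matrix.ProjectiveSpecialLinearGroup (Fin 2) F →* Matrix.ProjGenLinGroup (Fin 2) (AlgebraicClosure F) :=
  (ProjGenLinGroup.map (algebraMap F (AlgebraicClosure F))).comp ProjectiveSpecialLinearGroup.toPGL

theorem emb_injective : Function.Injective (emb F) := by
  classical
  exact (map_injective_of_field _).comp ProjectiveSpecialLinearGroup.toPGL_injective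

theorem dvd_quot_of_not_dvd (p : ℕ) [hp : Fact p.Prime] [CharP F p] {x : PSL2} (hx : ¬ p ∣ orderOf x) :
    orderOf x ∣ (Fintype.card F + 1) / Nat.gcd 2 (Fintype.card F - 1) ∨
      orderOf x ∣ (Fintype.card F - 1) / Nat.gcd 2 (Fintype.card F - 1) := by
  rcases Cfsg.Lib.Spec.psl_two_exponents p x with h | h | h
  · left
    have h1 : orderOf x = 1 :=
      ((Nat.dvd_prime hp.out).mp (orderOf_dvd_of_pow_eq_one h)).resolve_right fun e => hx (e ▸ dvd_refl p)
    rw [h1]; exact one_dvd _
  · exact Or.inr (orderOf_dvd_of_pow_eq_one h)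
  · exact Or.inl (orderOf_dvd_of_pow_eq_one h)

theorem subfield_le_range [DecidableEq (AlgebraicClosure F)] {H : Subgroup PSL2}
    {K : Subfield (AlgebraicClosure F)} {u : Matrix.ProjGenLinGroup (Fin 2) (AlgebraicClosure F)}
    (p : ℕ) [hp : Fact p.Prime] [CharP F p] [Finite K]
    (h : (SpecialLinearGroup.toPGL : SpecialLinearGroup (Fin 2) K →* _).range.map (ProjGenLinGroup.map K.subtype) ≤
      (H.map (emb F)).map (MulAut.conj u).toMonoidHom) :
    ∀ a ∈ K, a ∈ (algebraMap F (AlgebraicClosure F)).fieldRange := by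
  set R := (algebraMap F (AlgebraicClosure F)).fieldRange
  haveI : CharP (AlgebraicClosure F) p := charP_of_injective_algebraMap (algebraMap F _).injective p
  have key : ∀ a : AlgebraicClosure F, a ∈ K → a ^ 2 ∈ R := by
    intro a ha
    let A : SpecialLinearGroup (Fin 2) K := ⟨!![⟨a, ha⟩, -1; 1, 0], by simp [det_fin_two]⟩
    obtain ⟨_, ⟨z, -, rfl⟩, hz⟩ := h (Subgroup.mem_map_of_mem _ ⟨A, rfl⟩)
    induction z using QuotientGroup.induction_on with | H g => ?_
    induction u using Matrix.ProjGenLinGroup.induction_on with | mk U => ?_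
    rw [MulEquiv.coe_toMonoidHom, MulAut.conj_apply, emb, MonoidHom.comp_apply,
      ProjectiveSpecialLinearGroup.toPGL_mk, ProjGenLinGroup.map_mk] at hz
    rw [show SpecialLinearGroup.toPGL A = ProjGenLinGroup.mk (SpecialLinearGroup.toGL A) from rfl,
      ProjGenLinGroup.map_mk, ← map_inv, ← map_mul, ← map_mul, ProjGenLinGroup.mk_eq_mk_iff] at hz
    obtain ⟨s, hs⟩ := hz
    have hs' := congrArg (fun X : GL (Fin 2) (AlgebraicClosure F) => (X : Matrix (Fin 2) (Fin 2) (AlgebraicClosure F))) hs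
    have htr := congrArg Matrix.trace hs'
    have hdet := congrArg Matrix.det hs'
    have hgdet : (g : Matrix (Fin 2) (Fin 2) F).det = 1 := g.2
    simp only [Units.val_mul, GeneralLinearGroup.coe_scalar, Matrix.scalar_apply, Matrix.det_mul] at hdet
    simp only [Units.val_mul, GeneralLinearGroup.coe_scalar, Matrix.scalar_apply] at htr
    rw [← Matrix.smul_one_eq_diagonal, Matrix.mul_smul, mul_one, Matrix.trace_smul,
      Matrix.trace_units_conj] at htr
    rw [← Matrix.smul_one_eq_diagonal, Matrix.det_smul, Matrix.det_one] at hdet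
    have hUU : (U : Matrix (Fin 2) (Fin 2) (AlgebraicClosure F)).det *
        ((U⁻¹ : GL (Fin 2) (AlgebraicClosure F)) : Matrix (Fin 2) (Fin 2) (AlgebraicClosure F)).det = 1 := by
      rw [← Matrix.det_mul, ← Units.val_mul, mul_inv_cancel, Units.val_one, Matrix.det_one]
    have hB : ((GeneralLinearGroup.map K.subtype (SpecialLinearGroup.toGL A)) :
        GL (Fin 2) (AlgebraicClosure F)).val = !![a, -1; 1, 0] := by
      ext i j
      fin_cases i <;> fin_cases j <;> simp [A, SpecialLinearGroup.toGL]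
    have hG : ((GeneralLinearGroup.map (algebraMap F (AlgebraicClosure F)) (SpecialLinearGroup.toGL g)) :
        GL (Fin 2) (AlgebraicClosure F)).val =
        (g : Matrix (Fin 2) (Fin 2) F).map (algebraMap F (AlgebraicClosure F)) := by
      ext i j
      simp [SpecialLinearGroup.toGL]
    have hGd : ((g : Matrix (Fin 2) (Fin 2) F).map (algebraMap F (AlgebraicClosure F))).det = 1 := by
      rw [← RingHom.mapMatrix_apply, ← RingHom.map_det, hgdet, map_one]
    have hGt : ((g : Matrix (Fin 2) (Fin 2) F).map (algebraMap F (AlgebraicClosure F))).trace =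
        algebraMap F (AlgebraicClosure F) (g : Matrix (Fin 2) (Fin 2) F).trace := by
      simp [Matrix.trace_fin_two]
    rw [hB, hG, hGd, mul_one, hUU, Fintype.card_fin, mul_one, one_mul,
      show (!![a, -1; 1, 0] : Matrix (Fin 2) (Fin 2) (AlgebraicClosure F)).det = 1 by simp [det_fin_two]] at hdet
    rw [hB, hG, hGt, smul_eq_mul,
      show (!![a, -1; 1, 0] : Matrix (Fin 2) (Fin 2) (AlgebraicClosure F)).trace = a by simp [Matrix.trace_fin_two]] at htr
    have hs2 : (s : AlgebraicClosure F) ^ 2 = 1 := hdet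
    have htr' : (s : AlgebraicClosure F) * algebraMap F (AlgebraicClosure F) (g : Matrix (Fin 2) (Fin 2) F).trace = a := htr
    refine ⟨(g : Matrix (Fin 2) (Fin 2) F).trace ^ 2, ?_⟩
    rw [← htr', mul_pow, hs2, one_mul, map_pow]
  intro a ha
  by_cases h2 : p = 2
  · subst h2
    have hinj : Function.Injective (fun x : K => x ^ 2) := fun x y e => by
      haveI : CharP K 2 := Subfield.charP K 2
      exact frobenius_inj K 2 e
    obtain ⟨b, hb⟩ := Finite.injective_iff_surjective.mp hinj ⟨a, ha⟩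
    have := key b b.2
    rwa [show ((b : AlgebraicClosure F)) ^ 2 = a from congrArg Subtype.val hb] at this
  · have h1 := key (a + 1) (K.add_mem ha K.one_mem)
    have h0 := key a ha
    have h2a : 2 * a ∈ R := by
      have := R.sub_mem (R.sub_mem h1 h0) R.one_mem
      convert this using 1
      ring
    have h2ne : (2 : AlgebraicClosure F) ≠ 0 := by
      intro h0
      have := (CharP.cast_eq_zero_iff (AlgebraicClosure F) p 2).mp (by exact_mod_cast h0)
      exact h2 ((Nat.prime_dvd_prime_iff_eq hp.out Nat.prime_two).mp this)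
    have := R.mul_mem (R.inv_mem (R.add_mem R.one_mem R.one_mem)) h2a
    rwa [one_add_one_eq_two, inv_mul_cancel_left₀ h2ne] at this

theorem le_normalizer_of_fix (p : ℕ) [hp : Fact p.Prime] [CharP F p] [DecidableEq (AlgebraicClosure F)]
    (H : Subgroup PSL2) {x : OnePoint (AlgebraicClosure F)} (hx : ∀ h ∈ H, emb F h • x = x)
    {h₀ : PSL2} (h₀H : h₀ ∈ H) (h₀1 : h₀ ≠ 1) (h₀u : emb F h₀ ∈ unip x) :
    p ∣ Nat.card H ∧ ∃ P : Sylow p PSL2, H ≤ Subgroup.normalizer ((P : Subgroup PSL2) : Set PSL2) := by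
  haveI : CharP (AlgebraicClosure F) p := charP_of_injective_algebraMap (algebraMap F _).injective p
  constructor
  · have hpow : h₀ ^ p = 1 := emb_injective (by rw [map_pow, map_one]; exact pow_char_of_mem_unip p h₀u)
    have : orderOf h₀ = p := orderOf_eq_prime hpow h₀1
    rw [← this, ← Subgroup.orderOf_mk h₀ h₀H]
    exact orderOf_dvd_natCard _
  set Q := (unip x).comap (emb F)
  have hQp : IsPGroup p Q := fun q => ⟨1, Subtype.ext (emb_injective (by
    rw [SubmonoidClass.coe_pow, pow_one, map_pow, Subgroup.coe_one, map_one]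
    exact pow_char_of_mem_unip p q.2))⟩
  obtain ⟨P, hP⟩ := hQp.exists_le_sylow
  have h₀P : h₀ ∈ (P : Subgroup PSL2) := hP h₀u
  have hh₀ : fixedBy (OnePoint (AlgebraicClosure F)) (emb F h₀) = {x} :=
    (mem_unip_iff.mp h₀u).resolve_left fun e => h₀1 (emb_injective (e.trans (map_one _).symm))
  haveI : Finite PSL2 := inferInstance
  haveI : Nontrivial (P : Subgroup PSL2) :=
    ⟨⟨⟨h₀, h₀P⟩, 1, fun e => h₀1 (congrArg Subtype.val e)⟩⟩
  haveI := P.2.center_nontrivial
  obtain ⟨⟨z, hz⟩, hz1⟩ := exists_ne (1 : Subgroup.center (P : Subgroup PSL2))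
  have hz1' : (z : PSL2) ≠ 1 := fun e => hz1 (Subtype.ext (Subtype.ext e))
  have hpk : ∀ y : (P : Subgroup PSL2), ∃ k, emb F (y : PSL2) ^ p ^ k = 1 := fun y => by
    obtain ⟨k, hk⟩ := P.2 y
    exact ⟨k, by rw [← map_pow, ← SubmonoidClass.coe_pow, hk]; exact map_one _⟩
  have hzx : emb F z • x = x := by
    have hc : emb F h₀ * emb F z = emb F z * emb F h₀ := by
      rw [← map_mul, ← map_mul]
      exact congrArg (emb F) (congrArg Subtype.val (Subgroup.mem_center_iff.mp hz ⟨h₀, h₀P⟩))
    have : emb F z • x ∈ fixedBy (OnePoint (AlgebraicClosure F)) (emb F h₀) := by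
      have hxx : x ∈ fixedBy (OnePoint (AlgebraicClosure F)) (emb F h₀) := by rw [hh₀]; exact Set.mem_singleton x
      rw [mem_fixedBy] at hxx
      show emb F h₀ • emb F z • x = emb F z • x
      rw [← mul_smul, hc, mul_smul, hxx]
    rwa [hh₀] at this
  have hzfix : fixedBy (OnePoint (AlgebraicClosure F)) (emb F z) = {x} := by
    obtain ⟨k, hk⟩ := hpk z
    exact fixedBy_eq_of_pow_eq_one p hk (fun e => hz1' (emb_injective (e.trans (map_one _).symm))) hzx
  have hPQ : (P : Subgroup PSL2) ≤ Q := by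
    intro y hy
    show emb F y ∈ unip x
    rw [mem_unip_iff]
    by_cases hy1 : y = 1
    · exact Or.inl (by rw [hy1, map_one])
    right
    have hc : emb F z * emb F y = emb F y * emb F z := by
      rw [← map_mul, ← map_mul]
      exact congrArg (emb F) (congrArg Subtype.val (Subgroup.mem_center_iff.mp hz ⟨y, hy⟩).symm)
    have hyx : emb F y • x = x := by
      have : emb F y • x ∈ fixedBy (OnePoint (AlgebraicClosure F)) (emb F z) := by
        show emb F z • emb F y • x = emb F y • x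
        rw [← mul_smul, hc, mul_smul, hzx]
      rwa [hzfix] at this
    obtain ⟨k, hk⟩ := hpk ⟨y, hy⟩
    exact fixedBy_eq_of_pow_eq_one p hk (fun e => hy1 (emb_injective (e.trans (map_one _).symm))) hyx
  have hPeq : (P : Subgroup PSL2) = Q := le_antisymm hPQ hP
  refine ⟨P, fun h hh => ?_⟩
  rw [hPeq, Subgroup.mem_normalizer_iff]
  have key : ∀ g : PSL2, g ∈ H → ∀ q ∈ Q, g * q * g⁻¹ ∈ Q := by
    intro g hg q hq
    show emb F (g * q * g⁻¹) ∈ unip x
    rw [map_mul, map_mul, map_inv, mem_unip_iff]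
    rcases mem_unip_iff.mp (show emb F q ∈ unip x from hq) with e | e
    · exact Or.inl (by rw [e, mul_one, mul_inv_cancel])
    · exact Or.inr (by rw [fixedBy_conj_eq, e, Set.image_singleton, hx g hg])
  intro q
  refine ⟨key h hh q, fun hq => ?_⟩
  have := key h⁻¹ (H.inv_mem hh) _ hq
  simpa [mul_assoc] using this

/-- Dickson's list. -/
theorem psl_subgroup_cases (p : ℕ) [hp : Fact p.Prime] [CharP F p] (H : Subgroup PSL2) :
    (∃ k : ℕ, (k ∣ (Fintype.card F + 1) / Nat.gcd 2 (Fintype.card F - 1) ∨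
        k ∣ (Fintype.card F - 1) / Nat.gcd 2 (Fintype.card F - 1)) ∧
        ((IsCyclic H ∧ Nat.card H = k) ∨ Nonempty (H ≃* DihedralGroup k))) ∨
      (p ∣ Nat.card H ∧ ∃ P : Sylow p PSL2, H ≤ Subgroup.normalizer ((P : Subgroup PSL2) : Set PSL2)) ∨
      (NoNormalCyclic H ∧ (Nonempty (H ≃* alternatingGroup (Fin 4)) ∨ Nonempty (H ≃* Equiv.Perm (Fin 4)) ∨
        Nonempty (H ≃* alternatingGroup (Fin 5)) ∨
        ∃ (K : Type) (_ : Field K) (_ : Fintype K) (m : ℕ), CharP K p ∧ 3 ≤ Fintype.card K ∧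
          Fintype.card K ^ m = Fintype.card F ∧
          ((Nonempty (H ≃* Matrix.ProjectiveSpecialLinearGroup (Fin 2) K) ∧ Fintype.card K % 2 = 1) ∨
            Nonempty (H ≃* Matrix.ProjGenLinGroup (Fin 2) K)))) := by
  classical
  haveI : CharP (AlgebraicClosure F) p := charP_of_injective_algebraMap (algebraMap F _).injective p
  haveI : Finite PSL2 := inferInstance
  set H' := H.map (emb F) with hH'
  let e : H ≃* H' := Subgroup.equivMapOfInjective H (emb F) emb_injective
  haveI : Finite H' := Finite.of_equiv H e.toEquiv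
  have hord : ∀ r : H', ∃ r₀ : H, orderOf r₀ = orderOf r := fun r => ⟨e.symm r, e.symm.orderOf_eq r⟩
  have hcyc : IsCyclic H' → ¬ p ∣ Nat.card H' → ∃ k : ℕ, (k ∣ (Fintype.card F + 1) / Nat.gcd 2 (Fintype.card F - 1) ∨
        k ∣ (Fintype.card F - 1) / Nat.gcd 2 (Fintype.card F - 1)) ∧
        ((IsCyclic H ∧ Nat.card H = k) ∨ Nonempty (H ≃* DihedralGroup k)) := by
    intro hc hpd
    have hcard : Nat.card H = Nat.card H' := Nat.card_congr e.toEquiv
    obtain ⟨r, hr⟩ := IsCyclic.exists_ofOrder_eq_natCard (α := H')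
    obtain ⟨r₀, hr₀⟩ := hord r
    refine ⟨Nat.card H, ?_, Or.inl ⟨(MulEquiv.isCyclic e).mpr hc, rfl⟩⟩
    rw [hcard, ← hr, ← hr₀, ← Subgroup.orderOf_coe]
    refine dvd_quot_of_not_dvd p ?_
    rw [Subgroup.orderOf_coe, hr₀, hr]
    exact hpd
  rcases finite_subgroup_cases p H' with (⟨x, hx⟩ | ⟨x, y, hxy, hpair⟩) | ⟨hnn, hcases⟩
  · by_cases hA : ∃ h ∈ H', h ≠ 1 ∧ h ∈ unip x
    · obtain ⟨_, ⟨h₀, h₀H, rfl⟩, h₀1, h₀u⟩ := hA
      exact Or.inr (Or.inl (le_normalizer_of_fix p H (fun h hh => hx _ (Subgroup.mem_map_of_mem _ hh)) h₀H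
        (fun e' => h₀1 (by rw [e', map_one])) h₀u))
    · push Not at hA
      obtain ⟨hc, hpd⟩ := cyclic_of_fix_one p hx hA
      exact Or.inl (hcyc hc hpd)
  · rcases cyclic_or_dihedral_of_pair p hxy hpair with ⟨hc, hpd⟩ | ⟨r, hr, ⟨d⟩⟩
    · exact Or.inl (hcyc hc hpd)
    · obtain ⟨r₀, hr₀⟩ := hord r
      refine Or.inl ⟨orderOf r, ?_, Or.inr ⟨e.trans d⟩⟩
      rw [← hr₀, ← Subgroup.orderOf_coe]
      refine dvd_quot_of_not_dvd p ?_
      rw [Subgroup.orderOf_coe, hr₀]
      exact hr
  refine Or.inr (Or.inr ⟨?_, ?_⟩)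
  · intro N hN hc
    have := hnn (N.map e.toMonoidHom) (hN.map _ e.surjective)
      (isCyclic_of_surjective _ (N.equivMapOfInjective e.toMonoidHom e.injective).surjective)
    rwa [Subgroup.map_eq_bot_iff_of_injective _ e.injective] at this
  rcases hcases with f | f | f | ⟨K, u, hK, h3, hle, hiso⟩
  · exact f.elim fun f => Or.inl ⟨e.trans f⟩
  · exact f.elim fun f => Or.inr (Or.inl ⟨e.trans f⟩)
  · exact f.elim fun f => Or.inr (Or.inr (Or.inl ⟨e.trans f⟩))
  right; right; right
  have hKR := subfield_le_range p hle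
  haveI : Fintype K := Fintype.ofFinite _
  -- the subfield of `F`
  set F₀ : Subfield F := K.comap (algebraMap F (AlgebraicClosure F)) with hF₀
  have hbij : Function.Bijective (fun a : F₀ => (⟨algebraMap F _ (a : F), a.2⟩ : K)) := by
    refine ⟨fun a b h => Subtype.ext ((algebraMap F (AlgebraicClosure F)).injective (congrArg Subtype.val h)),
      fun b => ?_⟩
    obtain ⟨a, ha⟩ := hKR b b.2
    exact ⟨⟨a, by show algebraMap F _ a ∈ K; rw [ha]; exact b.2⟩, Subtype.ext ha⟩
  haveI : Fintype F₀ := Fintype.ofFinite _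
  have hc₀ : Fintype.card F₀ = Fintype.card K := Fintype.card_of_bijective hbij
  have hm : Fintype.card F = Fintype.card K ^ Module.finrank F₀ F := by
    rw [← hc₀]; exact Module.card_eq_pow_finrank
  haveI : CharP K p := Subfield.charP K p
  obtain ⟨n, -, hn⟩ := FiniteField.card K p
  haveI : Fintype (GaloisField p n) := Fintype.ofFinite _
  have hcard : Fintype.card (GaloisField p n) = Fintype.card K := by
    rw [hn, ← Nat.card_eq_fintype_card, GaloisField.card p n n.pos.ne']
  obtain ⟨φ⟩ : Nonempty (K ≃+* GaloisField p n) := ⟨FiniteField.ringEquivOfCardEq hcard.symm⟩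
  refine ⟨GaloisField p n, inferInstance, inferInstance, Module.finrank F₀ F, inferInstance,
    by rw [hcard, ← Nat.card_eq_fintype_card]; exact h3, by rw [hcard, hm], ?_⟩
  rcases hiso with ⟨⟨f⟩, hodd⟩ | f
  · exact Or.inl ⟨⟨(e.trans f).trans (pslEquiv φ)⟩, by rw [hcard, ← Nat.card_eq_fintype_card]; exact hodd⟩
  · exact Or.inr (f.elim fun f => ⟨(e.trans f).trans (pglEquiv φ)⟩)

end Finite

end Cfsg.Lib.Dickson
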