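import Mathlib
import Cfsg.Agent.Lib.Dickson.PSLTwo
import Cfsg.Agent.Lib.Linear.PSLSmall

/-!
# Orders of the subgroups of `PSL(2, q)`
-/

set_option autoImplicit false
set_option linter.unusedSectionVars false

namespace Cfsg.Lib.Dickson

open Matrix
open scoped MatrixGroups

variable {F : Type*} [Field F] [Fintype F]

local notation "PSL2" => Matrix.ProjectiveSpecialLinearGroup (Fin 2) F
local notation "SL2" => Matrix.SpecialLinearGroup (Fin 2) F

/-- The triangular subgroup of `SL₂`. -/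
def borelSL (F : Type*) [Field F] : Subgroup (Matrix.SpecialLinearGroup (Fin 2) F) where
  carrier := {g | g 1 0 = 0}
  one_mem' := by simp
  mul_mem' {a b} ha hb := by
    simp only [Set.mem_setOf_eq] at ha hb ⊢
    simp [Matrix.mul_apply, Fin.sum_univ_two, ha, hb]
  inv_mem' {a} ha := by
    simp only [Set.mem_setOf_eq] at ha ⊢
    simp [adjugate_fin_two, ha]

theorem mem_borelSL {g : SL2} : g ∈ borelSL F ↔ g 1 0 = 0 := Iff.rfl

theorem card_borelSL : Nat.card (borelSL F) = Fintype.card F * (Fintype.card F - 1) := by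
  have key : ∀ g : borelSL F, (g : SL2) 0 0 ≠ 0 := by
    intro g h0
    have := (g : SL2).2
    rw [det_fin_two, show ((g : SL2) : Matrix (Fin 2) (Fin 2) F) 0 0 = 0 from h0,
      show ((g : SL2) : Matrix (Fin 2) (Fin 2) F) 1 0 = 0 from g.2] at this
    simp at this
  rw [Nat.card_congr (Equiv.ofBijective (fun g : borelSL F => (((g : SL2) 0 1), Units.mk0 _ (key g))) ⟨?_, ?_⟩),
    Nat.card_prod, Cfsg.Lib.Linear.card_units_eq, Nat.card_eq_fintype_card]
  · intro g h e
    simp only [Prod.mk.injEq, Units.mk0_inj] at e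
    have hg := (g : SL2).2
    have hh := (h : SL2).2
    rw [det_fin_two, show ((g : SL2) : Matrix (Fin 2) (Fin 2) F) 1 0 = 0 from g.2, mul_zero, sub_zero] at hg
    rw [det_fin_two, show ((h : SL2) : Matrix (Fin 2) (Fin 2) F) 1 0 = 0 from h.2, mul_zero, sub_zero] at hh
    have h11 : (g : SL2) 1 1 = (h : SL2) 1 1 := by
      rw [← e.2] at hh
      exact mul_left_cancel₀ (key g) (hg.trans hh.symm)
    apply Subtype.ext
    apply Matrix.SpecialLinearGroup.ext
    intro i j
    fin_cases i <;> fin_cases j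
    · exact e.2
    · exact e.1
    · exact g.2.trans h.2.symm
    · exact h11
  · rintro ⟨b, a⟩
    refine ⟨⟨⟨!![(a : F), b; 0, (a⁻¹ : Fˣ)], by simp [det_fin_two]⟩, rfl⟩, ?_⟩
    exact Prod.ext rfl (Units.ext rfl)

/-- The standard Sylow subgroup of `PSL₂` in the defining characteristic. -/
noncomputable def stdSylow (p : ℕ) [Fact p.Prime] [CharP F p] : Sylow p PSL2 :=
  (((Cfsg.Lib.Linear.Two.isPGroup_UT (F := F) p).map (QuotientGroup.mk' (Subgroup.center SL2))).toSylow
    (fun h => Cfsg.Lib.Linear.Two.not_dvd_index_UT (F := F) p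
      (h.trans (Subgroup.index_map_dvd _ (QuotientGroup.mk'_surjective _)))))

theorem stdSylow_coe (p : ℕ) [Fact p.Prime] [CharP F p] :
    ((stdSylow (F := F) p) : Subgroup PSL2) = (Cfsg.Lib.Linear.Two.UT F).map (QuotientGroup.mk' (Subgroup.center SL2)) := rfl

theorem mem_center_sl {z : SL2} (hz : z ∈ Subgroup.center SL2) : z 0 1 = 0 ∧ z 1 0 = 0 ∧ z 1 1 = z 0 0 := by
  obtain ⟨r, -, hr⟩ := Matrix.SpecialLinearGroup.mem_center_iff.mp hz
  rw [← hr]
  simp

theorem normalizer_stdSylow (p : ℕ) [Fact p.Prime] [CharP F p] :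
    Subgroup.normalizer (((stdSylow (F := F) p) : Subgroup PSL2) : Set PSL2) =
      (borelSL F).map (QuotientGroup.mk' (Subgroup.center SL2)) := by
  rw [stdSylow_coe]
  set π := QuotientGroup.mk' (Subgroup.center SL2)
  refine le_antisymm ?_ ?_
  · intro x hx
    obtain ⟨g, rfl⟩ := QuotientGroup.mk'_surjective _ x
    refine ⟨g, ?_, rfl⟩
    set t : SL2 := Cfsg.Lib.Linear.Two.ut (Multiplicative.ofAdd 1) with ht
    have htm : π t ∈ (Cfsg.Lib.Linear.Two.UT F).map π := Subgroup.mem_map_of_mem _ ⟨_, rfl⟩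
    obtain ⟨t', ht', he⟩ := (Subgroup.mem_normalizer_iff.mp hx (π t)).mp htm
    have he' : π (g * t * g⁻¹) = π t' := by rw [map_mul, map_mul, map_inv]; exact he.symm
    obtain ⟨z, hz, hz'⟩ := (QuotientGroup.mk'_eq_mk' _).mp he'
    obtain ⟨z01, z10, z11⟩ := mem_center_sl hz
    obtain ⟨t00, t11, t10⟩ := Cfsg.Lib.Linear.Two.mem_UT.mp ht'
    have hgt : g * t * z = t' * g := by
      rw [← hz', mul_assoc (g * t) g⁻¹ z, Subgroup.mem_center_iff.mp hz g⁻¹, ← mul_assoc]
      simp [mul_assoc]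
    have e0 : g 1 0 * z 0 0 = g 1 0 := by
      have := congrArg (fun m : SL2 => m 1 0) hgt
      simpa [Matrix.mul_apply, Fin.sum_univ_two, ht, Cfsg.Lib.Linear.Two.ut_coe, z10, t10, t11] using this
    have e1 : (g 1 0 + g 1 1) * z 0 0 = g 1 1 := by
      have := congrArg (fun m : SL2 => m 1 1) hgt
      simpa [Matrix.mul_apply, Fin.sum_univ_two, ht, Cfsg.Lib.Linear.Two.ut_coe, z01, z11, t10, t11] using this
    rw [SetLike.mem_coe, mem_borelSL]
    by_contra h
    have hz1 : z 0 0 = 1 := (mul_eq_left₀ h).mp e0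
    rw [hz1, mul_one, add_eq_right] at e1
    exact h e1
  · rintro _ ⟨g, hg, rfl⟩
    rw [Subgroup.mem_normalizer_iff]
    have key : ∀ g ∈ borelSL F, ∀ y ∈ (Cfsg.Lib.Linear.Two.UT F).map π,
        π g * y * (π g)⁻¹ ∈ (Cfsg.Lib.Linear.Two.UT F).map π := by
      rintro g hg _ ⟨y, hy, rfl⟩
      refine ⟨g * y * g⁻¹, ?_, by rw [map_mul, map_mul, map_inv]⟩
      show g * y * g⁻¹ ∈ Cfsg.Lib.Linear.Two.UT F
      obtain ⟨y00, y11, y10⟩ := Cfsg.Lib.Linear.Two.mem_UT.mp hy
      have hd := g.2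
      rw [det_fin_two, show (g : Matrix (Fin 2) (Fin 2) F) 1 0 = 0 from hg, mul_zero, sub_zero] at hd
      rw [Cfsg.Lib.Linear.Two.mem_UT]
      refine ⟨?_, ?_, ?_⟩ <;>
        simp [Matrix.mul_apply, Fin.sum_univ_two, adjugate_fin_two, y00, y11, y10,
          show (g : Matrix (Fin 2) (Fin 2) F) 1 0 = 0 from hg] <;>
        linear_combination hd
    intro y
    refine ⟨key g hg y, fun hy => ?_⟩
    have := key g⁻¹ ((borelSL F).inv_mem hg) _ hy
    simpa [mul_assoc] using this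

theorem card_normalizer_sylow_psl (p : ℕ) [Fact p.Prime] [CharP F p] (P : Sylow p PSL2) :
    Nat.gcd 2 (Fintype.card F - 1) * Nat.card (Subgroup.normalizer ((P : Subgroup PSL2) : Set PSL2)) =
      Fintype.card F * (Fintype.card F - 1) := by
  haveI : Finite PSL2 := inferInstance
  have hall : Nat.card (Subgroup.normalizer ((P : Subgroup PSL2) : Set PSL2)) =
      Nat.card (Subgroup.normalizer (((stdSylow (F := F) p) : Subgroup PSL2) : Set PSL2)) := by
    have h1 := Subgroup.card_mul_index (Subgroup.normalizer ((P : Subgroup PSL2) : Set PSL2))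
    have h2 := Subgroup.card_mul_index (Subgroup.normalizer (((stdSylow (F := F) p) : Subgroup PSL2) : Set PSL2))
    have e1 : (Subgroup.normalizer ((P : Subgroup PSL2) : Set PSL2)).index =
        (Subgroup.normalizer (((stdSylow (F := F) p) : Subgroup PSL2) : Set PSL2)).index :=
      (P.card_eq_index_normalizer).symm.trans (stdSylow (F := F) p).card_eq_index_normalizer
    rw [e1, ← h2] at h1
    exact Nat.eq_of_mul_eq_mul_right (Nat.pos_of_ne_zero Subgroup.index_ne_zero_of_finite) h1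
  rw [hall, normalizer_stdSylow, ← card_borelSL]
  have hc : Subgroup.center SL2 ≤ borelSL F := fun z hz => (mem_center_sl hz).2.1
  have hcz : Nat.card (Subgroup.center SL2) = Nat.gcd 2 (Fintype.card F - 1) := by
    rw [Cfsg.Lib.Linear.card_center_SL, Fintype.card_fin]
  rw [← hcz]
  have h := Subgroup.card_eq_card_quotient_mul_card_subgroup ((Subgroup.center SL2).subgroupOf (borelSL F))
  rw [Nat.card_congr (Subgroup.subgroupOfEquivOfLe hc).toEquiv] at h
  rw [h, mul_comm]
  congr 1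
  set f : borelSL F →* PSL2 := (QuotientGroup.mk' (Subgroup.center SL2)).comp (borelSL F).subtype
  have hr : f.range = (borelSL F).map (QuotientGroup.mk' (Subgroup.center SL2)) := by
    rw [MonoidHom.range_comp, Subgroup.range_subtype]
  have hk : f.ker = (Subgroup.center SL2).subgroupOf (borelSL F) := by
    rw [← MonoidHom.comap_ker, QuotientGroup.ker_mk']; rfl
  rw [← hr, ← hk]
  exact (Nat.card_congr (QuotientGroup.quotientKerEquivRange f).toEquiv).symm

theorem two_le_card : 2 ≤ Fintype.card F := Fintype.one_lt_card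

theorem index_normalizer_sylow_psl (p : ℕ) [Fact p.Prime] [CharP F p] (P : Sylow p PSL2) :
    (Subgroup.normalizer ((P : Subgroup PSL2) : Set PSL2)).index = Fintype.card F + 1 := by
  have h1 := Subgroup.card_mul_index (Subgroup.normalizer ((P : Subgroup PSL2) : Set PSL2))
  have h2 := card_normalizer_sylow_psl p P
  have h3 := Cfsg.Lib.Linear.Two.card_PSL_two (F := F)
  rw [← h1, ← mul_assoc, h2, show Fintype.card F ^ 2 - 1 = (Fintype.card F + 1) * (Fintype.card F - 1) by
    rw [← Nat.sq_sub_sq, one_pow]] at h3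
  refine Nat.eq_of_mul_eq_mul_left (show 0 < Fintype.card F * (Fintype.card F - 1) from
    Nat.mul_pos (by have := two_le_card (F := F); omega) (by have := two_le_card (F := F); omega)) ?_
  rw [h3]; ring

theorem card_PGL_two_eq {K : Type*} [Field K] [Fintype K] :
    Nat.card (Matrix.ProjGenLinGroup (Fin 2) K) = Fintype.card K * (Fintype.card K ^ 2 - 1) := by
  rw [Cfsg.Lib.Linear.card_PGL_eq_card_SL, Cfsg.Lib.Linear.Two.card_SL_two]

/-- The possible orders of a subgroup. -/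
theorem card_subgroup_cases (p : ℕ) [Fact p.Prime] [CharP F p] (H : Subgroup PSL2) :
    (∃ k : ℕ, (k ∣ (Fintype.card F + 1) / Nat.gcd 2 (Fintype.card F - 1) ∨
        k ∣ (Fintype.card F - 1) / Nat.gcd 2 (Fintype.card F - 1)) ∧ (Nat.card H = k ∨ Nat.card H = 2 * k)) ∨
      (Nat.gcd 2 (Fintype.card F - 1) * Nat.card H ∣ Fintype.card F * (Fintype.card F - 1)) ∨
      (Nat.card H = 12 ∨ Nat.card H = 24 ∨ Nat.card H = 60) ∨
      (∃ r m : ℕ, 3 ≤ r ∧ r ^ m = Fintype.card F ∧
        ((r % 2 = 1 ∧ 2 * Nat.card H = r * (r ^ 2 - 1)) ∨ Nat.card H = r * (r ^ 2 - 1))) := by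
  rcases psl_subgroup_cases p H with ⟨k, hk, hH⟩ | ⟨-, P, hP⟩ | ⟨-, hc⟩
  · refine Or.inl ⟨k, hk, ?_⟩
    rcases hH with ⟨-, h⟩ | ⟨⟨e⟩⟩
    · exact Or.inl h
    · exact Or.inr (by rw [Nat.card_congr e.toEquiv, DihedralGroup.nat_card])
  · refine Or.inr (Or.inl ?_)
    rw [← card_normalizer_sylow_psl p P]
    exact Nat.mul_dvd_mul_left _ (Subgroup.card_dvd_of_le hP)
  refine Or.inr (Or.inr ?_)
  rcases hc with ⟨⟨e⟩⟩ | ⟨⟨e⟩⟩ | ⟨⟨e⟩⟩ | ⟨K, _, _, m, -, h3, hm, hiso⟩
  · refine Or.inl (Or.inl ?_)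
    rw [Nat.card_congr e.toEquiv, nat_card_alternatingGroup, Nat.card_fin]
    rfl
  · refine Or.inl (Or.inr (Or.inl ?_))
    rw [Nat.card_congr e.toEquiv, Nat.card_perm, Nat.card_fin]
    rfl
  · refine Or.inl (Or.inr (Or.inr ?_))
    rw [Nat.card_congr e.toEquiv, nat_card_alternatingGroup, Nat.card_fin]
    rfl
  · refine Or.inr ⟨Fintype.card K, m, h3, hm, ?_⟩
    rcases hiso with ⟨⟨e⟩, hodd⟩ | ⟨⟨e⟩⟩
    · refine Or.inl ⟨hodd, ?_⟩
      have h := Cfsg.Lib.Linear.Two.card_PSL_two (F := K)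
      rw [Nat.gcd_eq_left (show 2 ∣ Fintype.card K - 1 by omega)] at h
      rw [Nat.card_congr e.toEquiv, h]
    · exact Or.inr (by rw [Nat.card_congr e.toEquiv, card_PGL_two_eq])

end Cfsg.Lib.Dickson
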