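import Mathlib
import Cfsg.Agent.Lib.Dickson.Binary
import Cfsg.Agent.Lib.Dickson.Orders

/-!
# Existence of the exceptional and subfield subgroups of `PSL(2, q)`
-/

set_option autoImplicit false
set_option linter.unusedSectionVars false

namespace Cfsg.Lib.Dickson

set_option maxRecDepth 100000

open Matrix
open scoped MatrixGroups

variable {F : Type*} [Field F] [Fintype F]

local notation "PSL2" => Matrix.ProjectiveSpecialLinearGroup (Fin 2) F

theorem exists_sq_add_sq_eq_neg_one (h2 : (2 : F) ≠ 0) : ∃ a b : F, a ^ 2 + b ^ 2 = -1 := by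
  classical
  have hodd : Fintype.card F % 2 = 1 := by
    refine FiniteField.odd_card_of_char_ne_two fun h => h2 ?_
    haveI : CharP F 2 := h ▸ ringChar.charP F
    exact_mod_cast CharP.cast_eq_zero F 2
  obtain ⟨a, b, h⟩ := FiniteField.exists_root_sum_quadratic (R := F) (f := Polynomial.X ^ 2 + Polynomial.C 1)
    (g := Polynomial.X ^ 2) (Polynomial.degree_X_pow_add_C (by norm_num) _) (Polynomial.degree_X_pow 2) hodd
  refine ⟨a, b, ?_⟩
  simp only [Polynomial.eval_add, Polynomial.eval_pow, Polynomial.eval_X, Polynomial.eval_C] at h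
  linear_combination h

namespace Red

variable {D : ℤ} (R : Red D F)

theorem psl_i_ne_one (h : Q8.NormOne D ⟨0, 0, 4, 0, 0, 0, 0, 0⟩) : R.psl h ≠ 1 := by
  refine R.psl_ne_one h (Or.inl ?_)
  simp [mat, co, R.h4]

theorem psl_w_ne_one (h : Q8.NormOne D ⟨2, 0, 2, 0, 2, 0, 2, 0⟩) : R.psl h ≠ 1 := by
  refine R.psl_ne_one h ?_
  by_contra hcon
  push Not at hcon
  obtain ⟨h1, h2⟩ := hcon
  have h12 : R.mat ⟨2, 0, 2, 0, 2, 0, 2, 0⟩ 0 1 - R.mat ⟨2, 0, 2, 0, 2, 0, 2, 0⟩ 1 0 = 0 := by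
    rw [h1, h2, sub_zero]
  have h4 := R.h4
  simp [mat, co] at h12
  field_simp at h12
  exact h4 (by linear_combination h12)

/-- `psl` respects checked products up to sign, in relational form. -/
theorem psl_rel {g x g' x' y : Q8} (hg : Q8.NormOne D g) (hx : Q8.NormOne D x) (hg' : Q8.NormOne D g')
    (hx' : Q8.NormOne D x') (hy : Q8.NormOne D y) (h : Q8.MulEq D g x y) (h' : Q8.MulEq D g' x' y) :
    R.psl hg * R.psl hx = R.psl hg' * R.psl hx' := by
  rw [R.psl_mul hg hx hy h, R.psl_mul hg' hx' hy h']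

end Red

theorem red_one (h2 : (2 : F) ≠ 0) : Nonempty (Red 1 F) := by
  obtain ⟨a, b, hab⟩ := exists_sq_add_sq_eq_neg_one h2
  exact ⟨⟨1, a, b, by simp, hab, h2⟩⟩

/-- `PSL(2, q)` has a tetrahedral subgroup for odd `q`. -/
theorem exists_alternating_four (h2 : (2 : F) ≠ 0) :
    ∃ H : Subgroup PSL2, Nonempty (H ≃* alternatingGroup (Fin 4)) := by
  obtain ⟨R⟩ := red_one h2
  have hi : Q8.NormOne 1 ⟨0, 0, 4, 0, 0, 0, 0, 0⟩ := by decide
  have hj : Q8.NormOne 1 ⟨0, 0, 0, 0, 4, 0, 0, 0⟩ := by decide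
  have hk : Q8.NormOne 1 ⟨0, 0, 0, 0, 0, 0, 4, 0⟩ := by decide
  have hw : Q8.NormOne 1 ⟨2, 0, 2, 0, 2, 0, 2, 0⟩ := by decide
  have hone : Q8.NormOne 1 Q8.one := by decide
  have hG : ∀ g ∈ ([⟨0, 0, 4, 0, 0, 0, 0, 0⟩, ⟨2, 0, 2, 0, 2, 0, 2, 0⟩] : List Q8), Q8.NormOne 1 g := by decide
  set S := {z : PSL2 | ∃ g, ∃ h : g ∈ ([⟨0, 0, 4, 0, 0, 0, 0, 0⟩, ⟨2, 0, 2, 0, 2, 0, 2, 0⟩] : List Q8),
    z = R.psl (hG g h)}
  have hle : Nat.card (Subgroup.closure S) ≤ _ := R.card_closure_le Q8.tetList _ hG (by decide) (by decide) (by decide)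
  have hiS : R.psl hi ∈ Subgroup.closure S := Subgroup.subset_closure ⟨_, by simp, rfl⟩
  have hwS : R.psl hw ∈ Subgroup.closure S := Subgroup.subset_closure ⟨_, by simp, rfl⟩
  have h11 : R.psl hone = 1 := R.psl_one _
  have ei : R.psl hi * R.psl hi = 1 := (R.psl_mul hi hi hone (by decide)).trans h11
  have ej : R.psl hj * R.psl hj = 1 := (R.psl_mul hj hj hone (by decide)).trans h11
  have hw2 : Q8.NormOne 1 ⟨2, 0, -2, 0, -2, 0, -2, 0⟩ := by decide
  have ew : R.psl hw * (R.psl hw * R.psl hw) = 1 := by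
    rw [R.psl_mul hw hw hw2 (by decide), R.psl_mul hw hw2 hone (by decide), h11]
  have e1 : R.psl hw * R.psl hi * (R.psl hw)⁻¹ = R.psl hj := by
    rw [mul_inv_eq_iff_eq_mul]
    exact R.psl_rel hw hi hj hw (y := ⟨2, 0, -2, 0, -2, 0, 2, 0⟩) (by decide) (by decide) (by decide)
  have e2 : R.psl hw * R.psl hj * (R.psl hw)⁻¹ = R.psl hi * R.psl hj := by
    rw [mul_inv_eq_iff_eq_mul, R.psl_mul hi hj hk (by decide)]
    exact R.psl_rel hw hj hk hw (y := ⟨2, 0, 2, 0, -2, 0, -2, 0⟩) (by decide) (by decide) (by decide)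
  have hjS : R.psl hj ∈ Subgroup.closure S := e1 ▸ mul_mem (mul_mem hwS hiS) (inv_mem hwS)
  have hcard : Nat.card (Subgroup.closure S) = 12 := by
    haveI : Finite PSL2 := inferInstance
    have h3 : 3 ∣ Nat.card (Subgroup.closure S) := by
      have : orderOf (R.psl hw) = 3 := orderOf_eq_prime (by rw [pow_succ', sq]; exact ew) (R.psl_w_ne_one hw)
      rw [← this, ← Subgroup.orderOf_mk (R.psl hw) hwS]
      exact orderOf_dvd_natCard _
    have h4 : 4 ∣ Nat.card (Subgroup.closure S) := by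
      have hne : R.psl hi ≠ R.psl hj := by
        intro e
        rw [← e, ei] at e2
        rw [← e] at e1
        exact R.psl_i_ne_one hi (e1.symm.trans e2)
      have hcomm : R.psl hi * R.psl hj = R.psl hj * R.psl hi :=
        R.psl_rel hi hj hj hi (y := ⟨0, 0, 0, 0, 0, 0, 4, 0⟩) (by decide) (by decide) (by decide)
      have hjne : R.psl hj ≠ 1 := by
        intro e
        rw [e] at e1
        exact R.psl_i_ne_one hi (conj_eq_one_iff.mp e1)
      have hio : orderOf (R.psl hi) = 2 := orderOf_eq_prime (by rw [sq, ei]) (R.psl_i_ne_one hi)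
      let V : Subgroup PSL2 := Subgroup.zpowers (R.psl hi) ⊔ Subgroup.zpowers (R.psl hj)
      have hVle : V ≤ Subgroup.closure S :=
        sup_le (Subgroup.zpowers_le.mpr hiS) (Subgroup.zpowers_le.mpr hjS)
      have hjo : orderOf (R.psl hj) = 2 := orderOf_eq_prime (by rw [sq, ej]) hjne
      have hV : Nat.card V = 4 := by
        let f : Multiplicative (ZMod 2) × Multiplicative (ZMod 2) → V := fun x =>
          ⟨R.psl hi ^ (x.1.toAdd.val) * R.psl hj ^ (x.2.toAdd.val),
            mul_mem (Subgroup.mem_sup_left (Subgroup.pow_mem _ (Subgroup.mem_zpowers _) _))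
              (Subgroup.mem_sup_right (Subgroup.pow_mem _ (Subgroup.mem_zpowers _) _))⟩
        have hc : Commute (R.psl hi) (R.psl hj) := hcomm
        refine (Nat.card_eq_of_bijective f ⟨?_, ?_⟩).symm.trans (by simp)
        · rintro ⟨a, b⟩ ⟨a', b'⟩ e
          have e' := congrArg Subtype.val e
          have hz : ∀ z : Multiplicative (ZMod 2), z.toAdd.val = 0 ∨ z.toAdd.val = 1 := fun z => by
            have := ZMod.val_lt z.toAdd
            omega
          have hzz : ∀ z z' : Multiplicative (ZMod 2), z.toAdd.val = z'.toAdd.val → z = z' := fun z z' h =>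
            Multiplicative.toAdd.injective (ZMod.val_injective 2 h)
          simp only [f] at e'
          have hjj : (R.psl hj)⁻¹ = R.psl hj := inv_eq_of_mul_eq_one_left ej
          rcases hz a with ha | ha <;> rcases hz b with hb | hb <;> rcases hz a' with ha' | ha' <;>
            rcases hz b' with hb' | hb' <;> simp only [ha, hb, ha', hb', pow_zero, pow_one, one_mul, mul_one] at e' <;>
            first
              | exact Prod.ext (hzz _ _ (ha.trans ha'.symm)) (hzz _ _ (hb.trans hb'.symm))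
              | exact absurd e' (R.psl_i_ne_one hi)
              | exact absurd e'.symm (R.psl_i_ne_one hi)
              | exact absurd e' hjne
              | exact absurd e'.symm hjne
              | exact absurd e' hne
              | exact absurd e'.symm hne
              | exact absurd (eq_inv_of_mul_eq_one_left e') (hjj.symm ▸ hne)
              | exact absurd (eq_inv_of_mul_eq_one_left e'.symm) (hjj.symm ▸ hne)
              | exact absurd (mul_eq_left.mp e') hjne
              | exact absurd (mul_eq_left.mp e'.symm) hjne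
              | exact absurd (mul_eq_right.mp e') (R.psl_i_ne_one hi)
              | exact absurd (mul_eq_right.mp e'.symm) (R.psl_i_ne_one hi)
        · rintro ⟨v, hv⟩
          haveI hn : (Subgroup.zpowers (R.psl hi)) ≤ Subgroup.normalizer (Subgroup.zpowers (R.psl hj) : Set PSL2) := by
            rw [Subgroup.zpowers_le, Subgroup.mem_set_normalizer_iff]
            intro n
            constructor
            · intro hn
              obtain ⟨k, rfl⟩ := Subgroup.mem_zpowers_iff.mp hn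
              rw [(hc.zpow_right k).eq, mul_inv_cancel_right]
              exact Subgroup.zpow_mem _ (Subgroup.mem_zpowers _) k
            · intro hn
              obtain ⟨k, hk⟩ := Subgroup.mem_zpowers_iff.mp hn
              have : R.psl hi * (R.psl hj) ^ k * (R.psl hi)⁻¹ = R.psl hi * n * (R.psl hi)⁻¹ := by
                rw [(hc.zpow_right k).eq, mul_inv_cancel_right, hk]
              exact ⟨k, mul_left_cancel (mul_right_cancel this)⟩
          have hv' : v ∈ ((Subgroup.zpowers (R.psl hi) ⊔ Subgroup.zpowers (R.psl hj) : Subgroup PSL2) : Set PSL2) := hv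
          rw [Subgroup.coe_mul_of_left_le_normalizer_right _ _ hn] at hv'
          obtain ⟨_, ⟨k, rfl⟩, _, ⟨l, rfl⟩, rfl⟩ := hv'
          refine ⟨(Multiplicative.ofAdd (k : ZMod 2), Multiplicative.ofAdd (l : ZMod 2)), Subtype.ext ?_⟩
          have key : ∀ (g : PSL2), orderOf g = 2 → ∀ m : ℤ, g ^ ((m : ZMod 2).val) = g ^ m := by
            intro g hg m
            rw [← zpow_natCast g, zpow_eq_zpow_iff_modEq, hg, ← ZMod.intCast_eq_intCast_iff]
            simp
          show R.psl hi ^ ((k : ZMod 2).val) * R.psl hj ^ ((l : ZMod 2).val) = _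
          rw [key _ hio, key _ hjo]
      exact hV ▸ Subgroup.card_dvd_of_le hVle
    have h12 : 12 ∣ Nat.card (Subgroup.closure S) := Nat.Coprime.mul_dvd_of_dvd_of_dvd (by norm_num : Nat.Coprime 3 4) h3 h4
    have hl : Q8.tetList.length = 12 := by decide
    have := Nat.le_of_dvd Nat.card_pos h12
    omega
  refine ⟨Subgroup.closure S, iso_alternating_four ?_ hcard⟩
  exact noNormalCyclic_of_generators (i := (⟨_, hiS⟩ : Subgroup.closure S)) (j := ⟨_, hjS⟩) (y := ⟨_, hwS⟩)
      (fun e => R.psl_i_ne_one hi (congrArg Subtype.val e)) (Subtype.ext ei) (Subtype.ext ej)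
      (Subtype.ext (by show R.psl hw ^ 3 = 1; rw [pow_succ', sq]; exact ew))
      (fun e => R.psl_w_ne_one hw (congrArg Subtype.val e)) (Subtype.ext e1) (Subtype.ext e2) (Or.inl hcard)

/-- `PSL(2, q)` has an octahedral subgroup when `2` is a square. -/
theorem exists_perm_four (h2 : (2 : F) ≠ 0) (hsq : IsSquare (2 : F)) :
    ∃ H : Subgroup PSL2, Nonempty (H ≃* Equiv.Perm (Fin 4)) := by
  obtain ⟨a, b, hab⟩ := exists_sq_add_sq_eq_neg_one h2
  obtain ⟨s, hs⟩ := hsq
  let R : Red 2 F := ⟨s, a, b, by rw [sq, ← hs]; norm_num, hab, h2⟩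
  have hi : Q8.NormOne 2 ⟨0, 0, 4, 0, 0, 0, 0, 0⟩ := by decide
  have hj : Q8.NormOne 2 ⟨0, 0, 0, 0, 4, 0, 0, 0⟩ := by decide
  have hk : Q8.NormOne 2 ⟨0, 0, 0, 0, 0, 0, 4, 0⟩ := by decide
  have hw : Q8.NormOne 2 ⟨2, 0, 2, 0, 2, 0, 2, 0⟩ := by decide
  have hw2 : Q8.NormOne 2 ⟨2, 0, -2, 0, -2, 0, -2, 0⟩ := by decide
  have hr : Q8.NormOne 2 ⟨0, 2, 0, 2, 0, 0, 0, 0⟩ := by decide
  have ht : Q8.NormOne 2 ⟨0, 0, 0, 2, 0, 0, 0, -2⟩ := by decide
  have hone : Q8.NormOne 2 Q8.one := by decide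
  set gens : List Q8 := [⟨0, 0, 4, 0, 0, 0, 0, 0⟩, ⟨2, 0, 2, 0, 2, 0, 2, 0⟩, ⟨0, 2, 0, 2, 0, 0, 0, 0⟩,
    ⟨0, 0, 0, 2, 0, 0, 0, -2⟩] with hgens
  have hG : ∀ g ∈ gens, Q8.NormOne 2 g := by decide
  set S := {z : PSL2 | ∃ g, ∃ h : g ∈ gens, z = R.psl (hG g h)}
  have hle : Nat.card (Subgroup.closure S) ≤ _ := R.card_closure_le Q8.octList _ hG (by decide) (by decide) (by decide)
  have hiS : R.psl hi ∈ Subgroup.closure S := Subgroup.subset_closure ⟨_, by simp [hgens], rfl⟩
  have hwS : R.psl hw ∈ Subgroup.closure S := Subgroup.subset_closure ⟨_, by simp [hgens], rfl⟩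
  have hrS : R.psl hr ∈ Subgroup.closure S := Subgroup.subset_closure ⟨_, by simp [hgens], rfl⟩
  have htS : R.psl ht ∈ Subgroup.closure S := Subgroup.subset_closure ⟨_, by simp [hgens], rfl⟩
  have h11 : R.psl hone = 1 := R.psl_one _
  have ei : R.psl hi * R.psl hi = 1 := (R.psl_mul hi hi hone (by decide)).trans h11
  have ej : R.psl hj * R.psl hj = 1 := (R.psl_mul hj hj hone (by decide)).trans h11
  have ew : R.psl hw * (R.psl hw * R.psl hw) = 1 := by
    rw [R.psl_mul hw hw hw2 (by decide), R.psl_mul hw hw2 hone (by decide), h11]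
  have e1 : R.psl hw * R.psl hi * (R.psl hw)⁻¹ = R.psl hj := by
    rw [mul_inv_eq_iff_eq_mul]
    exact R.psl_rel hw hi hj hw (y := ⟨2, 0, -2, 0, -2, 0, 2, 0⟩) (by decide) (by decide) (by decide)
  have e2 : R.psl hw * R.psl hj * (R.psl hw)⁻¹ = R.psl hi * R.psl hj := by
    rw [mul_inv_eq_iff_eq_mul, R.psl_mul hi hj hk (by decide)]
    exact R.psl_rel hw hj hk hw (y := ⟨2, 0, 2, 0, -2, 0, -2, 0⟩) (by decide) (by decide) (by decide)
  have e3 : R.psl ht * R.psl hw * (R.psl ht)⁻¹ = (R.psl hw)⁻¹ := by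
    have hwinv : (R.psl hw)⁻¹ = R.psl hw2 := inv_eq_of_mul_eq_one_right ((R.psl_mul hw hw2 hone (by decide)).trans h11)
    rw [hwinv, mul_inv_eq_iff_eq_mul]
    exact R.psl_rel ht hw hw2 ht (y := ⟨0, 0, 0, 2, 0, -2, 0, 0⟩) (by decide) (by decide) (by decide)
  have hr2 : R.psl hr * R.psl hr = R.psl hi := R.psl_mul hr hr hi (by decide)
  have hjS : R.psl hj ∈ Subgroup.closure S := e1 ▸ mul_mem (mul_mem hwS hiS) (inv_mem hwS)
  haveI : Finite PSL2 := inferInstance
  have hro : orderOf (R.psl hr) = 4 := by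
    refine orderOf_eq_prime_pow (p := 2) (n := 1) ?_ ?_
    · rw [pow_one, sq, hr2]; exact R.psl_i_ne_one hi
    · show R.psl hr ^ (2 ^ 2) = 1
      rw [show (2 : ℕ) ^ 2 = 2 * 2 by norm_num, pow_mul, sq (R.psl hr), hr2, sq, ei]
  have h3 : 3 ∣ Nat.card (Subgroup.closure S) := by
    have : orderOf (R.psl hw) = 3 := orderOf_eq_prime (by rw [pow_succ', sq]; exact ew) (R.psl_w_ne_one hw)
    rw [← this, ← Subgroup.orderOf_mk (R.psl hw) hwS]
    exact orderOf_dvd_natCard _
  have h4 : 4 ∣ Nat.card (Subgroup.closure S) := by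
    rw [← hro, ← Subgroup.orderOf_mk (R.psl hr) hrS]
    exact orderOf_dvd_natCard _
  have h12 : 12 ∣ Nat.card (Subgroup.closure S) := Nat.Coprime.mul_dvd_of_dvd_of_dvd (by norm_num : Nat.Coprime 3 4) h3 h4
  have hl : Q8.octList.length = 24 := by decide
  have hcases : Nat.card (Subgroup.closure S) = 12 ∨ Nat.card (Subgroup.closure S) = 24 := by
    have hpos : 0 < Nat.card (Subgroup.closure S) := Nat.card_pos
    omega
  have hnn := noNormalCyclic_of_generators (i := (⟨_, hiS⟩ : Subgroup.closure S)) (j := ⟨_, hjS⟩) (y := ⟨_, hwS⟩)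
    (fun e => R.psl_i_ne_one hi (congrArg Subtype.val e)) (Subtype.ext ei) (Subtype.ext ej)
    (Subtype.ext (by show R.psl hw ^ 3 = 1; rw [pow_succ', sq]; exact ew))
    (fun e => R.psl_w_ne_one hw (congrArg Subtype.val e)) (Subtype.ext e1) (Subtype.ext e2)
    (hcases.imp_right fun h => ⟨h, ⟨_, htS⟩, Subtype.ext e3⟩)
  refine ⟨Subgroup.closure S, iso_perm_four hnn (hcases.resolve_left fun h => ?_)⟩
  -- no element of order four in the tetrahedral group
  obtain ⟨e⟩ := iso_alternating_four hnn h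
  have hA : ∀ x : alternatingGroup (Fin 4), x ^ 4 = 1 → x ^ 2 = 1 := by decide
  have h2' := hA (e ⟨_, hrS⟩) (by
    rw [← map_pow, show (⟨R.psl hr, hrS⟩ : Subgroup.closure S) ^ 4 = 1 from Subtype.ext (by
      show R.psl hr ^ 4 = 1
      rw [← hro]; exact pow_orderOf_eq_one _), map_one])
  rw [← map_pow, map_eq_one_iff e e.injective] at h2'
  have : R.psl hr ^ 2 = 1 := congrArg Subtype.val h2'
  rw [sq, hr2] at this
  exact R.psl_i_ne_one hi this

/-- `PSL(2, q)` has an icosahedral subgroup when `5` is a square, `q` odd. -/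
theorem exists_alternating_five (h2 : (2 : F) ≠ 0) (hsq : IsSquare (5 : F)) :
    ∃ H : Subgroup PSL2, Nonempty (H ≃* alternatingGroup (Fin 5)) := by
  obtain ⟨a, b, hab⟩ := exists_sq_add_sq_eq_neg_one h2
  obtain ⟨s, hs⟩ := hsq
  let R : Red 5 F := ⟨s, a, b, by rw [sq, ← hs]; norm_num, hab, h2⟩
  have hi : Q8.NormOne 5 ⟨0, 0, 4, 0, 0, 0, 0, 0⟩ := by decide
  have hy : Q8.NormOne 5 ⟨2, 0, 1, -1, 0, 0, 1, 1⟩ := by decide
  have hone : Q8.NormOne 5 Q8.one := by decide
  set gens : List Q8 := [⟨0, 0, 4, 0, 0, 0, 0, 0⟩, ⟨2, 0, 1, -1, 0, 0, 1, 1⟩] with hgens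
  have hG : ∀ g ∈ gens, Q8.NormOne 5 g := by decide
  have hN : ∀ x ∈ Q8.icoList, Q8.NormOne 5 x := by decide
  set S := {z : PSL2 | ∃ g, ∃ h : g ∈ gens, z = R.psl (hG g h)}
  have hle : Nat.card (Subgroup.closure S) ≤ _ := R.card_closure_le Q8.icoList _ hG hN (by decide) (by decide)
  have hiS : R.psl hi ∈ Subgroup.closure S := Subgroup.subset_closure ⟨_, by simp [hgens], rfl⟩
  have hyS : R.psl hy ∈ Subgroup.closure S := Subgroup.subset_closure ⟨_, by simp [hgens], rfl⟩
  have h11 : R.psl hone = 1 := R.psl_one _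
  haveI : Finite PSL2 := inferInstance
  have ei : R.psl hi * R.psl hi = 1 := (R.psl_mul hi hi hone (by decide)).trans h11
  have step : ∀ g (hg : Q8.NormOne 5 g) x (hx : x ∈ Q8.icoList), ∀ y (hy' : y ∈ Q8.icoList),
      Q8.MulEq 5 g x y → R.psl hg * R.psl (hN x hx) = R.psl (hN y hy') :=
    fun g hg x hx y hy' h => R.psl_mul hg (hN x hx) (hN y hy') h
  have hy3 : R.psl hy * (R.psl hy * R.psl hy) = 1 := by
    obtain ⟨u, hu, hu1, hu2⟩ : ∃ u ∈ Q8.icoList, Q8.MulEq 5 ⟨2, 0, 1, -1, 0, 0, 1, 1⟩ ⟨2, 0, 1, -1, 0, 0, 1, 1⟩ u ∧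
        Q8.MulEq 5 ⟨2, 0, 1, -1, 0, 0, 1, 1⟩ u Q8.one := by decide
    rw [R.psl_mul hy hy (hN u hu) hu1, R.psl_mul hy (hN u hu) hone hu2, h11]
  have hz5 : R.psl hi * R.psl hy * (R.psl hi * R.psl hy * (R.psl hi * R.psl hy * (R.psl hi * R.psl hy *
      (R.psl hi * R.psl hy)))) = 1 := by
    obtain ⟨z, hz, hz0⟩ : ∃ z ∈ Q8.icoList,
        Q8.MulEq 5 ⟨0, 0, 4, 0, 0, 0, 0, 0⟩ ⟨2, 0, 1, -1, 0, 0, 1, 1⟩ z ∧
        ∃ z2 ∈ Q8.icoList, Q8.MulEq 5 z z z2 ∧ ∃ z3 ∈ Q8.icoList, Q8.MulEq 5 z z2 z3 ∧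
          ∃ z4 ∈ Q8.icoList, Q8.MulEq 5 z z3 z4 ∧ Q8.MulEq 5 z z4 Q8.one := by decide
    obtain ⟨e0, z2, hz2, e2, z3, hz3, e3, z4, hz4, e4, e5⟩ := hz0
    rw [R.psl_mul hi hy (hN z hz) e0, step _ (hN z hz) z hz z2 hz2 e2, step _ (hN z hz) z2 hz2 z3 hz3 e3,
      step _ (hN z hz) z3 hz3 z4 hz4 e4, R.psl_mul (hN z hz) (hN z4 hz4) hone e5, h11]
  refine ⟨Subgroup.closure S, iso_alternating_five_of_relations (x := ⟨_, hiS⟩) (y := ⟨_, hyS⟩) ?_
    (Subtype.ext (by show R.psl hi ^ 2 = 1; rw [sq, ei]))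
    (Subtype.ext (by show R.psl hy ^ 3 = 1; rw [pow_succ', sq]; exact hy3))
    (Subtype.ext (by
      show (R.psl hi * R.psl hy) ^ 5 = 1
      simp only [pow_succ', pow_zero, mul_one]
      exact hz5))
    (fun e => R.psl_i_ne_one hi (congrArg Subtype.val e))
    (hle.trans (le_of_eq (by decide)))⟩
  rw [eq_top_iff]
  rintro ⟨x, hx⟩ -
  induction hx using Subgroup.closure_induction with
  | mem x hxS =>
    obtain ⟨g, hg, rfl⟩ := hxS
    have hg' := hg
    simp only [hgens, List.mem_cons, List.not_mem_nil, or_false] at hg'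
    rcases hg' with rfl | rfl
    · exact Subgroup.subset_closure (Or.inl rfl)
    · exact Subgroup.subset_closure (Or.inr rfl)
  | one => exact one_mem _
  | mul x y hx hy ihx ihy => exact mul_mem ihx ihy
  | inv x hx ih => exact inv_mem ih

/-- The subfield subgroup. -/
noncomputable def pslHom {K : Type*} [Field K] (f : K →+* F) :
    Matrix.ProjectiveSpecialLinearGroup (Fin 2) K →* PSL2 :=
  QuotientGroup.map _ _ (SpecialLinearGroup.map (n := Fin 2) f) (by
    intro z hz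
    rw [Subgroup.mem_comap, Matrix.SpecialLinearGroup.mem_center_iff]
    obtain ⟨r, hr, hr'⟩ := Matrix.SpecialLinearGroup.mem_center_iff.mp hz
    refine ⟨f r, by rw [← map_pow, hr, map_one], ?_⟩
    ext i j
    have := congrArg f (congrFun (congrFun hr' i) j)
    fin_cases i <;> fin_cases j <;> simpa using this)

theorem pslHom_injective {K : Type*} [Field K] (f : K →+* F) : Function.Injective (pslHom (F := F) f) := by
  rw [injective_iff_map_eq_one]
  intro x hx
  induction x using QuotientGroup.induction_on with | H g => ?_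
  rw [pslHom, QuotientGroup.map_mk, QuotientGroup.eq_one_iff] at hx
  obtain ⟨h01, h10, h11⟩ := mem_center_sl hx
  rw [QuotientGroup.eq_one_iff]
  simp at h01 h10 h11
  have e : (g : Matrix (Fin 2) (Fin 2) K) = Matrix.scalar (Fin 2) ((g : Matrix (Fin 2) (Fin 2) K) 0 0) := by
    ext i j
    fin_cases i <;> fin_cases j <;> simp [h01, h10, f.injective h11]
  rw [Matrix.SpecialLinearGroup.mem_center_iff]
  refine ⟨_, ?_, e.symm⟩
  have hd := g.2
  rw [e] at hd
  simpa using hd

/-- Embedding of finite fields. -/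
theorem nonempty_ringHom {K : Type*} [Field K] [Fintype K] {m : ℕ} (h : Fintype.card K ^ m = Fintype.card F) :
    Nonempty (K →+* F) := by
  obtain ⟨p, hp⟩ := CharP.exists F
  obtain ⟨n, hpp, hn⟩ := FiniteField.card F p
  haveI := Fact.mk hpp
  obtain ⟨r, hr⟩ := CharP.exists K
  obtain ⟨l, hrp, hl⟩ := FiniteField.card K r
  have hrpe : r = p := by
    rw [hl, ← pow_mul, hn] at h
    have hm : (l : ℕ) * m ≠ 0 := by
      intro e
      rw [e, pow_zero] at h
      exact absurd h.symm (Nat.one_lt_pow n.pos.ne' hpp.one_lt).ne'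
    exact (Nat.prime_dvd_prime_iff_eq hrp hpp).mp (hrp.dvd_of_dvd_pow (h ▸ dvd_pow_self r hm))
  subst hrpe
  letI := ZMod.algebra K r
  letI := ZMod.algebra F r
  rw [hl, ← pow_mul, hn] at h
  have hdim : Module.finrank (ZMod r) K ∣ Module.finrank (ZMod r) F := by
    have e1 := Module.card_eq_pow_finrank (K := ZMod r) (V := K)
    have e2 := Module.card_eq_pow_finrank (K := ZMod r) (V := F)
    rw [ZMod.card, hl] at e1
    rw [ZMod.card, hn, ← h] at e2
    rw [← Nat.pow_right_injective hpp.two_le e1, ← Nat.pow_right_injective hpp.two_le e2]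
    exact dvd_mul_right _ _
  obtain ⟨φ⟩ := FiniteField.nonempty_algHom_of_finrank_dvd hdim
  exact ⟨φ.toRingHom⟩

theorem exists_psl_subgroup {K : Type*} [Field K] [Fintype K] {m : ℕ}
    (h : Fintype.card K ^ m = Fintype.card F) :
    ∃ H : Subgroup PSL2, Nonempty (H ≃* Matrix.ProjectiveSpecialLinearGroup (Fin 2) K) := by
  obtain ⟨f⟩ := nonempty_ringHom h
  exact ⟨(pslHom f).range, ⟨(MonoidHom.ofInjective (pslHom_injective f)).symm⟩⟩

end Cfsg.Lib.Dickson
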