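import Mathlib
import Cfsg.Agent.Lib.Dickson.Orders
import Cfsg.Agent.Lib.Dickson.Existence

/-!
# Conditions on `q` for the exceptional subgroups of `PSL(2, q)`
-/

set_option autoImplicit false
set_option linter.unusedSectionVars false

namespace Cfsg.Lib.Dickson

open Matrix MulAction
open scoped MatrixGroups OnePoint

variable {F : Type*} [Field F] [Fintype F]

local notation "PSL2" => Matrix.ProjectiveSpecialLinearGroup (Fin 2) F

/-- A subgroup with a nontrivial normal `p`-subgroup fixes the point fixed by the latter. -/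
theorem exists_point_of_normal_pgroup (p : ℕ) [Fact p.Prime] [CharP F p] [DecidableEq (AlgebraicClosure F)]
    (H : Subgroup PSL2) (R : Subgroup H) [R.Normal] (hR : IsPGroup p R) (hne : R ≠ ⊥) :
    ∃ x : OnePoint (AlgebraicClosure F), (∀ h ∈ H, emb F h • x = x) ∧
      ∃ h₀ ∈ H, h₀ ≠ 1 ∧ emb F h₀ ∈ unip x := by
  haveI : CharP (AlgebraicClosure F) p := charP_of_injective_algebraMap (algebraMap F _).injective p
  haveI : Finite PSL2 := inferInstance
  haveI : Nontrivial R := (Subgroup.nontrivial_iff_ne_bot R).mpr hne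
  haveI := hR.center_nontrivial
  obtain ⟨⟨z, hz⟩, hz1⟩ := exists_ne (1 : Subgroup.center R)
  set ι : R →* Matrix.ProjGenLinGroup (Fin 2) (AlgebraicClosure F) :=
    (emb F).comp (H.subtype.comp R.subtype) with hι
  have hinj : Function.Injective ι :=
    emb_injective.comp (H.subtype_injective.comp R.subtype_injective)
  have hz1' : ι z ≠ 1 := fun e => hz1 (Subtype.ext (hinj (e.trans (map_one ι).symm)))
  have hpk : ∀ r : R, ∃ k, ι r ^ p ^ k = 1 := fun r => by
    obtain ⟨k, hk⟩ := hR r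
    exact ⟨k, by rw [← map_pow, hk, map_one]⟩
  obtain ⟨x, hx⟩ := fixedBy_nonempty (ι z)
  obtain ⟨k, hk⟩ := hpk z
  have hzfix := fixedBy_eq_of_pow_eq_one p hk hz1' hx
  have hfix : ∀ r : R, r ≠ 1 → fixedBy (OnePoint (AlgebraicClosure F)) (ι r) = {x} := by
    intro r hr
    have hrx : ι r • x = x := by
      have : ι r • x ∈ fixedBy (OnePoint (AlgebraicClosure F)) (ι z) := by
        show ι z • ι r • x = ι r • x
        rw [← mul_smul, ← map_mul, ← Subgroup.mem_center_iff.mp hz r, map_mul, mul_smul, mem_fixedBy.mp hx]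
      rwa [hzfix] at this
    obtain ⟨k, hk⟩ := hpk r
    exact fixedBy_eq_of_pow_eq_one p hk (fun e => hr (hinj (e.trans (map_one ι).symm))) hrx
  have hHx : ∀ h ∈ H, emb F h • x = x := by
    intro h hh
    let z' : R := ⟨(⟨h, hh⟩ : H) * z * (⟨h, hh⟩ : H)⁻¹, Subgroup.Normal.conj_mem inferInstance _ z.2 _⟩
    have hz' : z' ≠ 1 := by
      intro e
      exact hz1 (Subtype.ext (Subtype.ext (conj_eq_one_iff.mp (congrArg Subtype.val e))))
    have h1 := hfix z' hz'
    have h2 : ι z' = emb F h * ι z * (emb F h)⁻¹ := by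
      simp [z', hι, map_mul, map_inv]
    rw [h2, fixedBy_conj_eq, hzfix, Set.image_singleton] at h1
    exact Set.singleton_eq_singleton_iff.mp h1
  exact ⟨x, hHx, ((z : H) : PSL2), (z : H).2,
    fun e => hz1' (by show emb F ((z : H) : PSL2) = 1; rw [e, map_one]),
    mem_unip_iff.mpr (Or.inr hzfix)⟩

theorem exists_fix_of_normal_pgroup (p : ℕ) [Fact p.Prime] [CharP F p] [DecidableEq (AlgebraicClosure F)]
    (H : Subgroup PSL2) (R : Subgroup H) [R.Normal] (hR : IsPGroup p R) (hne : R ≠ ⊥) :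
    ∃ x : OnePoint (AlgebraicClosure F), ∀ h ∈ H, emb F h • x = x :=
  (exists_point_of_normal_pgroup p H R hR hne).imp fun _ h => h.1

/-- A subgroup with a nontrivial normal `p`-subgroup lies in the normaliser of a Sylow `p`-subgroup. -/
theorem le_normalizer_of_normal_pgroup (p : ℕ) [Fact p.Prime] [CharP F p] (H : Subgroup PSL2)
    (R : Subgroup H) [R.Normal] (hR : IsPGroup p R) (hne : R ≠ ⊥) :
    p ∣ Nat.card H ∧ ∃ P : Sylow p PSL2, H ≤ Subgroup.normalizer ((P : Subgroup PSL2) : Set PSL2) := by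
  classical
  obtain ⟨x, hHx, h₀, h₀H, h₀1, h₀u⟩ := exists_point_of_normal_pgroup p H R hR hne
  exact le_normalizer_of_fix p H hHx h₀H h₀1 h₀u

theorem exists_char : ∃ p : ℕ, p.Prime ∧ CharP F p ∧ ∃ n : ℕ, 0 < n ∧ Fintype.card F = p ^ n := by
  obtain ⟨p, hp⟩ := CharP.exists F
  obtain ⟨n, hpp, hn⟩ := FiniteField.card F p
  exact ⟨p, hpp, hp, n, n.pos, hn⟩

theorem two_ne_zero_of_odd (h : Fintype.card F % 2 = 1) : (2 : F) ≠ 0 := by
  obtain ⟨p, hpp, hp, n, hn0, hn⟩ := exists_char (F := F)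
  intro h0
  have hd : p ∣ 2 := (CharP.cast_eq_zero_iff F p 2).mp (by exact_mod_cast h0)
  obtain rfl := (Nat.prime_dvd_prime_iff_eq hpp Nat.prime_two).mp hd
  have : 2 ∣ Fintype.card F := hn ▸ dvd_pow_self 2 hn0.ne'
  omega

/-- An element of order prime to the characteristic. -/
theorem orderOf_dvd_card_add_sub {x : PSL2} {p : ℕ} [Fact p.Prime] [CharP F p] (hx : ¬ p ∣ orderOf x) :
    Nat.gcd 2 (Fintype.card F - 1) * orderOf x ∣ Fintype.card F + 1 ∨
      Nat.gcd 2 (Fintype.card F - 1) * orderOf x ∣ Fintype.card F - 1 := by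
  have hd1 : Nat.gcd 2 (Fintype.card F - 1) ∣ Fintype.card F - 1 := Nat.gcd_dvd_right _ _
  have hd2 : Nat.gcd 2 (Fintype.card F - 1) ∣ Fintype.card F + 1 := by
    have h1 : 1 ≤ Fintype.card F := Fintype.card_pos
    have := dvd_add hd1 (Nat.gcd_dvd_left 2 (Fintype.card F - 1))
    rwa [show Fintype.card F - 1 + 2 = Fintype.card F + 1 by omega] at this
  rcases dvd_quot_of_not_dvd p hx with h | h
  · exact Or.inl ((Nat.mul_dvd_mul_left _ h).trans (dvd_of_eq (Nat.mul_div_cancel' hd2)))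
  · exact Or.inr ((Nat.mul_dvd_mul_left _ h).trans (dvd_of_eq (Nat.mul_div_cancel' hd1)))

theorem sq_mod_sixteen_of_orderOf_four {x : PSL2} (hx : orderOf x = 4) : Fintype.card F ^ 2 % 16 = 1 := by
  obtain ⟨p, hpp, hp, n, hn0, hn⟩ := exists_char (F := F)
  haveI := Fact.mk hpp
  have hq : 2 ≤ Fintype.card F := two_le_card
  by_cases h2 : p = 2
  · subst h2
    exfalso
    have hev : Fintype.card F % 2 = 0 := Nat.mod_eq_zero_of_dvd (hn ▸ dvd_pow_self 2 hn0.ne')
    have hd : Nat.gcd 2 (Fintype.card F - 1) = 1 := by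
      rw [Nat.gcd_rec]; simp [show (Fintype.card F - 1) % 2 = 1 by omega]
    rcases Cfsg.Lib.Spec.psl_two_exponents 2 x with h | h | h <;>
      have h' := orderOf_dvd_of_pow_eq_one h <;> rw [hx] at h'
    · norm_num at h'
    · rw [hd, Nat.div_one] at h'; omega
    · rw [hd, Nat.div_one] at h'; omega
  · have hnd : ¬ p ∣ orderOf x := by
      rw [hx, show (4 : ℕ) = 2 ^ 2 by norm_num]
      exact fun h => h2 ((Nat.prime_dvd_prime_iff_eq hpp Nat.prime_two).mp (hpp.dvd_of_dvd_pow h))
    have hd : Nat.gcd 2 (Fintype.card F - 1) = 2 := by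
      refine Nat.gcd_eq_left ?_
      have : Fintype.card F % 2 = 1 := by
        rw [hn]; exact Nat.odd_iff.mp ((hpp.odd_of_ne_two h2).pow)
      omega
    have h := orderOf_dvd_card_add_sub hnd
    rw [hd, hx] at h
    have h8 : Fintype.card F % 8 = 1 ∨ Fintype.card F % 8 = 7 := by omega
    rw [sq, Nat.mul_mod]
    have : Fintype.card F % 16 < 16 := Nat.mod_lt _ (by norm_num)
    have h16 : Fintype.card F % 16 % 8 = Fintype.card F % 8 := by omega
    interval_cases hh : Fintype.card F % 16 <;> omega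

theorem five_dvd_of_orderOf_five {x : PSL2} (hx : orderOf x = 5) :
    5 ∣ Fintype.card F * (Fintype.card F ^ 2 - 1) := by
  obtain ⟨p, hpp, hp, n, hn0, hn⟩ := exists_char (F := F)
  haveI := Fact.mk hpp
  by_cases h5 : p = 5
  · subst h5
    exact Dvd.dvd.mul_right (hn ▸ dvd_pow_self 5 hn0.ne') _
  · have hnd : ¬ p ∣ orderOf x := by
      rw [hx]
      exact fun h => h5 ((Nat.prime_dvd_prime_iff_eq hpp (by norm_num)).mp h)
    refine Dvd.dvd.mul_left ?_ _
    rw [show Fintype.card F ^ 2 - 1 = (Fintype.card F + 1) * (Fintype.card F - 1) by rw [← Nat.sq_sub_sq, one_pow]]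
    rw [← hx]
    rcases orderOf_dvd_card_add_sub hnd with h | h
    · exact ((dvd_mul_left _ _).trans h).mul_right _
    · exact ((dvd_mul_left _ _).trans h).mul_left _

theorem isSquare_five_of (h2 : Fintype.card F % 2 = 1) (h : 5 ∣ Fintype.card F * (Fintype.card F ^ 2 - 1)) :
    IsSquare (5 : F) := by
  have hne : ringChar F ≠ 2 := fun e => by
    have := FiniteField.even_card_of_char_two e
    omega
  haveI := Fact.mk (show Nat.Prime 5 by norm_num)
  rw [show (5 : F) = ((5 : ℕ) : F) by norm_num, FiniteField.isSquare_odd_prime_iff hne (by norm_num)]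
  have h5 : Fintype.card F % 5 = 0 ∨ Fintype.card F % 5 = 1 ∨ Fintype.card F % 5 = 4 := by
    rcases (Nat.Prime.dvd_mul (by norm_num)).mp h with h | h
    · omega
    · have hm : (Fintype.card F ^ 2) % 5 = 1 := by
        have h1 : 1 ≤ Fintype.card F ^ 2 := Nat.one_le_pow _ _ Fintype.card_pos
        omega
      rw [sq, Nat.mul_mod] at hm
      have : Fintype.card F % 5 < 5 := Nat.mod_lt _ (by norm_num)
      interval_cases hh : Fintype.card F % 5 <;> omega
  have hc : (Fintype.card F : ZMod 5) = ((Fintype.card F % 5 : ℕ) : ZMod 5) := (ZMod.natCast_mod _ 5).symm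
  have hchi : (ZMod.χ₄ (Fintype.card F : ZMod 4) : ℤ) = 1 ∨ (ZMod.χ₄ (Fintype.card F : ZMod 4) : ℤ) = -1 := by
    rw [ZMod.χ₄_eq_neg_one_pow h2]
    exact neg_one_pow_eq_or ℤ _
  rcases hchi with e | e <;> rcases h5 with h5 | h5 | h5 <;> simp only [e, hc, h5] <;> rw [Ne, quadraticChar_neg_one_iff_not_isSquare, not_not] <;>
    first | exact ⟨0, rfl⟩ | exact ⟨1, rfl⟩ | exact ⟨2, rfl⟩

theorem isSquare_two_of_sq_mod (h : Fintype.card F ^ 2 % 16 = 1) :
    Fintype.card F % 2 = 1 ∧ IsSquare (2 : F) := by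
  rw [sq, Nat.mul_mod] at h
  rw [FiniteField.isSquare_two_iff]
  have h1 : Fintype.card F % 16 < 16 := Nat.mod_lt _ (by norm_num)
  interval_cases hh : Fintype.card F % 16 <;> omega

/-- `A₄` inside `A₅`. -/
theorem exists_alternating_four_le_five :
    ∃ f : alternatingGroup (Fin 4) →* alternatingGroup (Fin 5), Function.Injective f := by
  let e : Fin 4 ≃ {x : Fin 5 // x ≠ 4} :=
    { toFun := fun i => ⟨Fin.castSucc i, fun h => absurd h (Fin.castSucc_lt_last i).ne⟩
      invFun := fun x => ⟨x.1.val, by have := x.1.isLt; have := Fin.val_ne_of_ne x.2; simp at this; omega⟩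
      left_inv := fun i => by ext; rfl
      right_inv := fun x => by ext; rfl }
  refine ⟨((Equiv.Perm.extendDomainHom e).comp (alternatingGroup (Fin 4)).subtype).codRestrict _ fun a => ?_, ?_⟩
  · rw [Equiv.Perm.mem_alternatingGroup]
    show Equiv.Perm.sign (Equiv.Perm.extendDomain (a : Equiv.Perm (Fin 4)) e) = 1
    rw [Equiv.Perm.sign_extendDomain]
    exact Equiv.Perm.mem_alternatingGroup.mp a.2
  · intro a b h
    exact Subtype.ext (Equiv.Perm.extendDomainHom_injective e (congrArg Subtype.val h))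

/-- In characteristic two `A₅` occurs when `F` contains the field of four elements. -/
theorem exists_alternating_five_even {n : ℕ} (hn : Fintype.card F = 2 ^ n) (he : Even n) :
    ∃ H : Subgroup PSL2, Nonempty (H ≃* alternatingGroup (Fin 5)) := by
  obtain ⟨m, hm⟩ := he
  haveI : Fintype (GaloisField 2 2) := Fintype.ofFinite _
  have h4 : Fintype.card (GaloisField 2 2) = 4 := by
    rw [← Nat.card_eq_fintype_card, GaloisField.card 2 2 (by norm_num)]; norm_num
  obtain ⟨H, ⟨e⟩⟩ := exists_psl_subgroup (F := F) (K := GaloisField 2 2) (m := m) (by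
    rw [h4, hn, hm, show (4 : ℕ) = 2 ^ 2 by norm_num, ← pow_mul]; ring_nf)
  obtain ⟨f⟩ := Cfsg.Lib.Linear.Two.psl_equiv_alternating (F := GaloisField 2 2) (n := 5) (by omega) (by
    have h := Cfsg.Lib.Linear.Two.card_PSL_two (F := GaloisField 2 2)
    rw [h4] at h
    norm_num [Nat.factorial] at h ⊢
    omega)
  exact ⟨H, ⟨e.trans f⟩⟩

/-- No `A₄` in `PSL(2, 2 ^ n)` for odd `n`. -/
theorem no_alternating_four_odd {n : ℕ} (hn : Fintype.card F = 2 ^ n) (ho : Odd n) [CharP F 2]
    (H : Subgroup PSL2) : IsEmpty (H ≃* alternatingGroup (Fin 4)) := by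
  refine ⟨fun e => ?_⟩
  haveI := Fact.mk Nat.prime_two
  let V : Subgroup (alternatingGroup (Fin 4)) :=
    { carrier := {x | x * x = 1}
      one_mem' := one_mul 1
      mul_mem' := fun {a b} ha hb => by
        revert a b
        decide
      inv_mem' := fun {a} ha => by
        simp only [Set.mem_setOf_eq] at ha ⊢
        rw [← _root_.mul_inv_rev, ha, inv_one] }
  haveI : V.Normal := ⟨fun x (hx : x * x = 1) g => by
    show g * x * g⁻¹ * (g * x * g⁻¹) = 1
    calc g * x * g⁻¹ * (g * x * g⁻¹) = g * (x * x) * g⁻¹ := by group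
      _ = 1 := by rw [hx, mul_one, mul_inv_cancel]⟩
  let R : Subgroup H := V.comap e.toMonoidHom
  have hR : IsPGroup 2 R := fun r => ⟨1, Subtype.ext (e.injective (by
    show e (((r ^ 2 ^ 1 : R) : H)) = e 1
    rw [SubmonoidClass.coe_pow, map_pow, map_one, pow_one, sq]
    exact r.2))⟩
  have hRne : R ≠ ⊥ := by
    obtain ⟨x, hx, hx1⟩ : ∃ x : alternatingGroup (Fin 4), x * x = 1 ∧ x ≠ 1 := by decide
    intro h
    have hm : e.symm x ∈ R := by
      show e (e.symm x) * e (e.symm x) = 1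
      rw [e.apply_symm_apply, hx]
    rw [h, Subgroup.mem_bot] at hm
    exact hx1 (e.symm.injective (hm.trans (map_one _).symm))
  obtain ⟨-, P, hP⟩ := le_normalizer_of_normal_pgroup 2 H R hR hRne
  have h12 : Nat.card H = 12 := by
    rw [Nat.card_congr e.toEquiv, nat_card_alternatingGroup, Nat.card_fin]; rfl
  have hd := Subgroup.card_dvd_of_le hP
  have hc := card_normalizer_sylow_psl 2 P
  rw [h12] at hd
  have h3 : 3 ∣ Fintype.card F * (Fintype.card F - 1) := by
    rw [← hc]
    exact ((Nat.dvd_trans (by norm_num) hd).mul_left _)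
  have hmod : Fintype.card F % 3 = 2 := by
    obtain ⟨m, rfl⟩ := ho
    rw [hn, pow_succ, pow_mul, Nat.mul_mod, Nat.pow_mod]
    norm_num
  rcases (Nat.Prime.dvd_mul Nat.prime_three).mp h3 with h | h <;> omega

end Cfsg.Lib.Dickson
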