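import Mathlib
import Cfsg.Agent.Lib.Dickson.Necessity

/-!
# `PGL(2, K)` inside `PSL(2, F)`
-/

set_option autoImplicit false
set_option linter.unusedSectionVars false

namespace Cfsg.Lib.Dickson

open Matrix
open scoped MatrixGroups

variable {F : Type*} [Field F] [Fintype F] {K : Type*} [Field K] [Fintype K]

local notation "PSL2" => Matrix.ProjectiveSpecialLinearGroup (Fin 2) F

theorem pow_odd_congr (r : ℕ) (hr : r % 2 = 1) (l : ℕ) :
    ∃ c, r ^ (2 * l + 1) = 2 * (r - 1) * c + r := by
  induction l with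
  | zero => exact ⟨0, by simp⟩
  | succ l ih =>
    obtain ⟨c, hc⟩ := ih
    obtain ⟨t, rfl⟩ : ∃ t, r = 2 * t + 1 := ⟨r / 2, by omega⟩
    refine ⟨c * (2 * t + 1) ^ 2 + (2 * t + 1) * (t + 1), ?_⟩
    rw [show 2 * (l + 1) + 1 = (2 * l + 1) + 2 by ring, pow_add, hc, show 2 * t + 1 - 1 = 2 * t by omega]
    ring

theorem range_map_le_toPGL (f : K →+* F) (hsq : ∀ u : Kˣ, IsSquare (f u)) :
    (ProjGenLinGroup.map f : Matrix.ProjGenLinGroup (Fin 2) K →* Matrix.ProjGenLinGroup (Fin 2) F).range ≤
      (ProjectiveSpecialLinearGroup.toPGL : PSL2 →* _).range := by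
  rintro _ ⟨g, rfl⟩
  induction g using Matrix.ProjGenLinGroup.induction_on with | mk g => ?_
  obtain ⟨s, hs⟩ := hsq g.det
  have hs0 : s ≠ 0 := by
    rintro rfl
    rw [mul_zero, map_eq_zero] at hs
    exact g.det.ne_zero hs
  let M : GL (Fin 2) F := GeneralLinearGroup.map f g
  have hM : (M : Matrix (Fin 2) (Fin 2) F).det = s * s := by
    rw [← hs]
    show ((g : Matrix (Fin 2) (Fin 2) K).map f).det = _
    rw [← RingHom.mapMatrix_apply, ← RingHom.map_det]
    rfl
  refine ⟨QuotientGroup.mk (⟨s⁻¹ • (M : Matrix (Fin 2) (Fin 2) F), ?_⟩ : SL(2, F)), ?_⟩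
  · rw [Matrix.det_smul, hM, Fintype.card_fin]
    field_simp
  · rw [ProjGenLinGroup.map_mk]
    refine (ProjectiveSpecialLinearGroup.toPGL_mk _).trans ?_
    rw [ProjGenLinGroup.mk_eq_mk_iff]
    refine ⟨Units.mk0 s hs0, Units.ext ?_⟩
    rw [Units.val_mul, GeneralLinearGroup.coe_scalar]
    show (s⁻¹ • (M : Matrix (Fin 2) (Fin 2) F)) * Matrix.scalar (Fin 2) s = M
    rw [Matrix.scalar_apply, ← Matrix.smul_one_eq_diagonal, Matrix.smul_mul, Matrix.mul_smul, mul_one, smul_smul,
      inv_mul_cancel₀ hs0, one_smul]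

/-- The projective general linear group of a subfield. -/
theorem exists_pgl_subgroup {m : ℕ} (h : Fintype.card K ^ m = Fintype.card F) (hm : Even m)
    (hodd : Fintype.card F % 2 = 1) :
    ∃ H : Subgroup PSL2, Nonempty (H ≃* Matrix.ProjGenLinGroup (Fin 2) K) := by
  classical
  obtain ⟨f⟩ := nonempty_ringHom h
  have hchar : ringChar F ≠ 2 := fun e => by
    have := FiniteField.even_card_of_char_two e
    omega
  have hKodd : Fintype.card K % 2 = 1 := by
    by_contra hh
    have h2 : 2 ∣ Fintype.card K := by omega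
    have hm0 : m ≠ 0 := by
      rintro rfl
      rw [pow_zero] at h
      have := two_le_card (F := F)
      omega
    have := dvd_pow h2 hm0
    rw [h] at this
    omega
  have hsq : ∀ u : Kˣ, IsSquare (f u) := by
    intro u
    rw [FiniteField.isSquare_iff hchar ((map_ne_zero f).mpr u.ne_zero), ← map_pow]
    have hdvd : Fintype.card K - 1 ∣ Fintype.card F / 2 := by
      obtain ⟨l, rfl⟩ := hm
      rw [← two_mul, pow_mul] at h
      have h1 : Fintype.card K ^ 2 - 1 ∣ (Fintype.card K ^ 2) ^ l - 1 := by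
        simpa using Nat.sub_dvd_pow_sub_pow (Fintype.card K ^ 2) 1 l
      rw [h, show Fintype.card K ^ 2 - 1 = (Fintype.card K + 1) * (Fintype.card K - 1) by
        rw [← Nat.sq_sub_sq, one_pow]] at h1
      have h2 : 2 * (Fintype.card K - 1) ∣ Fintype.card F - 1 :=
        (Nat.mul_dvd_mul_right (show 2 ∣ Fintype.card K + 1 by omega) _).trans h1
      obtain ⟨c, hc⟩ := h2
      refine ⟨c, ?_⟩
      rw [mul_assoc] at hc
      omega
    obtain ⟨c, hc⟩ := hdvd
    rw [hc, pow_mul, FiniteField.pow_card_sub_one_eq_one (u : K) u.ne_zero, one_pow, map_one]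
  refine ⟨(ProjGenLinGroup.map f : Matrix.ProjGenLinGroup (Fin 2) K →* _).range.comap
    ProjectiveSpecialLinearGroup.toPGL, ?_⟩
  refine ⟨(Subgroup.equivMapOfInjective _ _ ProjectiveSpecialLinearGroup.toPGL_injective).trans
    ((MulEquiv.subgroupCongr (Subgroup.map_comap_eq_self (range_map_le_toPGL f hsq))).trans
      (MonoidHom.ofInjective (map_injective_of_field f)).symm)⟩

/-- `PGL(2, K)` is a subgroup of `PSL(2, F)` only for even degree. -/
theorem even_of_pgl_subgroup {m : ℕ} (h : Fintype.card K ^ m = Fintype.card F)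
    (hodd : Fintype.card F % 2 = 1) (H : Subgroup PSL2) (e : H ≃* Matrix.ProjGenLinGroup (Fin 2) K) :
    Even m := by
  classical
  by_contra hev
  rw [Nat.not_even_iff_odd] at hev
  obtain ⟨l, rfl⟩ := hev
  obtain ⟨p, hpp, hp, n, hn0, hn⟩ := exists_char (F := F)
  haveI := Fact.mk hpp
  set r := Fintype.card K with hr
  have hr2 : 2 ≤ r := Fintype.one_lt_card
  have hrodd : r % 2 = 1 := by
    by_contra hh
    have := dvd_pow (show 2 ∣ r by omega) (show 2 * l + 1 ≠ 0 by omega)
    rw [h] at this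
    omega
  -- the split torus
  let ι : Kˣ →* Matrix.ProjGenLinGroup (Fin 2) K :=
    { toFun := fun a => aff a 0
      map_one' := aff_one
      map_mul' := fun a b => by rw [aff_mul, mul_zero, zero_add] }
  have hinj : Function.Injective ι := fun a b hab => (aff_injective hab).1
  obtain ⟨a, ha⟩ := IsCyclic.exists_ofOrder_eq_natCard (α := Kˣ)
  rw [Cfsg.Lib.Linear.card_units_eq] at ha
  have hx : orderOf ((e.symm (ι a) : H) : PSL2) = r - 1 := by
    rw [Subgroup.orderOf_coe, e.symm.orderOf_eq, orderOf_injective ι hinj, ha]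
  have hpr : p ∣ r := by
    have : p ∣ r ^ (2 * l + 1) := by rw [h, hn]; exact dvd_pow_self p hn0.ne'
    exact hpp.dvd_of_dvd_pow this
  have hnd : ¬ p ∣ orderOf ((e.symm (ι a) : H) : PSL2) := by
    rw [hx]
    intro hd
    have := Nat.dvd_sub hpr hd
    rw [show r - (r - 1) = 1 by omega] at this
    exact hpp.not_dvd_one this
  have hd := orderOf_dvd_card_add_sub hnd
  rw [hx, Nat.gcd_eq_left (show 2 ∣ Fintype.card F - 1 by omega), ← h] at hd
  -- `q ≡ r` modulo `2 (r - 1)`
  obtain ⟨c, hc⟩ := pow_odd_congr r hrodd l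
  rw [hc] at hd
  rcases hd with hd | hd
  · rw [add_assoc, Nat.dvd_add_right (dvd_mul_right _ _)] at hd
    have hle := Nat.le_of_dvd (by omega) hd
    have hr3 : r = 3 := by omega
    -- an element of order four
    have h2K : (2 : K) ≠ 0 := two_ne_zero_of_odd (by omega)
    let g : GL (Fin 2) K := GeneralLinearGroup.mkOfDetNeZero !![1, 1; -1, 1] (by
      simp [det_fin_two]; norm_num [h2K])
    have hg2 : ProjGenLinGroup.mk g ^ 2 ≠ 1 := by
      rw [← map_pow, Ne, ProjGenLinGroup.mk_eq_one, GeneralLinearGroup.center_eq_range_scalar]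
      rintro ⟨u, hu⟩
      have := congrArg (fun z : GL (Fin 2) K => (z : Matrix (Fin 2) (Fin 2) K) 0 1) hu
      simp [g, sq, GeneralLinearGroup.mkOfDetNeZero, Matrix.mul_apply, Fin.sum_univ_two] at this
      exact h2K (by linear_combination -this)
    have hg4 : ProjGenLinGroup.mk g ^ 4 = 1 := by
      rw [← map_pow, ProjGenLinGroup.mk_eq_one, GeneralLinearGroup.center_eq_range_scalar]
      refine ⟨Units.mk0 (-4 : K) (by
        rw [neg_ne_zero, show (4 : K) = 2 * 2 by norm_num]; exact mul_ne_zero h2K h2K), ?_⟩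
      apply Units.ext
      rw [show (4 : ℕ) = 2 * 2 by norm_num, pow_mul, GeneralLinearGroup.coe_scalar, Units.val_pow_eq_pow_val,
        Units.val_pow_eq_pow_val]
      ext i j
      fin_cases i <;> fin_cases j <;>
        simp [g, sq, GeneralLinearGroup.mkOfDetNeZero, Matrix.mul_apply, Fin.sum_univ_two] <;> ring
    haveI := Fact.mk Nat.prime_two
    have ho : orderOf (ProjGenLinGroup.mk g) = 4 :=
      orderOf_eq_prime_pow (p := 2) (n := 1) (by simpa using hg2) (by simpa using hg4)
    have h16 := sq_mod_sixteen_of_orderOf_four (x := ((e.symm (ProjGenLinGroup.mk g) : H) : PSL2))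
      (by rw [Subgroup.orderOf_coe, e.symm.orderOf_eq, ho])
    have h9 : Fintype.card F % 8 = 3 := by
      rw [← h, hr3, pow_succ, pow_mul, Nat.mul_mod, Nat.pow_mod]
      norm_num
    rw [sq, Nat.mul_mod] at h16
    have h16' : Fintype.card F % 16 = 3 ∨ Fintype.card F % 16 = 11 := by omega
    rcases h16' with e16 | e16 <;> rw [e16] at h16 <;> omega
  · have hr' : 2 * (r - 1) * c + r - 1 = 2 * (r - 1) * c + (r - 1) := by omega
    rw [hr', Nat.dvd_add_right (dvd_mul_right _ _)] at hd
    have := Nat.le_of_dvd (by omega) hd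
    omega

end Cfsg.Lib.Dickson
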