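import Mathlib
import Cfsg.Agent.Lib.Dickson.SubfieldPGL

/-!
# Overgroups in `PSL(2, q)`: general exclusions for proving maximality
-/

set_option autoImplicit false
set_option linter.unusedSectionVars false

namespace Cfsg.Lib.Dickson

open Matrix
open scoped MatrixGroups

section Abstract

variable {G : Type*} [Group G] [Finite G]

/-- A group without nontrivial cyclic normal subgroups embeds in no cyclic or dihedral group. -/
theorem not_le_cyclic_or_dihedral {H₀ H : Subgroup G} (hle : H₀ ≤ H) (hnn : NoNormalCyclic H₀) (hne : H₀ ≠ ⊥)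
    {k : ℕ} : ¬ (IsCyclic H ∨ Nonempty (H ≃* DihedralGroup k)) := by
  intro hH
  let j : H₀ →* H := Subgroup.inclusion hle
  have hj : Function.Injective j := Subgroup.inclusion_injective hle
  rcases hH with hc | ⟨⟨e⟩⟩
  · haveI := hc
    have htop := hnn ⊤ inferInstance
      ((Subgroup.topEquiv (G := H₀)).isCyclic.mpr (isCyclic_of_injective j hj))
    exact hne ((Subgroup.eq_bot_iff_forall _).mpr fun x hx => by
      have : (⟨x, hx⟩ : H₀) ∈ (⊥ : Subgroup H₀) := htop ▸ Subgroup.mem_top _
      exact congrArg Subtype.val (Subgroup.mem_bot.mp this))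
  let f : H₀ →* DihedralGroup k := e.toMonoidHom.comp j
  have hf : Function.Injective f := e.injective.comp hj
  let σ : DihedralGroup k →* Multiplicative (ZMod 2) :=
    { toFun := fun g => match g with
        | DihedralGroup.r _ => Multiplicative.ofAdd 0
        | DihedralGroup.sr _ => Multiplicative.ofAdd 1
      map_one' := rfl
      map_mul' := by
        rintro (i | i) (l | l) <;> simp only [DihedralGroup.r_mul_r, DihedralGroup.r_mul_sr, DihedralGroup.sr_mul_r,
          DihedralGroup.sr_mul_sr] <;> decide }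
  set C := (σ.comp f).ker
  have hCn : C.Normal := inferInstance
  have hCc : IsCyclic C := by
    let ρ : C →* DihedralGroup k := f.comp C.subtype
    have hρ : ∀ c : C, ρ c ∈ Subgroup.zpowers (DihedralGroup.r 1 : DihedralGroup k) := by
      rintro ⟨c, hc⟩
      show f c ∈ _
      have hc' : σ (f c) = 1 := hc
      revert hc'
      rcases f c with i | i
      · intro _
        obtain ⟨z, rfl⟩ := ZMod.intCast_surjective i
        exact ⟨z, DihedralGroup.r_one_zpow z⟩
      · intro h
        exact absurd h (by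
          show ¬ (Multiplicative.ofAdd (1 : ZMod 2)) = 1
          decide)
    exact isCyclic_of_injective (ρ.codRestrict _ hρ) fun a b h =>
      C.subtype_injective (hf (congrArg Subtype.val h))
  have hbot := hnn C hCn hCc
  -- so the group has order at most two
  have hinj : Function.Injective (σ.comp f) := (MonoidHom.ker_eq_bot_iff _).mp hbot
  have hc2 : IsCyclic H₀ := isCyclic_of_injective _ hinj
  have htop := hnn ⊤ inferInstance ((Subgroup.topEquiv (G := H₀)).isCyclic.mpr hc2)
  exact hne ((Subgroup.eq_bot_iff_forall _).mpr fun x hx => by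
    have : (⟨x, hx⟩ : H₀) ∈ (⊥ : Subgroup H₀) := htop ▸ Subgroup.mem_top _
    exact congrArg Subtype.val (Subgroup.mem_bot.mp this))

theorem noNormalCyclic_congr {A B : Type*} [Group A] [Group B] (e : A ≃* B) (h : NoNormalCyclic B) :
    NoNormalCyclic A := by
  intro N hN hc
  have := h (N.map e.toMonoidHom) (hN.map _ e.surjective)
    (isCyclic_of_surjective _ (N.equivMapOfInjective e.toMonoidHom e.injective).surjective)
  rwa [Subgroup.map_eq_bot_iff_of_injective _ e.injective] at this

theorem noNormalCyclic_of_simple {A : Type*} [Group A] [IsSimpleGroup A] (h : ¬ IsCyclic A) : NoNormalCyclic A := by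
  intro N hN hc
  rcases IsSimpleGroup.eq_bot_or_eq_top_of_normal N hN with e | e
  · exact e
  · subst e
    exact absurd ((Subgroup.topEquiv (G := A)).isCyclic.mp hc) h

theorem mem_of_pow_eq_one_normalizer {p : ℕ} (P : Sylow p G) {y : G}
    (hy : y ∈ Subgroup.normalizer ((P : Subgroup G) : Set G)) {k : ℕ} (hk : y ^ p ^ k = 1) :
    y ∈ (P : Subgroup G) := by
  have hp : IsPGroup p (Subgroup.zpowers y) := fun z => ⟨k, by
    obtain ⟨j, hj⟩ := Subgroup.mem_zpowers_iff.mp z.2
    apply Subtype.ext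
    show (z : G) ^ p ^ k = 1
    rw [← hj, ← zpow_natCast, ← _root_.zpow_mul, mul_comm, _root_.zpow_mul, zpow_natCast, hk, _root_.one_zpow]⟩
  exact le_sylow_of_le_normalizer hp P (Subgroup.zpowers_le.mpr hy) (Subgroup.mem_zpowers y)

end Abstract

variable {F : Type*} [Field F] [Fintype F]

local notation "PSL2" => Matrix.ProjectiveSpecialLinearGroup (Fin 2) F

/-- A subgroup of the normaliser of a Sylow `p`-subgroup of order prime to `p` is cyclic. -/
theorem isCyclic_of_le_normalizer (p : ℕ) [Fact p.Prime] [CharP F p] {H₀ : Subgroup PSL2} {P : Sylow p PSL2}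
    (hle : H₀ ≤ Subgroup.normalizer ((P : Subgroup PSL2) : Set PSL2)) (hp : ¬ p ∣ Nat.card H₀) :
    IsCyclic H₀ := by
  haveI : Finite PSL2 := inferInstance
  set N := Subgroup.normalizer ((P : Subgroup PSL2) : Set PSL2)
  have hPne : ((P : Subgroup PSL2).subgroupOf N) ≠ ⊥ := by
    intro h
    rw [Subgroup.subgroupOf_eq_bot, disjoint_iff, inf_eq_left.mpr Subgroup.le_normalizer] at h
    have hd : p ∣ Nat.card PSL2 := by
      have hc := card_normalizer_sylow_psl p P
      have h1 : p ∣ Fintype.card F * (Fintype.card F - 1) := (Cfsg.Lib.Linear.Two.dvd_card (F := F) p).mul_right _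
      rw [← hc] at h1
      rcases (Fact.out : p.Prime).dvd_mul.mp h1 with h1 | h1
      · exfalso
        have hp2 : p = 2 := (Nat.prime_dvd_prime_iff_eq Fact.out Nat.prime_two).mp (h1.trans (Nat.gcd_dvd_left _ _))
        have h2 := h1.trans (Nat.gcd_dvd_right 2 (Fintype.card F - 1))
        have h3 := Nat.dvd_sub (Cfsg.Lib.Linear.Two.dvd_card (F := F) p) h2
        have hq := two_le_card (F := F)
        rw [show Fintype.card F - (Fintype.card F - 1) = 1 by omega] at h3
        exact (Fact.out : p.Prime).not_dvd_one h3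
      · exact h1.trans (Subgroup.card_subgroup_dvd_card _)
    exact P.ne_bot_of_dvd_card hd h
  classical
  haveI : CharP (AlgebraicClosure F) p := charP_of_injective_algebraMap (algebraMap F _).injective p
  obtain ⟨x, hx⟩ := exists_fix_of_normal_pgroup p N ((P : Subgroup PSL2).subgroupOf N)
    (P.2.comap_of_injective N.subtype N.subtype_injective) hPne
  let e : H₀ ≃* H₀.map (emb F) := Subgroup.equivMapOfInjective H₀ (emb F) emb_injective
  haveI : Finite (H₀.map (emb F)) := Finite.of_equiv H₀ e.toEquiv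
  refine (MulEquiv.isCyclic e).mpr (cyclic_of_fix_one p (x := x) ?_ ?_).1
  · rintro _ ⟨h, hh, rfl⟩
    exact hx h (hle hh)
  · rintro _ ⟨h, hh, rfl⟩ h1 hu
    have h1' : h ≠ 1 := fun e => h1 (by rw [e, map_one])
    have hpow : h ^ p = 1 := emb_injective (by rw [map_pow, map_one]; exact pow_char_of_mem_unip p hu)
    have : orderOf h = p := orderOf_eq_prime hpow h1'
    exact hp (this ▸ Subgroup.orderOf_mk h hh ▸ orderOf_dvd_natCard _)

/-- A subgroup with several Sylow `p`-subgroups lies in no Sylow normaliser. -/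
theorem not_le_normalizer_of_sylow (p : ℕ) [Fact p.Prime] {H₀ : Subgroup PSL2}
    (hns : ∀ Q : Sylow p H₀, ¬ (Q : Subgroup H₀).Normal) (P : Sylow p PSL2) :
    ¬ H₀ ≤ Subgroup.normalizer ((P : Subgroup PSL2) : Set PSL2) := by
  intro hle
  haveI : Finite PSL2 := inferInstance
  set R := (P : Subgroup PSL2).subgroupOf H₀
  have hR : IsPGroup p R := P.2.comap_of_injective H₀.subtype H₀.subtype_injective
  have hn : R.Normal := Subgroup.normal_subgroupOf_of_le_normalizer hle
  obtain ⟨Q, hQ⟩ := hR.exists_le_sylow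
  refine hns Q ?_
  have : (Q : Subgroup H₀) = R := by
    refine le_antisymm (fun y hy => ?_) hQ
    obtain ⟨k, hk⟩ := Q.2 ⟨y, hy⟩
    exact mem_of_pow_eq_one_normalizer P (hle y.2) (k := k)
      (congrArg (fun z : Q => ((z : H₀) : PSL2)) hk)
  rw [this]; exact hn

theorem not_le_normalizer_of_coprime (p : ℕ) [Fact p.Prime] [CharP F p] {H₀ : Subgroup PSL2}
    (hnn : NoNormalCyclic H₀) (hne : H₀ ≠ ⊥) (hp : ¬ p ∣ Nat.card H₀) (P : Sylow p PSL2) :
    ¬ H₀ ≤ Subgroup.normalizer ((P : Subgroup PSL2) : Set PSL2) := fun hle =>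
  not_le_cyclic_or_dihedral (k := 0) le_rfl hnn hne (Or.inl (isCyclic_of_le_normalizer p hle hp))

/-- Overgroups of a subgroup lying in no Sylow normaliser and in no cyclic or dihedral group. -/
theorem overgroup_cases (p : ℕ) [Fact p.Prime] [CharP F p] {H₀ H : Subgroup PSL2} (hle : H₀ ≤ H)
    (hnn : NoNormalCyclic H₀) (hne : H₀ ≠ ⊥)
    (hN : ∀ P : Sylow p PSL2, ¬ H₀ ≤ Subgroup.normalizer ((P : Subgroup PSL2) : Set PSL2)) :
    Nonempty (H ≃* alternatingGroup (Fin 4)) ∨ Nonempty (H ≃* Equiv.Perm (Fin 4)) ∨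
      Nonempty (H ≃* alternatingGroup (Fin 5)) ∨
      ∃ (K : Type) (_ : Field K) (_ : Fintype K) (m : ℕ), CharP K p ∧ 3 ≤ Fintype.card K ∧
        Fintype.card K ^ m = Fintype.card F ∧
        ((Nonempty (H ≃* Matrix.ProjectiveSpecialLinearGroup (Fin 2) K) ∧ Fintype.card K % 2 = 1) ∨
          Nonempty (H ≃* Matrix.ProjGenLinGroup (Fin 2) K)) := by
  haveI : Finite PSL2 := inferInstance
  rcases psl_subgroup_cases p H with ⟨k, -, hH⟩ | ⟨-, P, hP⟩ | ⟨-, hc⟩
  · exact absurd (hH.imp And.left id) (not_le_cyclic_or_dihedral hle hnn hne)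
  · exact absurd (hle.trans hP) (hN P)
  · exact hc

theorem card_psl_mul {K : Type*} [Field K] [Fintype K] (h : Fintype.card K % 2 = 1) :
    2 * Nat.card (Matrix.ProjectiveSpecialLinearGroup (Fin 2) K) = Fintype.card K * (Fintype.card K ^ 2 - 1) := by
  have h' := Cfsg.Lib.Linear.Two.card_PSL_two (F := K)
  rwa [Nat.gcd_eq_left (show 2 ∣ Fintype.card K - 1 by omega)] at h'

/-- In the full field case the overgroup is everything. -/
theorem eq_top_of_full {H : Subgroup PSL2} {K : Type*} [Field K] [Fintype K]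
    (hr : Fintype.card K = Fintype.card F)
    (h : (Nonempty (H ≃* Matrix.ProjectiveSpecialLinearGroup (Fin 2) K) ∧ Fintype.card K % 2 = 1) ∨
      Nonempty (H ≃* Matrix.ProjGenLinGroup (Fin 2) K)) : H = ⊤ := by
  haveI : Finite PSL2 := inferInstance
  have hG := Cfsg.Lib.Linear.Two.card_PSL_two (F := F)
  refine Subgroup.eq_top_of_card_eq H ?_
  rcases h with ⟨⟨e⟩, hodd⟩ | he
  · rw [Nat.card_congr e.toEquiv]
    have h2 := card_psl_mul (K := K) hodd
    rw [hr] at h2 hodd
    rw [Nat.gcd_eq_left (show 2 ∣ Fintype.card F - 1 by omega)] at hG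
    omega
  · obtain ⟨e⟩ := he
    rw [Nat.card_congr e.toEquiv, card_PGL_two_eq, hr, ← hG]
    have hle := Nat.le_of_dvd Nat.card_pos (Subgroup.card_subgroup_dvd_card H)
    rw [Nat.card_congr e.toEquiv, card_PGL_two_eq, hr, ← hG] at hle
    have hd : 0 < Nat.gcd 2 (Fintype.card F - 1) := Nat.gcd_pos_of_pos_left _ two_pos
    exact le_antisymm hle (Nat.le_mul_of_pos_left _ hd)

theorem isCoatom_of_overgroups {G : Type*} [Group G] {H₀ : Subgroup G} (hne : H₀ ≠ ⊤)
    (h : ∀ H, H₀ < H → H = ⊤) : IsCoatom H₀ := ⟨hne, h⟩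

theorem card_lt_of_lt {G : Type*} [Group G] [Finite G] {H₀ H : Subgroup G} (h : H₀ < H) :
    Nat.card H₀ < Nat.card H ∧ Nat.card H₀ ∣ Nat.card H := by
  refine ⟨?_, Subgroup.card_dvd_of_le h.le⟩
  by_contra hcon
  push Not at hcon
  exact h.ne (Subgroup.eq_of_le_of_card_ge h.le hcon)

end Cfsg.Lib.Dickson
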