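import Cfsg.Agent.Lib.Dickson.Involutions
import Cfsg.Agent.Lib.Dickson.Overgroups
import Mathlib.GroupTheory.SpecificGroups.KleinFour

/-!
# Klein four subgroups of `PSL(2, q)`, `q` odd
-/

set_option autoImplicit false
set_option linter.unusedSectionVars false

open Matrix
open scoped MatrixGroups

namespace Cfsg.Lib.Dickson.KleinClasses

variable {F : Type*} [Field F] [Fintype F]

local notation "SL2" => Matrix.SpecialLinearGroup (Fin 2) F
local notation "PSL2" => Matrix.ProjectiveSpecialLinearGroup (Fin 2) F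
local notation "M2" => Matrix (Fin 2) (Fin 2) F

theorem mk_eq_iff {a b : SL2} :
    (QuotientGroup.mk a : PSL2) = QuotientGroup.mk b ↔ (b : M2) = (a : M2) ∨ (b : M2) = -(a : M2) := by
  rw [QuotientGroup.eq, Matrix.SpecialLinearGroup.mem_center_iff]
  constructor
  · rintro ⟨r, hr, he⟩
    have hb : (b : M2) = (a : M2) * Matrix.scalar (Fin 2) r := by
      rw [he, ← Matrix.SpecialLinearGroup.coe_mul, mul_inv_cancel_left]
    rw [Fintype.card_fin, sq_eq_one_iff] at hr
    rcases hr with rfl | rfl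
    · left; rw [hb, map_one, mul_one]
    · right; rw [hb, map_neg, map_one, mul_neg, mul_one]
  · have hinv : ((a⁻¹ : SL2) : M2) * (a : M2) = 1 := by
      rw [← Matrix.SpecialLinearGroup.coe_mul, inv_mul_cancel]; rfl
    rintro (h | h)
    · exact ⟨1, one_pow _, by rw [map_one, Matrix.SpecialLinearGroup.coe_mul, h, hinv]⟩
    · exact ⟨-1, by simp, by
        rw [map_neg, map_one, Matrix.SpecialLinearGroup.coe_mul, h, mul_neg, hinv]⟩

theorem cayley (M : M2) : M * M = (M 0 0 + M 1 1) • M - M.det • 1 := by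
  rw [Matrix.det_fin_two]
  ext i j
  fin_cases i <;> fin_cases j <;> simp [Matrix.mul_apply, Fin.sum_univ_two] <;> ring

theorem mul_self_of_trace {g : SL2} (h : g 0 0 + g 1 1 = 0) : (g : M2) * (g : M2) = -1 := by
  rw [cayley, h, zero_smul, g.2, one_smul, zero_sub]

/-- Lifts of two distinct commuting involutions anticommute. -/
theorem anticommute (h2 : (2 : F) ≠ 0) {a b : SL2} (ha : a 0 0 + a 1 1 = 0) (hb : b 0 0 + b 1 1 = 0)
    (hc : Commute (QuotientGroup.mk a : PSL2) (QuotientGroup.mk b))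
    (hne : (QuotientGroup.mk a : PSL2) ≠ QuotientGroup.mk b) :
    (b : M2) * (a : M2) = -((a : M2) * (b : M2)) := by
  have h : (QuotientGroup.mk (a * b) : PSL2) = QuotientGroup.mk (b * a) := hc
  rw [mk_eq_iff, Matrix.SpecialLinearGroup.coe_mul, Matrix.SpecialLinearGroup.coe_mul] at h
  refine h.resolve_left fun hcomm => hne ?_
  set A : M2 := a.1 with hA
  set B : M2 := b.1 with hB
  have hAA : A * A = -1 := mul_self_of_trace ha
  have hBB : B * B = -1 := mul_self_of_trace hb
  have hM : (A * B) * (A * B) = 1 := by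
    calc A * B * (A * B) = A * (B * A) * B := by simp only [mul_assoc]
      _ = A * A * (B * B) := by rw [hcomm]; simp only [mul_assoc]
      _ = 1 := by rw [hAA, hBB, neg_mul_neg, one_mul]
  have hdet : (A * B).det = 1 := by rw [Matrix.det_mul, hA, hB, a.2, b.2, one_mul]
  have hc2 := cayley (A * B)
  rw [hM, hdet, one_smul] at hc2
  set t := (A * B) 0 0 + (A * B) 1 1
  have h2' : t • (A * B) = (2 : F) • (1 : M2) := by rw [two_smul]; linear_combination (norm := abel) -hc2
  have ht : t ≠ 0 := fun h0 => by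
    rw [h0, zero_smul] at h2'
    exact h2 (by simpa using congrFun (congrFun h2'.symm 0) 0)
  have hAB : A * B = (t⁻¹ * 2) • (1 : M2) := by rw [mul_smul, ← h2', smul_smul, inv_mul_cancel₀ ht, one_smul]
  have hB' : B = -(t⁻¹ * 2) • A := by
    calc B = -(A * A) * B := by rw [hAA, neg_neg, one_mul]
      _ = -(A * (A * B)) := by rw [neg_mul, mul_assoc]
      _ = _ := by rw [hAB, mul_smul_comm, mul_one, neg_smul]
  have hs : (t⁻¹ * 2) ^ 2 = 1 := by
    have := congrArg Matrix.det hB'
    rw [Matrix.det_smul, Fintype.card_fin, hA, hB, a.2, b.2, mul_one, neg_sq] at this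
    exact this.symm
  rw [mk_eq_iff]
  rcases sq_eq_one_iff.1 hs with h' | h' <;> rw [h'] at hB'
  · right; simpa using hB'
  · left; simpa using hB'

/-- An element anticommuting with the standard involution has trace zero. -/
theorem trace_of_anti (h2 : (2 : F) ≠ 0) {g : SL2}
    (h : (g : M2) * ((stdInvol F : SL2) : M2) = -(((stdInvol F : SL2) : M2) * (g : M2))) : g 0 0 + g 1 1 = 0 := by
  have e := congrFun (congrFun h 0) 1
  simp [stdInvol, Matrix.mul_apply, Matrix.vecMul, dotProduct, Fin.sum_univ_two] at e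
  first | linear_combination e | linear_combination -e

/-- A trace zero element commuting with the standard involution is that involution. -/
theorem eq_std_of_commute (h2 : (2 : F) ≠ 0) {g : SL2} (ht : g 0 0 + g 1 1 = 0)
    (h : (g : M2) * ((stdInvol F : SL2) : M2) = ((stdInvol F : SL2) : M2) * (g : M2)) :
    (QuotientGroup.mk g : PSL2) = QuotientGroup.mk (stdInvol F) := by
  have e1 := congrFun (congrFun h 0) 1
  have e2 := congrFun (congrFun h 0) 0
  simp [stdInvol, Matrix.mul_apply, Matrix.vecMul, dotProduct, Fin.sum_univ_two] at e1 e2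
  have h00 : g 0 0 = 0 := mul_left_cancel₀ h2 (by linear_combination ht + e1)
  have h11 : g 1 1 = 0 := by linear_combination ht - h00
  have hd := g.2
  rw [Matrix.det_fin_two] at hd
  have h10 : g 1 0 = -g 0 1 := by linear_combination e2
  have hsq : g 1 0 ^ 2 = 1 := by linear_combination hd - g 1 1 * h00 + g 1 0 * h10
  refine (mk_eq_iff).2 ?_
  rcases sq_eq_one_iff.1 hsq with h' | h'
  · left
    ext i j
    fin_cases i <;> fin_cases j <;> simp [stdInvol, h00, h11, h']
    first | linear_combination h10 - h' | linear_combination h' - h10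
  · right
    ext i j
    fin_cases i <;> fin_cases j <;> simp [stdInvol, h00, h11, h']
    first | linear_combination h10 - h' | linear_combination h' - h10

theorem std_trace : (stdInvol F : SL2) 0 0 + (stdInvol F : SL2) 1 1 = 0 := by simp [stdInvol]

theorem std_sq : (QuotientGroup.mk (stdInvol F) : PSL2) ^ 2 = 1 := by
  rw [sq]; exact mk_sq_eq_one_of_trace std_trace

theorem std_ne_one : (QuotientGroup.mk (stdInvol F) : PSL2) ≠ 1 := by
  intro h
  rw [show (1 : PSL2) = QuotientGroup.mk (1 : SL2) from rfl, mk_eq_iff] at h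
  rcases h with h | h <;>
  · have := congrFun (congrFun h 0) 0
    simp [stdInvol] at this

/-- The elements of the centraliser of the standard involution with an anticommuting lift. -/
def IsAnti (x : PSL2) : Prop :=
  ∃ g : SL2, QuotientGroup.mk g = x ∧ (g : M2) * ((stdInvol F : SL2) : M2) = -(((stdInvol F : SL2) : M2) * (g : M2))

theorem mem_centralizer_std {g : SL2} :
    (QuotientGroup.mk g : PSL2) ∈ Subgroup.centralizer ({QuotientGroup.mk (stdInvol F)} : Set PSL2) ↔
      (g : M2) * ((stdInvol F : SL2) : M2) = ((stdInvol F : SL2) : M2) * (g : M2) ∨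
      (g : M2) * ((stdInvol F : SL2) : M2) = -(((stdInvol F : SL2) : M2) * (g : M2)) := by
  rw [Subgroup.mem_centralizer_singleton_iff, ← QuotientGroup.mk_mul, ← QuotientGroup.mk_mul, mk_eq_iff,
    Matrix.SpecialLinearGroup.coe_mul, Matrix.SpecialLinearGroup.coe_mul]
  constructor <;> rintro (h | h)
  · exact Or.inl h.symm
  · exact Or.inr (by rw [h, neg_neg])
  · exact Or.inl h.symm
  · exact Or.inr (by rw [h, neg_neg])

theorem isAnti_iff (h2 : (2 : F) ≠ 0) {x : PSL2}
    (hx : x ∈ Subgroup.centralizer ({QuotientGroup.mk (stdInvol F)} : Set PSL2)) :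
    IsAnti x ↔ x ^ 2 = 1 ∧ x ≠ 1 ∧ x ≠ QuotientGroup.mk (stdInvol F) := by
  obtain ⟨g, rfl⟩ := QuotientGroup.mk_surjective x
  constructor
  · rintro ⟨g', hg', ha⟩
    have key : ∀ r : SL2, QuotientGroup.mk g' = (QuotientGroup.mk r : PSL2) →
        (r : M2) * ((stdInvol F : SL2) : M2) = ((stdInvol F : SL2) : M2) * (r : M2) → False := by
      intro r hr hcomm
      have hz : ((stdInvol F : SL2) : M2) * (g' : M2) = 0 := by
        rcases mk_eq_iff.1 hr with h | h <;>
        · rw [h] at hcomm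
          simp only [neg_mul, mul_neg, neg_inj, ha] at hcomm
          have e : (2 : F) • (((stdInvol F : SL2) : M2) * (g' : M2)) = 0 := by
            rw [two_smul]; linear_combination (norm := abel) -hcomm
          exact (smul_eq_zero.1 e).resolve_left h2
      have := congrArg Matrix.det hz
      rw [Matrix.det_mul, (stdInvol F).2, g'.2, one_mul, Matrix.det_zero] at this
      exact one_ne_zero this
    rw [← hg']
    refine ⟨by rw [sq]; exact mk_sq_eq_one_of_trace (trace_of_anti h2 ha), fun h => ?_, fun h => ?_⟩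
    · exact key 1 h (by simp)
    · exact key _ h rfl
  · rintro ⟨hsq, h1, hj⟩
    have ht := trace_zero_of_involution h2 hsq h1
    rcases mem_centralizer_std.1 hx with h | h
    · exact absurd (eq_std_of_commute h2 ht h) hj
    · exact ⟨g, rfl, h⟩

theorem exists_anti (hodd : Fintype.card F % 2 = 1) : ∃ g : SL2,
    (g : M2) * ((stdInvol F : SL2) : M2) = -(((stdInvol F : SL2) : M2) * (g : M2)) := by
  classical
  obtain ⟨a, b, hab⟩ := FiniteField.exists_root_sum_quadratic (R := F) (f := Polynomial.X ^ 2)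
    (g := Polynomial.X ^ 2 - Polynomial.C (-1)) (Polynomial.degree_X_pow 2)
    (Polynomial.degree_X_pow_sub_C (by norm_num) _) hodd
  simp at hab
  refine ⟨⟨!![a, b; b, -a], by rw [Matrix.det_fin_two_of]; linear_combination -hab⟩, ?_⟩
  ext i j
  fin_cases i <;> fin_cases j <;> simp [stdInvol, Matrix.mul_apply, Fin.sum_univ_two]

open scoped Classical in
theorem card_centralizer_std (hodd : Fintype.card F % 2 = 1) :
    Nat.card (Subgroup.centralizer ({QuotientGroup.mk (stdInvol F)} : Set PSL2)) =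
      2 * Nat.card {y : PSL2 // (y ^ 2 = 1 ∧ y ≠ 1 ∧ y ≠ QuotientGroup.mk (stdInvol F)) ∧
        y * QuotientGroup.mk (stdInvol F) = QuotientGroup.mk (stdInvol F) * y} := by
  have h2 := two_ne_zero_of_odd (F := F) hodd
  set j : PSL2 := QuotientGroup.mk (stdInvol F) with hjdef
  set C := Subgroup.centralizer ({j} : Set PSL2) with hC
  obtain ⟨g0, hg0⟩ := exists_anti (F := F) hodd
  set J : M2 := ((stdInvol F : SL2) : M2) with hJ
  have hxC : (QuotientGroup.mk g0 : PSL2) ∈ C := mem_centralizer_std.2 (Or.inr hg0)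
  have flip : ∀ x ∈ C, IsAnti ((QuotientGroup.mk g0 : PSL2) * x) ↔ ¬ IsAnti x := by
    intro x hx
    obtain ⟨g, rfl⟩ := QuotientGroup.mk_surjective x
    constructor
    · intro h hx'
      obtain ⟨hs, hh1, hhj⟩ := (isAnti_iff h2 (mul_mem hxC hx)).1 h
      obtain ⟨g', hg', hga⟩ := hx'
      rw [← hg', ← QuotientGroup.mk_mul] at hs hh1 hhj
      refine hhj (eq_std_of_commute h2 (trace_zero_of_involution h2 hs hh1) ?_)
      rw [Matrix.SpecialLinearGroup.coe_mul, mul_assoc, hga, mul_neg, ← mul_assoc, hg0, neg_mul,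
        neg_neg, mul_assoc]
    · intro hn
      rcases mem_centralizer_std.1 hx with h | h
      · refine ⟨g0 * g, rfl, ?_⟩
        rw [Matrix.SpecialLinearGroup.coe_mul, mul_assoc, h, ← mul_assoc, hg0, neg_mul, mul_assoc]
      · exact absurd ⟨g, rfl, h⟩ hn
  have e1 : Nat.card {x : C // IsAnti (x : PSL2)} = Nat.card {x : C // ¬ IsAnti (x : PSL2)} :=
    (Nat.card_congr ((Equiv.mulLeft (⟨_, hxC⟩ : C)).subtypeEquiv fun x => (flip x.1 x.2).symm)).symm
  have e2 : Nat.card {x : C // IsAnti (x : PSL2)} =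
      Nat.card {y : PSL2 // (y ^ 2 = 1 ∧ y ≠ 1 ∧ y ≠ j) ∧ y * j = j * y} :=
    Nat.card_congr
      { toFun := fun x => ⟨x.1.1, (isAnti_iff h2 x.1.2).1 x.2, Subgroup.mem_centralizer_singleton_iff.1 x.1.2⟩
        invFun := fun y => ⟨⟨y.1, Subgroup.mem_centralizer_singleton_iff.2 y.2.2⟩,
          (isAnti_iff h2 (Subgroup.mem_centralizer_singleton_iff.2 y.2.2)).2 y.2.1⟩
        left_inv := fun x => rfl
        right_inv := fun y => rfl }
  rw [← e2, two_mul]
  nth_rewrite 2 [e1]
  rw [← Nat.card_sum]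
  exact Nat.card_congr (Equiv.sumCompl _).symm

/-- Ordered pairs of distinct commuting involutions. -/
def Pairs (G : Type*) [Group G] : Type _ :=
  Σ x : {x : G // x ^ 2 = 1 ∧ x ≠ 1}, {y : G // (y ^ 2 = 1 ∧ y ≠ 1 ∧ y ≠ x.1) ∧ y * x.1 = x.1 * y}

theorem card_pairs (hodd : Fintype.card F % 2 = 1) : 2 * Nat.card (Pairs PSL2) = Nat.card PSL2 := by
  classical
  haveI : Finite PSL2 := inferInstance
  haveI := Fintype.ofFinite PSL2
  set j : PSL2 := QuotientGroup.mk (stdInvol F) with hjdef
  have hconj : ∀ x : {x : PSL2 // x ^ 2 = 1 ∧ x ≠ 1}, ∃ c : PSL2, c⁻¹ * j * c = x.1 := fun x =>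
    exists_conj_involution hodd std_sq std_ne_one x.2.1 x.2.2
  set a := Nat.card {y : PSL2 // (y ^ 2 = 1 ∧ y ≠ 1 ∧ y ≠ j) ∧ y * j = j * y} with ha
  have hfib : ∀ x : {x : PSL2 // x ^ 2 = 1 ∧ x ≠ 1},
      Nat.card {y : PSL2 // (y ^ 2 = 1 ∧ y ≠ 1 ∧ y ≠ x.1) ∧ y * x.1 = x.1 * y} = a := by
    intro x
    obtain ⟨c, hc⟩ := hconj x
    refine Nat.card_congr ((MulAut.conj c).toEquiv.subtypeEquiv fun y => ?_)
    rw [← hc]
    simp only [MulEquiv.toEquiv_eq_coe, EquivLike.coe_coe]
    have e : MulAut.conj c (c⁻¹ * j * c) = j := by simp [mul_assoc]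
    constructor
    · rintro ⟨⟨h1, h2', h3⟩, h4⟩
      refine ⟨⟨by rw [← map_pow, h1, map_one], by simpa using h2', fun h => h3 ?_⟩, ?_⟩
      · exact (MulAut.conj c).injective (h.trans e.symm)
      · rw [← e, ← map_mul, h4, map_mul]
    · rintro ⟨⟨h1, h2', h3⟩, h4⟩
      refine ⟨⟨(MulAut.conj c).injective (by rw [map_pow, h1, map_one]), by simpa using h2',
        fun h => h3 (by rw [h, e])⟩, (MulAut.conj c).injective ?_⟩
      rw [map_mul (MulAut.conj c) y _, map_mul (MulAut.conj c) _ y, e, h4]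
  let f : PSL2 → {x : PSL2 // x ^ 2 = 1 ∧ x ≠ 1} := fun c => ⟨c⁻¹ * j * c, by
    refine ⟨?_, fun h => std_ne_one (F := F) ?_⟩
    · rw [sq, show c⁻¹ * j * c * (c⁻¹ * j * c) = c⁻¹ * (j * j) * c by group, ← sq j, hjdef, std_sq]
      group
    · rw [← hjdef]
      calc j = c * (c⁻¹ * j * c) * c⁻¹ := by group
        _ = 1 := by rw [h]; group⟩
  have hG : Nat.card PSL2 =
      Nat.card {x : PSL2 // x ^ 2 = 1 ∧ x ≠ 1} * Nat.card (Subgroup.centralizer ({j} : Set PSL2)) := by
    rw [← Nat.card_congr (Equiv.sigmaFiberEquiv f), Nat.card_sigma]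
    have : ∀ x, Nat.card {c : PSL2 // f c = x} = Nat.card (Subgroup.centralizer ({j} : Set PSL2)) := by
      intro x
      obtain ⟨c0, hc0⟩ := hconj x
      refine Nat.card_congr ((Equiv.mulRight c0⁻¹).subtypeEquiv fun c => ?_)
      simp only [Equiv.coe_mulRight, f, Subtype.ext_iff, Subgroup.mem_centralizer_singleton_iff, ← hc0]
      constructor
      · intro h
        calc c * c0⁻¹ * j = c * (c0⁻¹ * j * c0) * c0⁻¹ := by group
          _ = j * (c * c0⁻¹) := by rw [← h]; group
      · intro h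
        calc c⁻¹ * j * c = c⁻¹ * (j * (c * c0⁻¹)) * c0 := by group
          _ = c0⁻¹ * j * c0 := by rw [← h]; group
    rw [Finset.sum_congr rfl fun x _ => this x, Finset.sum_const, Finset.card_univ,
      Nat.card_eq_fintype_card, smul_eq_mul]
    simp only [Nat.card_eq_fintype_card]
  have hP : Nat.card (Pairs PSL2) = Nat.card {x : PSL2 // x ^ 2 = 1 ∧ x ≠ 1} * a := by
    rw [Pairs, Nat.card_sigma]
    rw [Finset.sum_congr rfl fun x _ => hfib x, Finset.sum_const, Finset.card_univ,
      Nat.card_eq_fintype_card, smul_eq_mul]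
  rw [hG, hP, card_centralizer_std hodd]
  ring

section Klein

variable {G : Type*} [Group G]

/-- The four-group generated by two commuting involutions. -/
def fourGroup (x y : G) (hx : x ^ 2 = 1) (hy : y ^ 2 = 1) (hxy : y * x = x * y) : Subgroup G where
  carrier := {1, x, y, x * y}
  one_mem' := Or.inl rfl
  mul_mem' := by
    rw [sq] at hx hy
    have a1 : x * (x * y) = y := by rw [← mul_assoc, hx, one_mul]
    have a2 : y * (x * y) = x := by rw [← mul_assoc, hxy, mul_assoc, hy, mul_one]
    have a3 : x * y * x = y := by rw [← hxy, mul_assoc, hx, mul_one]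
    have a4 : x * y * y = x := by rw [mul_assoc, hy, mul_one]
    have a5 : x * y * (x * y) = 1 := by rw [← mul_assoc, a3, hy]
    intro a b ha hb
    simp only [Set.mem_insert_iff, Set.mem_singleton_iff] at ha hb ⊢
    rcases ha with rfl | rfl | rfl | rfl <;> rcases hb with rfl | rfl | rfl | rfl <;>
      simp [hx, hy, hxy, a1, a2, a3, a4, a5]
  inv_mem' := by
    rw [sq] at hx hy
    intro a ha
    simp only [Set.mem_insert_iff, Set.mem_singleton_iff] at ha ⊢
    have e1 : x⁻¹ = x := inv_eq_of_mul_eq_one_right hx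
    have e2 : y⁻¹ = y := inv_eq_of_mul_eq_one_right hy
    rcases ha with rfl | rfl | rfl | rfl <;> simp [e1, e2, hxy]

theorem isKleinFour_fourGroup {x y : G} (hx : x ^ 2 = 1) (hy : y ^ 2 = 1) (hxy : y * x = x * y)
    (hx1 : x ≠ 1) (hy1 : y ≠ 1) (hne : y ≠ x) : IsKleinFour (fourGroup x y hx hy hxy) := by
  classical
  have hsq : ∀ v : fourGroup x y hx hy hxy, v * v = 1 := by
    rintro ⟨v, hv⟩
    refine Subtype.ext ?_
    show v * v = 1
    rw [sq] at hx hy
    rcases hv with rfl | rfl | rfl | rfl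
    · exact mul_one 1
    · exact hx
    · exact hy
    · rw [mul_assoc, ← mul_assoc y x y, hxy, mul_assoc x y y, hy, mul_one, hx]
  have h3 : x * y ≠ 1 := fun h => hne (by rw [← mul_right_inj x, h, ← sq, hx])
  have h4 : x * y ≠ x := fun h => hy1 (mul_left_cancel (h.trans (mul_one x).symm))
  have h5 : x * y ≠ y := fun h => hx1 (mul_right_cancel (h.trans (one_mul y).symm))
  have hcard : Nat.card (fourGroup x y hx hy hxy) = 4 := by
    show Nat.card ({1, x, y, x * y} : Set G) = 4
    rw [Nat.card_coe_set_eq, Set.ncard_eq_toFinset_card']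
    simp [hx1.symm, hy1.symm, h3.symm, hne.symm, h4.symm, h5.symm]
  refine ⟨hcard, ?_⟩
  have hd : Monoid.exponent (fourGroup x y hx hy hxy) ∣ 2 :=
    Monoid.exponent_dvd_of_forall_pow_eq_one fun v => by rw [sq]; exact hsq v
  rcases (Nat.dvd_prime Nat.prime_two).1 hd with h | h
  · exfalso
    have := Monoid.exp_eq_one_iff.1 h
    rw [Nat.card_eq_one_iff_unique.2 ⟨this, ⟨1⟩⟩] at hcard
    norm_num at hcard
  · exact h

theorem klein_le {V W : Subgroup G} [IsKleinFour V] [IsKleinFour W] {x y : G} (hx1 : x ≠ 1) (hy1 : y ≠ 1)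
    (hne : x ≠ y) (hxV : x ∈ V) (hyV : y ∈ V) (hxW : x ∈ W) (hyW : y ∈ W) : V ≤ W := by
  intro v hv
  by_cases h1 : v = 1
  · rw [h1]; exact one_mem _
  by_cases hvx : v = x
  · rw [hvx]; exact hxW
  by_cases hvy : v = y
  · rw [hvy]; exact hyW
  have := IsKleinFour.eq_mul_of_ne_all (G := V) (x := ⟨x, hxV⟩) (y := ⟨y, hyV⟩) (z := ⟨v, hv⟩)
    (by simpa [Subtype.ext_iff] using hx1) (by simpa [Subtype.ext_iff] using hy1) (by simpa using hne)
    (by simpa [Subtype.ext_iff] using h1) (by simpa using hvx) (by simpa using hvy)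
  rw [show v = x * y from congrArg Subtype.val this]
  exact mul_mem hxW hyW

theorem card_pairs_eq [Finite G] :
    Nat.card (Pairs G) = 6 * Nat.card {V : Subgroup G // IsKleinFour V} := by
  classical
  haveI := Fintype.ofFinite G
  haveI := Fintype.ofFinite (Subgroup G)
  let S := Σ V : {V : Subgroup G // IsKleinFour V}, Σ x : {x : V.1 // x ≠ 1}, {y : V.1 // y ≠ 1 ∧ y ≠ x.1}
  have hS : Nat.card S = 6 * Nat.card {V : Subgroup G // IsKleinFour V} := by
    rw [Nat.card_sigma, Finset.sum_const_nat (m := 6)]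
    · rw [Finset.card_univ, ← Nat.card_eq_fintype_card, mul_comm]
    intro V _
    haveI := V.2
    have h4 : Fintype.card V.1 = 4 := IsKleinFour.card_four'
    rw [Nat.card_sigma, Finset.sum_const_nat (m := 2)]
    · rw [Finset.card_univ, Fintype.card_subtype_compl, Fintype.card_subtype_eq, h4]
    intro x _
    rw [Nat.card_eq_fintype_card, Fintype.card_subtype,
      show Finset.univ.filter (fun y : V.1 => y ≠ 1 ∧ y ≠ x.1) = (Finset.univ.erase 1).erase x.1 by
        ext y; simp [and_comm],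
      Finset.card_erase_of_mem (Finset.mem_erase.2 ⟨x.2, Finset.mem_univ _⟩),
      Finset.card_erase_of_mem (Finset.mem_univ _), Finset.card_univ, h4]
  rw [← hS]
  have ksq : ∀ (V : Subgroup G) [IsKleinFour V] (v : V), (v : G) ^ 2 = 1 := fun V _ v => by
    rw [sq]; exact congrArg Subtype.val (IsKleinFour.mul_self v)
  let φ : S → Pairs G := fun s =>
    haveI := s.1.2
    ⟨⟨(s.2.1.1 : G), ksq _ s.2.1.1, fun h => s.2.1.2 (Subtype.ext h)⟩,
      ⟨(s.2.2.1 : G), ⟨ksq _ s.2.2.1, fun h => s.2.2.2.1 (Subtype.ext h), fun h => s.2.2.2.2 (Subtype.ext h)⟩,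
        congrArg Subtype.val ((IsKleinFour.isMulCommutative (G := s.1.1)).is_comm.comm s.2.2.1 s.2.1.1)⟩⟩
  refine (Nat.card_congr (Equiv.ofBijective φ ⟨?_, ?_⟩)).symm
  · rintro ⟨⟨V, hV⟩, ⟨⟨x, hxV⟩, hx⟩, ⟨⟨y, hyV⟩, hy⟩⟩ ⟨⟨W, hW⟩, ⟨⟨x', hxW⟩, hx'⟩, ⟨⟨y', hyW⟩, hy'⟩⟩ h
    have e1 : x = x' := congrArg (fun p : Pairs G => (p.1.1 : G)) h
    have e2 : y = y' := congrArg (fun p : Pairs G => (p.2.1 : G)) h
    subst e1 e2
    have hx1 : x ≠ 1 := fun h => hx (Subtype.ext h)
    have hy1 : y ≠ 1 := fun h => hy.1 (Subtype.ext h)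
    have hne : x ≠ y := fun h => hy.2 (Subtype.ext h.symm)
    obtain rfl : V = W := le_antisymm (klein_le hx1 hy1 hne hxV hyV hxW hyW)
      (klein_le hx1 hy1 hne hxW hyW hxV hyV)
    rfl
  · rintro ⟨⟨x, hx, hx1⟩, y, ⟨hy, hy1, hne⟩, hxy⟩
    exact ⟨⟨⟨fourGroup x y hx hy hxy, isKleinFour_fourGroup hx hy hxy hx1 hy1 hne⟩,
      ⟨⟨x, Or.inr (Or.inl rfl)⟩, fun h => hx1 (congrArg Subtype.val h)⟩,
      ⟨⟨y, Or.inr (Or.inr (Or.inl rfl))⟩, fun h => hy1 (congrArg Subtype.val h),
        fun h => hne (congrArg Subtype.val h)⟩⟩, rfl⟩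

end Klein

theorem card_klein (hodd : Fintype.card F % 2 = 1) :
    12 * Nat.card {V : Subgroup PSL2 // IsKleinFour V} = Nat.card PSL2 := by
  rw [← card_pairs hodd, card_pairs_eq]
  ring

/-- The cycling element: the lift `(1 + a + b + ab) / 2`. -/
theorem exists_cycle (h2 : (2 : F) ≠ 0) {a b : SL2} (ha : a 0 0 + a 1 1 = 0) (hb : b 0 0 + b 1 1 = 0)
    (hab : (b : M2) * (a : M2) = -((a : M2) * (b : M2))) :
    ∃ h : SL2, h * a = b * h ∧ h * b = a * b * h := by
  set A : M2 := a.1 with hA
  set B : M2 := b.1 with hB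
  have hAA : A * A = -1 := mul_self_of_trace ha
  have hBB : B * B = -1 := mul_self_of_trace hb
  have hAA' : ∀ X : M2, A * (A * X) = -X := fun X => by rw [← mul_assoc, hAA, neg_one_mul]
  have hBB' : ∀ X : M2, B * (B * X) = -X := fun X => by rw [← mul_assoc, hBB, neg_one_mul]
  have hab' : ∀ X : M2, B * (A * X) = -(A * (B * X)) := fun X => by
    rw [← mul_assoc, hab, neg_mul, mul_assoc]
  set N : M2 := A + B + A * B with hN
  have hN2 : N * N = -(3 : F) • (1 : M2) := by
    simp only [hN, mul_add, add_mul, mul_assoc, hAA, hBB, hab, hAA', hBB', hab', mul_neg, neg_mul, neg_neg,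
      mul_one, one_mul]
    module
  have hNt : N 0 0 + N 1 1 = 0 := by
    have e := congrFun (congrFun hab 0) 0
    have e' := congrFun (congrFun hab 1) 1
    simp [Matrix.mul_apply, Fin.sum_univ_two] at e e'
    simp [hN, Matrix.mul_apply, Fin.sum_univ_two]
    exact mul_left_cancel₀ h2 (by linear_combination (2 : F) * ha + (2 : F) * hb + e + e')
  have hNd : N.det = 3 := by
    have h := cayley N
    rw [hN2, hNt, zero_smul, zero_sub, ← neg_smul] at h
    have := congrFun (congrFun h 0) 0
    simp at this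
    exact this.symm
  have hHd : ((2 : F)⁻¹ • (1 + N)).det = 1 := by
    rw [Matrix.det_fin_two] at hNd ⊢
    simp
    field_simp
    linear_combination hNd + hNt
  refine ⟨⟨_, hHd⟩, Subtype.ext ?_, Subtype.ext ?_⟩
  · show (2 : F)⁻¹ • (1 + N) * A = B * ((2 : F)⁻¹ • (1 + N))
    rw [smul_mul_assoc, mul_smul_comm]
    congr 1
    simp only [hN, mul_add, add_mul, mul_assoc, hAA, hBB, hab, hAA', hBB', hab', mul_neg, neg_mul, neg_neg,
      mul_one, one_mul]
    abel
  · show (2 : F)⁻¹ • (1 + N) * B = A * B * ((2 : F)⁻¹ • (1 + N))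
    rw [smul_mul_assoc, mul_smul_comm]
    congr 1
    simp only [hN, mul_add, add_mul, mul_assoc, hAA, hBB, hab, hAA', hBB', hab', mul_neg, neg_mul, neg_neg,
      mul_one, one_mul]
    abel

/-- A four-group is self-centralising. -/
theorem centralizer_klein (hodd : Fintype.card F % 2 = 1) (V : Subgroup PSL2) [IsKleinFour V] :
    Subgroup.centralizer (V : Set PSL2) ≤ V := by
  classical
  have h2 := two_ne_zero_of_odd (F := F) hodd
  intro z hz
  haveI : Finite V := IsKleinFour.instFinite
  haveI := Fintype.ofFinite V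
  obtain ⟨x, hx⟩ := Fintype.exists_ne_of_one_lt_card (by rw [IsKleinFour.card_four']; norm_num) (1 : V)
  have hxsq : (x : PSL2) ^ 2 = 1 := by rw [sq]; exact congrArg Subtype.val (IsKleinFour.mul_self x)
  obtain ⟨c, hc⟩ := exists_conj_stdInvol hodd hxsq (fun h => hx (Subtype.ext h))
  set j : PSL2 := QuotientGroup.mk (stdInvol F) with hj
  -- move to the standard involution
  let κ : PSL2 →* PSL2 := (MulAut.conj c⁻¹).toMonoidHom
  have hκ : ∀ v, κ v = c⁻¹ * v * c := fun v => by simp [κ]
  have hinj : Function.Injective κ := (MulAut.conj c⁻¹).injective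
  have hκC : ∀ v ∈ V, Commute (κ z) (κ v) := fun v hv =>
    ((show Commute v z from (Subgroup.mem_centralizer_iff.1 hz) v hv).symm).map κ
  have hjx : κ (x : PSL2) = j := by rw [hκ]; exact hc
  obtain ⟨y, hy⟩ : ∃ y : V, y ≠ 1 ∧ y ≠ x := by
    by_contra hcon
    push Not at hcon
    have hsub : (Finset.univ : Finset V) ⊆ {1, x} := fun y _ => by
      rcases eq_or_ne y 1 with h | h
      · simp [h]
      · simp [hcon y h]
    have := Finset.card_le_card hsub
    rw [Finset.card_univ, IsKleinFour.card_four'] at this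
    exact absurd (this.trans Finset.card_le_two) (by norm_num)
  have hyC : κ (y : PSL2) ∈ Subgroup.centralizer ({j} : Set PSL2) := by
    rw [Subgroup.mem_centralizer_singleton_iff, ← hjx]
    exact ((show Commute (y : PSL2) (x : PSL2) from
      congrArg Subtype.val ((IsKleinFour.isMulCommutative (G := V)).is_comm.comm y x)).map κ)
  have hy1 : κ (y : PSL2) ≠ 1 := fun h => hy.1 (Subtype.ext (hinj (h.trans (map_one κ).symm)))
  have hyj : κ (y : PSL2) ≠ j := fun h => hy.2 (Subtype.ext (hinj (h.trans hjx.symm)))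
  have hy2 : κ (y : PSL2) ^ 2 = 1 := by
    rw [← map_pow, sq, show (y : PSL2) * (y : PSL2) = 1 from congrArg Subtype.val (IsKleinFour.mul_self y),
      map_one]
  obtain ⟨gy, hgy, hgya⟩ := (isAnti_iff h2 hyC).2 ⟨hy2, hy1, hyj⟩
  have hzC : κ z ∈ Subgroup.centralizer ({j} : Set PSL2) := by
    rw [Subgroup.mem_centralizer_singleton_iff, ← hjx]; exact hκC _ x.2
  -- reduce to a commuting lift
  suffices key : ∀ r : SL2, (r : M2) * ((stdInvol F : SL2) : M2) = ((stdInvol F : SL2) : M2) * (r : M2) →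
      Commute (QuotientGroup.mk r : PSL2) (κ y) → QuotientGroup.mk r = (1 : PSL2) ∨ QuotientGroup.mk r = j by
    obtain ⟨g, hg⟩ := QuotientGroup.mk_surjective (κ z)
    rw [← hg] at hzC
    rcases mem_centralizer_std.1 hzC with h | h
    · rcases key g h (hg ▸ hκC _ y.2) with h' | h'
      · rw [hg, ← map_one κ] at h'; rw [hinj h']; exact one_mem _
      · rw [hg, ← hjx] at h'; rw [hinj h']; exact x.2
    · have h' : ((gy * g : SL2) : M2) * ((stdInvol F : SL2) : M2) = ((stdInvol F : SL2) : M2) * ((gy * g : SL2) : M2) := by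
        rw [Matrix.SpecialLinearGroup.coe_mul, mul_assoc, h, mul_neg, ← mul_assoc, hgya, neg_mul, neg_neg,
          mul_assoc]
      have hh := key (gy * g) h' (by
        rw [QuotientGroup.mk_mul, hgy, hg]
        exact (Commute.refl _).mul_left (hκC _ y.2))
      rw [QuotientGroup.mk_mul, hgy, hg, ← map_mul] at hh
      rcases hh with h' | h'
      · rw [← map_one κ] at h'
        rw [show z = (y : PSL2)⁻¹ from eq_inv_of_mul_eq_one_right (hinj h')]
        exact inv_mem y.2
      · rw [← hjx] at h'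
        rw [show z = (y : PSL2)⁻¹ * (x : PSL2) by rw [← hinj h', inv_mul_cancel_left]]
        exact mul_mem (inv_mem y.2) x.2
  intro r hr hry
  rw [← hgy] at hry
  have hq : (QuotientGroup.mk (r * gy) : PSL2) = QuotientGroup.mk (gy * r) := hry
  rw [mk_eq_iff, Matrix.SpecialLinearGroup.coe_mul, Matrix.SpecialLinearGroup.coe_mul] at hq
  -- `r = [[p, -s], [s, p]]` commutes or anticommutes with `gy`
  have e1 := congrFun (congrFun hr 0) 0
  have e2 := congrFun (congrFun hr 0) 1
  have a1 := congrFun (congrFun hgya 0) 0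
  have a2 := congrFun (congrFun hgya 0) 1
  simp [stdInvol, Matrix.mul_apply, Matrix.vecMul, dotProduct, Fin.sum_univ_two] at e1 e2 a1 a2
  have hd := r.2
  have hdy := gy.2
  rw [Matrix.det_fin_two] at hd hdy
  rcases hq with hq | hq
  · have f1 := congrFun (congrFun hq 0) 0
    have f2 := congrFun (congrFun hq 0) 1
    simp [Matrix.mul_apply, Fin.sum_univ_two] at f1 f2
    have hs : r 1 0 = 0 := by
      have g1 : r 1 0 * gy 1 0 = 0 := mul_left_cancel₀ h2 (by linear_combination f1 + (gy 1 0) * e1 - (r 1 0) * a1)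
      have g2 : r 1 0 * gy 0 0 = 0 := mul_left_cancel₀ h2 (by
        linear_combination -f2 + (2 * gy 0 0) * e1 - (gy 0 1) * e2 + (r 0 1) * a2)
      rcases mul_eq_zero.1 g1 with h | h
      · exact h
      rcases mul_eq_zero.1 g2 with h' | h'
      · exact h'
      · exfalso
        rw [h, h'] at hdy
        simp at hdy
    left
    rw [show (1 : PSL2) = QuotientGroup.mk (1 : SL2) from rfl, mk_eq_iff]
    have h01 : r 0 1 = 0 := by linear_combination e1 - hs
    have h11 : r 1 1 = r 0 0 := by linear_combination -e2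
    have hp : r 0 0 ^ 2 = 1 := by linear_combination hd - (r 0 0) * h11 + (r 0 1) * hs
    rcases sq_eq_one_iff.1 hp with h | h
    · left; ext i j; fin_cases i <;> fin_cases j <;> simp [hs, h01, h11, h]
    · right; ext i j; fin_cases i <;> fin_cases j <;> simp [hs, h01, h11, h]
  · right
    have f1 := congrFun (congrFun hq 0) 0
    have f2 := congrFun (congrFun hq 0) 1
    simp [Matrix.mul_apply, Fin.sum_univ_two] at f1 f2
    have g1 : r 0 0 * gy 0 0 = 0 := mul_left_cancel₀ h2 (by
      linear_combination f1 - (gy 1 0) * e1 - (r 1 0) * a1)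
    have g2 : r 0 0 * gy 0 1 = 0 := mul_left_cancel₀ h2 (by
      linear_combination f2 + (gy 0 1) * e2 + (r 0 1) * a2)
    have hp : r 0 0 = 0 := by
      rcases mul_eq_zero.1 g1 with h | h
      · exact h
      rcases mul_eq_zero.1 g2 with h' | h'
      · exact h'
      · exfalso
        rw [h, h'] at hdy
        simp at hdy
    exact eq_std_of_commute h2 (by linear_combination -e2 + (2 : F) * hp) hr

open scoped Classical in
/-- The normaliser of a four-group: order dividing 24, divisible by 3. -/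
theorem card_normalizer_klein (hodd : Fintype.card F % 2 = 1) (V : Subgroup PSL2) [IsKleinFour V] :
    Nat.card (Subgroup.normalizer (V : Set PSL2)) ∣ 24 ∧
      3 ∣ Nat.card (Subgroup.normalizer (V : Set PSL2)) := by
  have h2 := two_ne_zero_of_odd (F := F) hodd
  haveI : Finite V := IsKleinFour.instFinite
  haveI := Fintype.ofFinite V
  set N := Subgroup.normalizer (V : Set PSL2) with hN
  let φ : N →* MulAut V := V.normalizerMonoidHom
  let Sb := {v : V // v ≠ 1}
  let ψ : MulAut V →* Equiv.Perm Sb :=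
    { toFun := fun f => f.toEquiv.subtypeEquiv fun v => by simp
      map_one' := by ext v; rfl
      map_mul' := fun f g => by ext v; rfl }
  have hψ : Function.Injective ψ := by
    intro f g h
    ext v
    by_cases hv : v = 1
    · simp [hv]
    · exact congrArg (fun e : Equiv.Perm Sb => ((e ⟨v, hv⟩).1 : PSL2)) h
  have hker : (ψ.comp φ).ker = V.subgroupOf N := by
    have e : (ψ.comp φ).ker = φ.ker := Subgroup.ext fun n => hψ.eq_iff' (map_one ψ)
    rw [e, Subgroup.normalizerMonoidHom_ker]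
    have hVC : V ≤ Subgroup.centralizer (V : Set PSL2) := fun v hv =>
      Subgroup.mem_centralizer_iff.2 fun w hw => congrArg Subtype.val
        ((IsKleinFour.isMulCommutative (G := V)).is_comm.comm ⟨w, hw⟩ ⟨v, hv⟩)
    rw [le_antisymm (centralizer_klein hodd V) hVC]
  have hkc : Nat.card (ψ.comp φ).ker = 4 := by
    rw [hker, Nat.card_congr (Subgroup.subgroupOfEquivOfLe Subgroup.le_normalizer).toEquiv,
      IsKleinFour.card_four]
  have hmi := (ψ.comp φ).ker.card_mul_index
  rw [hkc, Subgroup.index_ker] at hmi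
  have hP : Nat.card (Equiv.Perm Sb) = 6 := by
    rw [Nat.card_perm, Nat.card_eq_fintype_card, Fintype.card_subtype_compl, Fintype.card_subtype_eq,
      IsKleinFour.card_four']
    rfl
  refine ⟨?_, ?_⟩
  · rw [← hmi, show 24 = 4 * 6 from rfl]
    exact mul_dvd_mul_left 4 (hP ▸ Subgroup.card_subgroup_dvd_card _)
  · -- the element cycling the three involutions
    obtain ⟨x, hx⟩ := Fintype.exists_ne_of_one_lt_card (by rw [IsKleinFour.card_four']; norm_num) (1 : V)
    obtain ⟨y, hy1, hyx⟩ : ∃ y : V, y ≠ 1 ∧ y ≠ x := by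
      by_contra hcon
      push Not at hcon
      have hsub : (Finset.univ : Finset V) ⊆ {1, x} := fun y _ => by
        rcases eq_or_ne y 1 with h | h
        · simp [h]
        · simp [hcon y h]
      have := Finset.card_le_card hsub
      rw [Finset.card_univ, IsKleinFour.card_four'] at this
      exact absurd (this.trans Finset.card_le_two) (by norm_num)
    obtain ⟨a, ha⟩ := QuotientGroup.mk_surjective (x : PSL2)
    obtain ⟨b, hb⟩ := QuotientGroup.mk_surjective (y : PSL2)
    have hta : a 0 0 + a 1 1 = 0 := trace_zero_of_involution h2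
      (by rw [ha, sq]; exact congrArg Subtype.val (IsKleinFour.mul_self x))
      (by rw [ha]; exact fun h => hx (Subtype.ext h))
    have htb : b 0 0 + b 1 1 = 0 := trace_zero_of_involution h2
      (by rw [hb, sq]; exact congrArg Subtype.val (IsKleinFour.mul_self y))
      (by rw [hb]; exact fun h => hy1 (Subtype.ext h))
    have hab := anticommute h2 hta htb
      (by rw [ha, hb]; exact congrArg Subtype.val ((IsKleinFour.isMulCommutative (G := V)).is_comm.comm x y))
      (by rw [ha, hb]; exact fun h => hyx (Subtype.ext h.symm))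
    obtain ⟨h, h1, h3⟩ := exists_cycle h2 hta htb hab
    set k : PSL2 := QuotientGroup.mk h with hk
    have k1 : k * x * k⁻¹ = (y : PSL2) := by
      rw [← ha, ← hb, hk, ← QuotientGroup.mk_mul, h1, QuotientGroup.mk_mul, mul_inv_cancel_right]
    have k2 : k * y * k⁻¹ = (x : PSL2) * y := by
      rw [← ha, ← hb, hk, ← QuotientGroup.mk_mul, h3, QuotientGroup.mk_mul, QuotientGroup.mk_mul,
        mul_inv_cancel_right]
    have k3 : k * ((x : PSL2) * y) * k⁻¹ = x := by
      calc k * ((x : PSL2) * y) * k⁻¹ = (k * x * k⁻¹) * (k * y * k⁻¹) := by group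
        _ = x := by
          rw [k1, k2, ← mul_assoc, show (y : PSL2) * x = x * y from congrArg Subtype.val
            ((IsKleinFour.isMulCommutative (G := V)).is_comm.comm y x), mul_assoc,
            show (y : PSL2) * y = 1 from congrArg Subtype.val (IsKleinFour.mul_self y), mul_one]
    have hmaps : ∀ v ∈ V, k * v * k⁻¹ ∈ V := by
      intro v hv
      by_cases hv1 : (⟨v, hv⟩ : V) = 1
      · have : v = 1 := congrArg Subtype.val hv1
        simp [this]
      by_cases hvx : (⟨v, hv⟩ : V) = x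
      · rw [show v = (x : PSL2) from congrArg Subtype.val hvx, k1]; exact y.2
      by_cases hvy : (⟨v, hv⟩ : V) = y
      · rw [show v = (y : PSL2) from congrArg Subtype.val hvy, k2]; exact mul_mem x.2 y.2
      have := IsKleinFour.eq_mul_of_ne_all hx hy1 (Ne.symm hyx) hv1 hvx hvy
      rw [show v = (x : PSL2) * y from congrArg Subtype.val this, k3]
      exact x.2
    have hkN : k ∈ N := by
      rw [hN, Subgroup.mem_normalizer_iff]
      intro v
      refine ⟨hmaps v, fun hv => ?_⟩
      -- a bijection of a finite set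
      have hinj : Function.Injective (fun w : V => (⟨k * w * k⁻¹, hmaps w w.2⟩ : V)) := fun w w' e =>
        Subtype.ext (mul_left_cancel (mul_right_cancel (congrArg Subtype.val e)))
      obtain ⟨w, hw⟩ := (Finite.injective_iff_surjective.1 hinj) ⟨_, hv⟩
      have : (w : PSL2) = v := mul_left_cancel (mul_right_cancel (congrArg Subtype.val hw))
      exact this ▸ w.2
    set e := (ψ.comp φ) ⟨k, hkN⟩ with he
    have hval : ∀ v : Sb, ((e v).1 : PSL2) = k * v.1 * k⁻¹ := fun v => rfl
    have he1 : e ≠ 1 := fun h => by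
      have := hval ⟨x, hx⟩
      rw [h] at this
      exact hyx (Subtype.ext ((this.trans k1).symm))
    have he3 : e ^ 3 = 1 := by
      have hstep : ∀ v : Sb, (((e ^ 3) v).1 : PSL2) = k * (k * (k * v.1 * k⁻¹) * k⁻¹) * k⁻¹ := fun v => by
        rw [pow_succ, sq, Equiv.Perm.mul_apply, Equiv.Perm.mul_apply, hval, hval, hval]
      refine Equiv.ext fun v => Subtype.ext (Subtype.ext ?_)
      rw [hstep]
      rcases v with ⟨v, hv1⟩
      show k * (k * (k * (v : PSL2) * k⁻¹) * k⁻¹) * k⁻¹ = v
      by_cases hvx : v = x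
      · rw [hvx, k1, k2, k3]
      by_cases hvy : v = y
      · rw [hvy, k2, k3, k1]
      rw [IsKleinFour.eq_mul_of_ne_all hx hy1 (Ne.symm hyx) hv1 hvx hvy, Subgroup.coe_mul, k3, k1, k2]
    have h3d : 3 ∣ Nat.card (ψ.comp φ).range := by
      have := orderOf_dvd_natCard (⟨e, ⟨⟨k, hkN⟩, rfl⟩⟩ : (ψ.comp φ).range)
      rwa [← Subgroup.orderOf_coe, orderOf_eq_prime he3 he1] at this
    rw [← hmi]
    exact dvd_mul_of_dvd_right h3d _

end Cfsg.Lib.Dickson.KleinClasses
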