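import Cfsg.Agent.Lib.Dickson.Targets
import Cfsg.Agent.Lib.Invol.Basic

/-!
# Dihedral maximal subgroups of `PSL(2, q)`
-/

set_option autoImplicit false
set_option linter.unusedSectionVars false

open Matrix
open scoped MatrixGroups

namespace Cfsg.Lib.Dickson

variable {F : Type*} [Field F] [Fintype F]

/-- Cayley-Hamilton bounds element orders in `PGL(2)`. -/
theorem orderOf_le_card_add_one {L : Type*} [Field L] [Fintype L]
    (y : Matrix.ProjGenLinGroup (Fin 2) L) : orderOf y ≤ Fintype.card L + 1 := by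
  classical
  induction y using Matrix.ProjGenLinGroup.induction_on with | mk g => ?_
  set M : Matrix (Fin 2) (Fin 2) L := (g : Matrix (Fin 2) (Fin 2) L) with hM
  have hsq : M * M = M.trace • M - M.det • 1 := by
    ext i j
    fin_cases i <;> fin_cases j <;>
      simp [Matrix.mul_apply, Fin.sum_univ_two, Matrix.trace_fin_two, Matrix.det_fin_two] <;> ring
  have hspan : ∀ i : ℕ, ∃ a b : L, M ^ i = a • M + b • 1 := by
    intro i
    induction i with
    | zero => exact ⟨0, 1, by simp⟩
    | succ i ih =>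
      obtain ⟨a, b, h⟩ := ih
      refine ⟨a * M.trace + b, -(a * M.det), ?_⟩
      rw [pow_succ, h, add_mul, smul_mul_assoc, smul_mul_assoc, one_mul, hsq, smul_sub, smul_smul, smul_smul,
        neg_smul, add_smul]
      abel
  choose a b hab using hspan
  have hne : ∀ i, a i = 0 → b i ≠ 0 := by
    intro i ha hb
    have h : (M ^ i).det = 0 := by rw [hab i, ha, hb, zero_smul, zero_smul, add_zero, Matrix.det_zero]
    rw [Matrix.det_pow] at h
    exact ((g.isUnit.map (Matrix.detMonoidHom)).pow i).ne_zero h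
  have key : ∀ i j : ℕ, ∀ c : L, M ^ i = c • M ^ j →
      (ProjGenLinGroup.mk g) ^ i = (ProjGenLinGroup.mk g) ^ j := by
    intro i j c h
    have hc : c ≠ 0 := by
      rintro rfl
      rw [zero_smul] at h
      exact (g.isUnit.pow i).ne_zero h
    rw [← map_pow, ← map_pow]
    symm
    rw [ProjGenLinGroup.mk_eq_mk_iff]
    refine ⟨Units.mk0 c hc, Units.ext ?_⟩
    simp [hM] at h ⊢
    rw [← Matrix.smul_one_eq_diagonal, mul_smul_comm, mul_one]
    exact h.symm
  let f : Fin (orderOf (ProjGenLinGroup.mk g)) → OnePoint L :=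
    fun i => if a i = 0 then OnePoint.infty else ((b i / a i : L) : OnePoint L)
  have hf : Function.Injective f := by
    intro i j h
    apply Fin.ext
    refine pow_injOn_Iio_orderOf (x := ProjGenLinGroup.mk g) (Set.mem_Iio.mpr i.2) (Set.mem_Iio.mpr j.2) ?_
    by_cases hi : a i = 0
    · by_cases hj : a j = 0
      · refine key _ _ (b i / b j) ?_
        rw [hab, hab, hi, hj, zero_smul, zero_add, zero_add, smul_smul, div_mul_cancel₀ _ (hne _ hj)]
      · simp only [f, if_pos hi, if_neg hj] at h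
        exact absurd h (OnePoint.infty_ne_coe _)
    · by_cases hj : a j = 0
      · simp only [f, if_neg hi, if_pos hj] at h
        exact absurd h (OnePoint.coe_ne_infty _)
      · simp only [f, if_neg hi, if_neg hj, OnePoint.coe_eq_coe] at h
        refine key _ _ (a i / a j) ?_
        rw [hab, hab, smul_add, smul_smul, smul_smul, div_mul_cancel₀ _ hj]
        congr 2
        rw [div_eq_div_iff hi hj] at h
        rw [div_mul_eq_mul_div, eq_div_iff hj]
        linear_combination h
  have := Nat.card_le_card_of_injective f hf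
  rw [Nat.card_fin, Nat.card_eq_fintype_card] at this
  exact this.trans_eq Fintype.card_option

local notation "SL2" => Matrix.SpecialLinearGroup (Fin 2) F
local notation "PSL2" => Matrix.ProjectiveSpecialLinearGroup (Fin 2) F

theorem mem_center_of_eq_scalar {A : SL2} {c : F} (hc : c ^ 2 = 1)
    (h : (A : Matrix (Fin 2) (Fin 2) F) = !![c, 0; 0, c]) : A ∈ Subgroup.center SL2 := by
  rw [Matrix.SpecialLinearGroup.mem_center_iff]
  refine ⟨c, by simpa using hc, ?_⟩
  rw [h]
  ext i j
  fin_cases i <;> fin_cases j <;> simp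

theorem mk_sq_eq_one_of_trace {A : SL2} (h : A 0 0 + A 1 1 = 0) :
    (QuotientGroup.mk A : PSL2) * QuotientGroup.mk A = 1 := by
  rw [← QuotientGroup.mk_mul, QuotientGroup.eq_one_iff]
  have hd := A.2
  rw [Matrix.det_fin_two] at hd
  refine mem_center_of_eq_scalar (c := -1) (by norm_num) ?_
  ext i j
  fin_cases i <;> fin_cases j <;> simp [Matrix.mul_apply, Fin.sum_univ_two]
  · linear_combination A 0 0 * h - hd
  · linear_combination A 0 1 * h
  · linear_combination A 1 0 * h
  · linear_combination A 1 1 * h - hd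

/-- Every element is either inverted by an involution or has order dividing the characteristic. -/
theorem exists_inverting (p : ℕ) [Fact p.Prime] [CharP F p] (g : SL2)
    (hg : (QuotientGroup.mk g : PSL2) ^ p ≠ 1) :
    ∃ w : PSL2, w * w = 1 ∧ w * QuotientGroup.mk g * w⁻¹ = (QuotientGroup.mk g : PSL2)⁻¹ := by
  have hd := g.2
  rw [Matrix.det_fin_two] at hd
  suffices hs : ∃ a b c : F, a ^ 2 + b * c = -1 ∧ a * (g 0 0 - g 1 1) + b * g 1 0 + c * g 0 1 = 0 by
    obtain ⟨a, b, c, h1, h2⟩ := hs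
    let s : SL2 := ⟨!![a, b; c, -a], by rw [Matrix.det_fin_two_of]; linear_combination -h1⟩
    have hw := mk_sq_eq_one_of_trace (A := s) (by simp [s])
    have hw' := mk_sq_eq_one_of_trace (A := s * g) (by
      show ((s : Matrix (Fin 2) (Fin 2) F) * g) 0 0 + ((s : Matrix (Fin 2) (Fin 2) F) * g) 1 1 = 0
      simp [s, Matrix.mul_apply, Fin.sum_univ_two]; linear_combination h2)
    rw [QuotientGroup.mk_mul] at hw'
    refine ⟨_, hw, ?_⟩
    rw [inv_eq_of_mul_eq_one_left hw]
    apply eq_inv_of_mul_eq_one_left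
    rw [← hw']
    group
  by_cases h10 : g 1 0 = 0
  · by_cases h01 : g 0 1 = 0
    · exact ⟨0, 1, -1, by ring, by rw [h10, h01]; ring⟩
    · by_cases he : g 0 0 = g 1 1
      · exfalso
        refine hg ?_
        rw [← QuotientGroup.mk_pow, QuotientGroup.eq_one_iff]
        have hN : ((g : Matrix (Fin 2) (Fin 2) F) - !![g 0 0, 0; 0, g 0 0]) ^ p = 0 := by
          refine pow_eq_zero_of_le (Fact.out (p := p.Prime)).two_le ?_
          rw [sq]
          ext i j
          fin_cases i <;> fin_cases j <;> simp [Matrix.mul_apply, Fin.sum_univ_two, h10, he]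
        have hs : !![g 0 0, 0; 0, g 0 0] = Matrix.scalar (Fin 2) (g 0 0) := by
          ext i j; fin_cases i <;> fin_cases j <;> simp
        refine mem_center_of_eq_scalar (c := g 0 0 ^ p) ?_ ?_
        · rw [h10, ← he, mul_zero, sub_zero] at hd
          rw [← pow_mul, mul_comm p 2, pow_mul, sq, hd, one_pow]
        · rw [hs, sub_pow_char_of_commute _ (Matrix.scalar_commute (g 0 0) (fun r => Commute.all _ _) _).symm,
            sub_eq_zero] at hN
          rw [Matrix.SpecialLinearGroup.coe_pow, hN, ← map_pow]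
          ext i j; fin_cases i <;> fin_cases j <;> simp
      · have he' : g 0 0 - g 1 1 ≠ 0 := sub_ne_zero.mpr he
        refine ⟨1, 2 * g 0 1 / (g 0 0 - g 1 1), -(g 0 0 - g 1 1) / g 0 1, ?_, ?_⟩
        · field_simp; ring
        · rw [h10]; field_simp; ring
  · by_cases h2 : (2 : F) = 0
    · refine ⟨1, -(g 0 0 - g 1 1) / g 1 0, 0, by linear_combination h2, by field_simp; ring⟩
    · set D : F := ((g 0 0 + g 1 1) ^ 2 - 4) / (4 * g 1 0 ^ 2) with hD
      by_cases hD0 : D = 0
      · exfalso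
        refine hg ?_
        have ht : (g 0 0 + g 1 1) ^ 2 = 4 := by
          have h4 : (4 : F) * g 1 0 ^ 2 ≠ 0 := by
            rw [show (4 : F) = 2 * 2 by norm_num]
            exact mul_ne_zero (mul_ne_zero h2 h2) (pow_ne_zero _ h10)
          rw [hD, div_eq_zero_iff, or_iff_left h4] at hD0
          linear_combination hD0
        set e : F := (g 0 0 + g 1 1) / 2 with he
        have het : g 0 0 + g 1 1 = 2 * e := by rw [he]; field_simp
        have he2 : e ^ 2 = 1 := by rw [he]; field_simp; linear_combination ht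
        rw [← QuotientGroup.mk_pow, QuotientGroup.eq_one_iff]
        have hs : !![e, 0; 0, e] = Matrix.scalar (Fin 2) e := by
          ext i j; fin_cases i <;> fin_cases j <;> simp
        have hN : ((g : Matrix (Fin 2) (Fin 2) F) - !![e, 0; 0, e]) ^ p = 0 := by
          refine pow_eq_zero_of_le (Fact.out (p := p.Prime)).two_le ?_
          rw [sq]
          ext i j
          fin_cases i <;> fin_cases j <;> simp [Matrix.mul_apply, Fin.sum_univ_two]
          · linear_combination g 0 0 * het - hd + he2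
          · linear_combination g 0 1 * het
          · linear_combination g 1 0 * het
          · linear_combination g 1 1 * het - hd + he2
        refine mem_center_of_eq_scalar (c := e ^ p) ?_ ?_
        · rw [← pow_mul, mul_comm p 2, pow_mul, he2, one_pow]
        · rw [hs, sub_pow_char_of_commute _ (Matrix.scalar_commute e (fun r => Commute.all _ _) _).symm,
            sub_eq_zero] at hN
          rw [Matrix.SpecialLinearGroup.coe_pow, hN, ← map_pow]
          ext i j; fin_cases i <;> fin_cases j <;> simp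
      · have hodd : Fintype.card F % 2 = 1 := by
          refine FiniteField.odd_card_of_char_ne_two fun h => h2 ?_
          haveI : CharP F 2 := h ▸ ringChar.charP F
          exact_mod_cast CharP.cast_eq_zero F 2
        obtain ⟨y, c, hyc⟩ := FiniteField.exists_root_sum_quadratic (R := F) (f := Polynomial.X ^ 2)
          (g := Polynomial.C (-D) * Polynomial.X ^ 2 + Polynomial.C 1) (Polynomial.degree_X_pow 2)
          (by compute_degree! <;> simp [hD0]) hodd
        simp at hyc
        set a : F := y + (g 0 0 - g 1 1) * c / (2 * g 1 0) with ha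
        refine ⟨a, -(a * (g 0 0 - g 1 1) + c * g 0 1) / g 1 0, c, ?_, by field_simp; ring⟩
        have e1 : a ^ 2 + -(a * (g 0 0 - g 1 1) + c * g 0 1) / g 1 0 * c = y ^ 2 - D * c ^ 2 +
            (g 0 0 * g 1 1 - g 0 1 * g 1 0 - 1) * c ^ 2 / g 1 0 ^ 2 := by
          rw [ha, hD, show (4 : F) = 2 * 2 by norm_num]
          field_simp
          ring
        rw [e1, hd, sub_self, zero_mul, zero_div, add_zero]
        linear_combination hyc

theorem sq_mem_stdSylow (p : ℕ) [Fact p.Prime] [CharP F p] {x w : PSL2}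
    (hx : x ∈ Subgroup.normalizer (((stdSylow (F := F) p) : Subgroup PSL2) : Set PSL2))
    (hw : w ∈ Subgroup.normalizer (((stdSylow (F := F) p) : Subgroup PSL2) : Set PSL2))
    (h : w * x * w⁻¹ = x⁻¹) : x ^ 2 ∈ ((stdSylow (F := F) p) : Subgroup PSL2) := by
  rw [normalizer_stdSylow] at hx hw
  obtain ⟨A, hA, rfl⟩ := hx
  obtain ⟨B, hB, rfl⟩ := hw
  rw [SetLike.mem_coe, mem_borelSL] at hA hB
  have hz : B * A * B⁻¹ * A ∈ Subgroup.center SL2 := by
    rw [← QuotientGroup.ker_mk' (Subgroup.center SL2), MonoidHom.mem_ker, map_mul, map_mul, map_mul,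
      map_inv, h, inv_mul_cancel]
  generalize hzdef : B * A * B⁻¹ * A = z at hz
  obtain ⟨z01, z10, z11⟩ := mem_center_sl hz
  have e : B * A = z * A⁻¹ * B := by rw [← hzdef]; group
  have e0 : B 0 0 * A 0 0 = z 0 0 * A 1 1 * B 0 0 := by
    have := congrArg (fun m : SL2 => m 0 0) e
    simpa [Matrix.mul_apply, Fin.sum_univ_two, Matrix.adjugate_fin_two, hA, hB, z01,
      Matrix.SpecialLinearGroup.coe_inv] using this
  have hdB := B.2
  rw [Matrix.det_fin_two, hB, mul_zero, sub_zero] at hdB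
  have hdA := A.2
  rw [Matrix.det_fin_two, hA, mul_zero, sub_zero] at hdA
  have hdz := z.2
  rw [Matrix.det_fin_two, z01, z10, z11, mul_zero, sub_zero] at hdz
  have hA0 : A 0 0 = z 0 0 * A 1 1 :=
    mul_left_cancel₀ (left_ne_zero_of_mul_eq_one hdB) (by rw [e0]; ring)
  rw [stdSylow_coe, ← map_pow]
  refine ⟨z⁻¹ * A ^ 2, ?_, ?_⟩
  · rw [SetLike.mem_coe, Cfsg.Lib.Linear.Two.mem_UT]
    refine ⟨?_, ?_, ?_⟩ <;>
      simp [sq, Matrix.mul_apply, Fin.sum_univ_two, Matrix.adjugate_fin_two, hA, z01, z10, z11,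
        Matrix.SpecialLinearGroup.coe_inv]
    · linear_combination z 0 0 * A 0 0 * hA0 + z 0 0 ^ 2 * hdA + hdz
    · linear_combination (-A 1 1) * hA0 + hdA
  · rw [map_mul, map_inv, show QuotientGroup.mk' (Subgroup.center SL2) z = 1 from
      (QuotientGroup.eq_one_iff z).mpr hz, inv_one, one_mul]

theorem sq_mem_of_mem_normalizer (p : ℕ) [Fact p.Prime] [CharP F p] (P : Sylow p PSL2) {x w : PSL2}
    (hx : x ∈ Subgroup.normalizer ((P : Subgroup PSL2) : Set PSL2))
    (hw : w ∈ Subgroup.normalizer ((P : Subgroup PSL2) : Set PSL2))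
    (h : w * x * w⁻¹ = x⁻¹) : x ^ 2 ∈ (P : Subgroup PSL2) := by
  classical
  obtain ⟨g, rfl⟩ := MulAction.exists_smul_eq PSL2 (stdSylow (F := F) p) P
  have key : ∀ y : PSL2, y ∈ Subgroup.normalizer (((g • stdSylow (F := F) p : Sylow p PSL2) : Subgroup PSL2) : Set PSL2) →
      g⁻¹ * y * g ∈ Subgroup.normalizer (((stdSylow (F := F) p) : Subgroup PSL2) : Set PSL2) := by
    intro y hy
    refine Sylow.smul_eq_iff_mem_normalizer.mp ?_
    rw [mul_smul, mul_smul, Sylow.smul_eq_iff_mem_normalizer.mpr hy, inv_smul_smul]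
  have h2 := sq_mem_stdSylow p (key x hx) (key w hw) (by
    calc g⁻¹ * w * g * (g⁻¹ * x * g) * (g⁻¹ * w * g)⁻¹ = g⁻¹ * (w * x * w⁻¹) * g := by group
      _ = (g⁻¹ * x * g)⁻¹ := by rw [h]; group)
  rw [Sylow.coe_subgroup_smul]
  refine ⟨(g⁻¹ * x * g) ^ 2, h2, ?_⟩
  simp [sq]
  group

theorem dihedral_four_excluded : ∀ a b : alternatingGroup (Fin 4), b * a * b⁻¹ = a⁻¹ → a ^ 2 = 1 := by decide

theorem alternating_five_exponents : ∀ a : alternatingGroup (Fin 5), a ^ 2 = 1 ∨ a ^ 3 = 1 ∨ a ^ 5 = 1 := by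
  decide +kernel

/-- The dihedral subgroups of order `2 (q ± 1) / d` are maximal, with few exceptions. -/
theorem exists_maximal_dihedral (n : ℕ) (hq4 : 4 ≤ Fintype.card F) (hq9 : Fintype.card F ≠ 9)
    (hn : (n = (Fintype.card F + 1) / Nat.gcd 2 (Fintype.card F - 1) ∧ Fintype.card F ≠ 7) ∨
      (n = (Fintype.card F - 1) / Nat.gcd 2 (Fintype.card F - 1) ∧ Fintype.card F ≠ 5 ∧ Fintype.card F ≠ 7 ∧
        Fintype.card F ≠ 11)) :
    ∃ H : Subgroup PSL2, IsCoatom H ∧ Nonempty (H ≃* DihedralGroup n) := by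
  classical
  obtain ⟨p, hpp, hp, e, he0, he⟩ := exists_char (F := F)
  haveI := Fact.mk hpp
  have hG := Cfsg.Lib.Linear.Two.card_PSL_two (F := F)
  set q := Fintype.card F with hq
  have hq6 : q ≠ 6 := by
    intro h6
    have h2 := (Nat.prime_dvd_prime_iff_eq Nat.prime_two hpp).mp
      (Nat.prime_two.dvd_of_dvd_pow (n := e) (by rw [← he, h6]; norm_num))
    have h3 := (Nat.prime_dvd_prime_iff_eq Nat.prime_three hpp).mp
      (Nat.prime_three.dvd_of_dvd_pow (n := e) (by rw [← he, h6]; norm_num))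
    omega
  have hd : (q % 2 = 1 ∧ Nat.gcd 2 (q - 1) = 2) ∨ (q % 2 = 0 ∧ Nat.gcd 2 (q - 1) = 1) := by
    rcases Nat.mod_two_eq_zero_or_one q with h | h
    · exact Or.inr ⟨h, by rw [Nat.gcd_rec, show (q - 1) % 2 = 1 by omega]; rfl⟩
    · exact Or.inl ⟨h, Nat.gcd_eq_left (by omega)⟩
  have hcop : ∀ c, c ∣ n → p ∣ c → False := by
    intro c hc hpc
    have hpn := hpc.trans hc
    have hpq : p ∣ q := by rw [he]; exact dvd_pow_self p (by omega)
    have : n ∣ q + 1 ∨ n ∣ q - 1 := by
      rcases hn with ⟨h, -⟩ | ⟨h, -⟩ <;> rw [h]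
      · exact Or.inl (Nat.div_dvd_of_dvd ((Nat.dvd_add_right ((Nat.gcd_dvd_right _ _))).mp (by
          rcases hd with ⟨h', hg⟩ | ⟨h', hg⟩ <;> rw [hg]
          · omega
          · exact one_dvd _)))
      · exact Or.inr (Nat.div_dvd_of_dvd (Nat.gcd_dvd_right _ _))
    rcases this with h | h
    · exact hpp.not_dvd_one ((Nat.dvd_add_right hpq).mp (hpn.trans h))
    · have h1 := Nat.dvd_sub hpq (hpn.trans h)
      rw [show q - (q - 1) = 1 by omega] at h1
      exact hpp.not_dvd_one h1
  have hnq : (q % 2 = 1 ∧ ((2 * n = q + 1 ∧ q ≠ 7) ∨ (2 * n + 1 = q ∧ q ≠ 5 ∧ q ≠ 7 ∧ q ≠ 11))) ∨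
      (q % 2 = 0 ∧ (n = q + 1 ∨ n + 1 = q)) := by
    rcases hd with ⟨h', hg⟩ | ⟨h', hg⟩ <;> rw [hg] at hn
    · rcases hn with ⟨h, h1⟩ | ⟨h, h1⟩
      · exact Or.inl ⟨h', Or.inl ⟨by omega, h1⟩⟩
      · exact Or.inl ⟨h', Or.inr ⟨by omega, h1⟩⟩
    · rw [Nat.div_one, Nat.div_one] at hn
      exact Or.inr ⟨h', by omega⟩
  have hn3 : 3 ≤ n := by omega
  obtain ⟨x, hx⟩ : n ∈ Set.range (orderOf : PSL2 → ℕ) := by
    rw [Cfsg.Lib.Spec.psl_two_spectrum p hq4]
    rcases hn with ⟨h, -⟩ | ⟨h, -⟩
    · exact Or.inr (Or.inr (h ▸ dvd_rfl))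
    · exact Or.inr (Or.inl (h ▸ dvd_rfl))
  obtain ⟨g, rfl⟩ := QuotientGroup.mk_surjective x
  generalize hxg : (QuotientGroup.mk g : PSL2) = x at hx
  obtain ⟨w, hw, hwx⟩ := exists_inverting p g (by
    rw [hxg]
    intro h
    have hd' := orderOf_dvd_of_pow_eq_one h
    rw [hx] at hd'
    rcases (Nat.dvd_prime hpp).mp hd' with h1 | h1
    · omega
    · exact hcop p (h1 ▸ dvd_rfl) dvd_rfl)
  rw [hxg] at hwx
  have hx2 : x ^ 2 ≠ 1 := fun h => by
    have := Nat.le_of_dvd (by norm_num) (orderOf_dvd_of_pow_eq_one h)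
    omega
  have hwm : w ∉ Subgroup.zpowers x := by
    intro h
    obtain ⟨i, rfl⟩ := h
    refine hx2 ?_
    rw [sq]
    nth_rewrite 2 [show x = x ^ i * x * (x ^ i)⁻¹ by group]
    rw [hwx, mul_inv_cancel]
  obtain rfl := hx
  let φ := Cfsg.Lib.Invol.dihedralHom (orderOf x) (pow_orderOf_eq_one x) hw hwx
  have hφ : Function.Injective φ := Cfsg.Lib.Invol.dihedralHom_injective hw hwx hwm
  let e₀ : φ.range ≃* DihedralGroup (orderOf x) := (MonoidHom.ofInjective hφ).symm
  have hc₀ : Nat.card φ.range = 2 * orderOf x := by rw [Nat.card_congr e₀.toEquiv, DihedralGroup.nat_card]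
  have hxm : x ∈ φ.range := ⟨DihedralGroup.r (1 : ZMod (orderOf x)), by
    rw [Cfsg.Lib.Invol.dihedralHom_r]
    exact (zpow_eq_zpow_iff_modEq.mpr ((ZMod.intCast_eq_intCast_iff _ _ _).mp
      (by rw [ZMod.intCast_zmod_cast, Int.cast_one]))).trans (zpow_one x)⟩
  have hwmem : w ∈ φ.range := ⟨DihedralGroup.sr (0 : ZMod (orderOf x)), by
    rw [Cfsg.Lib.Invol.dihedralHom_sr, ZMod.cast_zero, zpow_zero, mul_one]⟩
  have hfull : ∀ H : Subgroup PSL2, Nat.card H = 60 → (q = 4 ∨ q = 5) → H = ⊤ := by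
    intro H hc hq'
    refine Subgroup.eq_top_of_card_eq H ?_
    rcases hq' with h | h <;> rw [h] at hG
    · rw [show Nat.gcd 2 (4 - 1) = 1 by rfl, one_mul, show 4 * (4 ^ 2 - 1) = 60 by rfl] at hG
      omega
    · rw [show Nat.gcd 2 (5 - 1) = 2 by rfl, show 5 * (5 ^ 2 - 1) = 120 by rfl] at hG
      omega
  refine ⟨φ.range, isCoatom_of_overgroups ?_ ?_, ⟨e₀⟩⟩
  · intro h
    rw [h, Subgroup.card_top] at hc₀
    rw [hc₀] at hG
    have h15 : 15 ≤ q ^ 2 - 1 := by have := Nat.pow_le_pow_left hq4 2; omega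
    have := Nat.mul_le_mul_left q h15
    rcases hd with ⟨-, hg⟩ | ⟨-, hg⟩ <;> rw [hg] at hG <;> omega
  intro H hlt
  obtain ⟨hc, hdv⟩ := card_lt_of_lt hlt
  rw [hc₀] at hc hdv
  have hxH : x ∈ H := hlt.le hxm
  have hwH : w ∈ H := hlt.le hwmem
  have hord : orderOf (⟨x, hxH⟩ : H) = orderOf x := Subgroup.orderOf_mk x hxH
  have hinv : (⟨w, hwH⟩ : H) * ⟨x, hxH⟩ * (⟨w, hwH⟩ : H)⁻¹ = (⟨x, hxH⟩ : H)⁻¹ := Subtype.ext hwx
  rcases psl_subgroup_cases p H with ⟨k, hk, hH⟩ | ⟨-, P, hP⟩ | ⟨-, hcase⟩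
  · exfalso
    rcases hH with ⟨hcyc, -⟩ | ⟨⟨f⟩⟩
    · have := hcyc.commutative.is_comm.comm (⟨w, hwH⟩ : H) ⟨x, hxH⟩
      rw [this, mul_inv_cancel_right] at hinv
      exact hx2 (by rw [sq]; exact mul_eq_one_iff_eq_inv.mpr (congrArg Subtype.val hinv))
    · rw [Nat.card_congr f.toEquiv, DihedralGroup.nat_card] at hc hdv
      have hnk : orderOf x ∣ k := Nat.dvd_of_mul_dvd_mul_left two_pos hdv
      have hk0 : 0 < k := by omega
      rw [← hq] at hk
      rcases hk with hk | hk
      · have h2 := hnk.trans hk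
        rcases hd with ⟨h', hg⟩ | ⟨h', hg⟩ <;> rw [hg] at hk h2
        · rcases hnq with ⟨-, ⟨h1, -⟩ | ⟨h1, -⟩⟩ | ⟨h1, -⟩
          · have := Nat.le_of_dvd (by omega) hk
            omega
          · rw [show (q + 1) / 2 = orderOf x + 1 by omega] at h2
            have := Nat.le_of_dvd one_pos ((Nat.dvd_add_right dvd_rfl).mp h2)
            omega
          · omega
        · rw [Nat.div_one] at hk h2
          rcases hnq with ⟨h1, -⟩ | ⟨-, h1 | h1⟩
          · omega
          · have := Nat.le_of_dvd (by omega) hk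
            omega
          · rw [show q + 1 = orderOf x + 2 by omega] at h2
            have := Nat.le_of_dvd two_pos ((Nat.dvd_add_right dvd_rfl).mp h2)
            omega
      · have hle := Nat.le_of_dvd (by rcases hd with ⟨h', hg⟩ | ⟨h', hg⟩ <;> rw [hg] <;> omega) hk
        rcases hd with ⟨h', hg⟩ | ⟨h', hg⟩ <;> rw [hg] at hle
        · omega
        · rw [Nat.div_one] at hle
          omega
  · exfalso
    obtain ⟨i, hi⟩ := P.2 ⟨x ^ 2, sq_mem_of_mem_normalizer p P (hP hxH) (hP hwH) hwx⟩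
    have hi' : x ^ (2 * p ^ i) = 1 := by
      rw [pow_mul]; exact congrArg Subtype.val hi
    have hd2 : orderOf x ∣ 2 :=
      (Nat.Coprime.pow_right i ((hpp.coprime_iff_not_dvd.mpr (fun h => hcop _ dvd_rfl h)).symm)).dvd_of_dvd_mul_right
        (orderOf_dvd_of_pow_eq_one hi')
    have := Nat.le_of_dvd two_pos hd2
    omega
  rcases hcase with he' | he' | he' | ⟨L, _, _, m, hLp, hL3, hm, hiso⟩
  · obtain ⟨f⟩ := he'
    exfalso
    refine hx2 ?_
    have := dihedral_four_excluded (f ⟨x, hxH⟩) (f ⟨w, hwH⟩) (by rw [← map_inv, ← map_mul, ← map_mul, hinv, map_inv])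
    rw [← map_pow, ← map_one f] at this
    exact congrArg Subtype.val (f.injective this)
  · obtain ⟨f⟩ := he'
    rw [card_target_perm f] at hc hdv
    exfalso
    have h16 := sq_mod_sixteen_of_perm_four f
    rw [← hq] at h16
    have hn6 : orderOf x ≤ 6 := by
      generalize orderOf x = N at hc hdv hn3
      have : N ≤ 11 := by omega
      interval_cases N <;> first | omega | (revert hdv; norm_num)
    have hqb : q ≤ 13 := by omega
    rw [Nat.pow_mod] at h16
    clear_value q
    interval_cases q <;> first | omega | (revert h16; norm_num)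
  · obtain ⟨f⟩ := he'
    have h5 : orderOf x ∣ 2 ∨ orderOf x ∣ 3 ∨ orderOf x ∣ 5 := by
      rw [← hord, ← MulEquiv.orderOf_eq f]
      exact (alternating_five_exponents (f ⟨x, hxH⟩)).imp orderOf_dvd_of_pow_eq_one
        (Or.imp orderOf_dvd_of_pow_eq_one orderOf_dvd_of_pow_eq_one)
    refine hfull H (card_target_five f) ?_
    rcases h5 with h | h | h
    · have := Nat.le_of_dvd two_pos h; omega
    · have := Nat.le_of_dvd three_pos h; omega
    · rcases (Nat.dvd_prime (by norm_num : Nat.Prime 5)).mp h with h' | h' <;> omega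
  · rcases Nat.lt_or_ge m 2 with hm2 | hm2
    · obtain rfl : m = 1 := by
        rcases Nat.eq_zero_or_pos m with rfl | h
        · rw [pow_zero] at hm; omega
        · omega
      exact eq_top_of_full (by rwa [pow_one] at hm) hiso
    · exfalso
      have hle : orderOf x ≤ Fintype.card L + 1 := by
        rw [← hord]
        rcases hiso with ⟨⟨f⟩, -⟩ | ⟨⟨f⟩⟩
        · rw [← MulEquiv.orderOf_eq f, ← orderOf_injective _ Matrix.ProjectiveSpecialLinearGroup.toPGL_injective]
          exact orderOf_le_card_add_one _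
        · rw [← MulEquiv.orderOf_eq f]
          exact orderOf_le_card_add_one _
      rw [← hq] at hm
      rcases Nat.lt_or_ge m 3 with hm3 | hm3
      · obtain rfl : m = 2 := by omega
        rcases Nat.lt_or_ge (Fintype.card L) 4 with hL4 | hL4
        · rw [show Fintype.card L = 3 by omega] at hm
          omega
        · rw [sq] at hm
          have := Nat.mul_le_mul_right (Fintype.card L) hL4
          omega
      · have h3 := Nat.pow_le_pow_right (show 0 < Fintype.card L by omega) hm3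
        rw [pow_succ, sq] at h3
        have h9 := Nat.mul_le_mul_right (Fintype.card L) (Nat.mul_le_mul hL3 hL3)
        omega

end Cfsg.Lib.Dickson
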