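import Cfsg.Agent.Lib.Dickson.Targets

/-!
# Solvable subgroups of `PSL(2, q)`
-/

set_option autoImplicit false
set_option linter.unusedSectionVars false

open Matrix
open scoped MatrixGroups

namespace Cfsg.Lib.Dickson

theorem isSolvable_comm {A : Type*} [CommGroup A] : Group.IsSolvable A := Group.isSolvable_of_comm mul_comm

theorem isSolvable_dihedral (k : ℕ) : Group.IsSolvable (DihedralGroup k) := by
  let φ : DihedralGroup k →* Multiplicative (ZMod 2) :=
    { toFun := fun x => match x with
        | .r _ => Multiplicative.ofAdd 0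
        | .sr _ => Multiplicative.ofAdd 1
      map_one' := by rw [DihedralGroup.one_def]; rfl
      map_mul' := by rintro (i | i) (j | j) <;> simp <;> rfl }
  let ψ : Multiplicative (ZMod k) →* DihedralGroup k :=
    { toFun := fun i => .r i.toAdd
      map_one' := by rw [DihedralGroup.one_def]; rfl
      map_mul' := fun i j => by simp }
  haveI : Group.IsSolvable (Multiplicative (ZMod 2)) := isSolvable_comm
  haveI : Group.IsSolvable (Multiplicative (ZMod k)) := isSolvable_comm
  refine Group.isSolvable_of_ker_le_range ψ φ ?_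
  rintro (i | i) hi
  · exact ⟨Multiplicative.ofAdd i, rfl⟩
  · exact absurd (Multiplicative.ofAdd.injective (hi : Multiplicative.ofAdd (1 : ZMod 2) = Multiplicative.ofAdd 0))
      one_ne_zero

theorem isSolvable_alternating_four : Group.IsSolvable (alternatingGroup (Fin 4)) := by
  let V : Subgroup (alternatingGroup (Fin 4)) :=
    { carrier := {σ | σ * σ = 1}
      one_mem' := one_mul 1
      mul_mem' := by
        intro a b
        revert a b
        show ∀ a b : alternatingGroup (Fin 4), a * a = 1 → b * b = 1 → a * b * (a * b) = 1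
        decide
      inv_mem' := by
        intro a ha
        show a⁻¹ * a⁻¹ = 1
        rw [← _root_.mul_inv_rev, ha, inv_one] }
  haveI : V.Normal := ⟨fun n hn g => by
    show g * n * g⁻¹ * (g * n * g⁻¹) = 1
    rw [show g * n * g⁻¹ * (g * n * g⁻¹) = g * (n * n) * g⁻¹ by group, hn, mul_one, mul_inv_cancel]⟩
  haveI : Group.IsSolvable V := Group.isSolvable_of_comm fun a b => Subtype.ext <| by
    have key : ∀ a b : alternatingGroup (Fin 4), a * a = 1 → b * b = 1 → a * b = b * a := by decide
    exact key _ _ a.2 b.2
  haveI : Group.IsSolvable (alternatingGroup (Fin 4) ⧸ V) := Group.isSolvable_of_comm fun a b => by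
    induction a using QuotientGroup.induction_on with | H a => ?_
    induction b using QuotientGroup.induction_on with | H b => ?_
    rw [← QuotientGroup.mk_mul, ← QuotientGroup.mk_mul, QuotientGroup.eq]
    have key : ∀ a b : alternatingGroup (Fin 4), (a * b)⁻¹ * (b * a) * ((a * b)⁻¹ * (b * a)) = 1 := by
      decide +kernel
    exact key a b
  exact Group.isSolvable_of_ker_le_range V.subtype (QuotientGroup.mk' V) (by
    rw [QuotientGroup.ker_mk', Subgroup.range_subtype])

theorem isSolvable_perm_four : Group.IsSolvable (Equiv.Perm (Fin 4)) := by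
  haveI := isSolvable_alternating_four
  haveI : Group.IsSolvable ℤˣ := isSolvable_comm
  exact Group.isSolvable_of_ker_le_range (alternatingGroup (Fin 4)).subtype Equiv.Perm.sign (by
    rw [Subgroup.range_subtype]; exact le_rfl)

theorem isSolvable_congr {A B : Type*} [Group A] [Group B] (e : A ≃* B) (h : Group.IsSolvable B) :
    Group.IsSolvable A := by
  haveI := h
  exact Group.isSolvable_of_isSolvable_injective (f := e.toMonoidHom) e.injective

variable {F : Type*} [Field F] [Fintype F]

local notation "SL2" => Matrix.SpecialLinearGroup (Fin 2) F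
local notation "PSL2" => Matrix.ProjectiveSpecialLinearGroup (Fin 2) F

theorem isSolvable_borelSL : Group.IsSolvable (borelSL F) := by
  have key : ∀ g : borelSL F, (g : SL2) 0 0 * (g : SL2) 1 1 = 1 := by
    intro g
    have hd := (g : SL2).2
    rw [Matrix.det_fin_two, mem_borelSL.mp g.2, mul_zero, sub_zero] at hd
    exact hd
  let φ : borelSL F →* Fˣ :=
    { toFun := fun g => ⟨(g : SL2) 0 0, (g : SL2) 1 1, key g, by rw [mul_comm]; exact key g⟩
      map_one' := Units.ext (by simp)
      map_mul' := fun a b => Units.ext (by simp [Matrix.mul_apply, Fin.sum_univ_two, mem_borelSL.mp b.2]) }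
  have hle : Cfsg.Lib.Linear.Two.UT F ≤ borelSL F := fun g hg =>
    mem_borelSL.mpr (Cfsg.Lib.Linear.Two.mem_UT.mp hg).2.2
  haveI : Group.IsSolvable (Cfsg.Lib.Linear.Two.UT F) := by
    haveI : Group.IsSolvable (Multiplicative F) := isSolvable_comm
    exact Group.isSolvable_of_surjective (f := (Cfsg.Lib.Linear.Two.ut (F := F)).rangeRestrict)
      (MonoidHom.rangeRestrict_surjective _)
  haveI : Group.IsSolvable Fˣ := isSolvable_comm
  refine Group.isSolvable_of_ker_le_range (Subgroup.inclusion hle) φ fun g hg => ?_
  have h00 : (g : SL2) 0 0 = 1 := congrArg Units.val hg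
  refine ⟨⟨g, Cfsg.Lib.Linear.Two.mem_UT.mpr ⟨h00, ?_, mem_borelSL.mp g.2⟩⟩, rfl⟩
  have := key g
  rwa [h00, one_mul] at this

theorem isSolvable_normalizer_sylow_psl (p : ℕ) [Fact p.Prime] [CharP F p] (P : Sylow p PSL2) :
    Group.IsSolvable (Subgroup.normalizer ((P : Subgroup PSL2) : Set PSL2)) := by
  obtain ⟨g, rfl⟩ := MulAction.exists_smul_eq PSL2 (stdSylow (F := F) p) P
  haveI : Group.IsSolvable ((borelSL F).map (QuotientGroup.mk' (Subgroup.center SL2))) := by
    haveI := isSolvable_borelSL (F := F)
    exact Group.isSolvable_of_surjective (f := (QuotientGroup.mk' (Subgroup.center SL2)).subgroupMap (borelSL F))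
      (MonoidHom.subgroupMap_surjective _ _)
  haveI : Group.IsSolvable (Subgroup.normalizer (((stdSylow (F := F) p) : Subgroup PSL2) : Set PSL2)) := by
    rw [normalizer_stdSylow]
    infer_instance
  let j : Subgroup.normalizer (((g • stdSylow (F := F) p : Sylow p PSL2) : Subgroup PSL2) : Set PSL2) →*
      Subgroup.normalizer (((stdSylow (F := F) p) : Subgroup PSL2) : Set PSL2) :=
    ((MulAut.conj g⁻¹).toMonoidHom.comp (Subgroup.subtype _)).codRestrict _ fun y => by
      refine Sylow.smul_eq_iff_mem_normalizer.mp ?_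
      show (g⁻¹ * (y : PSL2) * g⁻¹⁻¹) • stdSylow (F := F) p = stdSylow p
      rw [inv_inv, mul_smul, mul_smul, Sylow.smul_eq_iff_mem_normalizer.mpr y.2, inv_smul_smul]
  exact Group.isSolvable_of_isSolvable_injective (f := j) fun a b h =>
    Subtype.ext ((MulAut.conj g⁻¹).injective (congrArg Subtype.val h))

theorem not_isSolvable_alternating_five : ¬ Group.IsSolvable (alternatingGroup (Fin 5)) := by
  intro h
  exact absurd (IsSimpleGroup.comm_iff_isSolvable.mpr h) (by decide)

theorem not_isSolvable_psl {K : Type*} [Field K] [Fintype K] (h4 : 4 ≤ Fintype.card K) :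
    ¬ Group.IsSolvable (Matrix.ProjectiveSpecialLinearGroup (Fin 2) K) := by
  intro h
  haveI : IsSimpleGroup (Matrix.ProjectiveSpecialLinearGroup (Fin 2) K) :=
    Matrix.ProjectiveSpecialLinearGroup.rank_two_simple (by rw [Nat.card_eq_fintype_card]; exact h4)
  have hc := IsSimpleGroup.comm_iff_isSolvable.mpr h
  obtain ⟨p, hpp, hp, -⟩ := exists_char (F := K)
  haveI := Fact.mk hpp
  obtain ⟨P⟩ : Nonempty (Sylow p (Matrix.ProjectiveSpecialLinearGroup (Fin 2) K)) := inferInstance
  exact sylow_not_normal_psl p P ⟨fun n hn x => by rwa [hc x n, mul_inv_cancel_right]⟩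

theorem isSolvable_psl_two_three {K : Type*} [Field K] [Fintype K] (h : Fintype.card K = 3) :
    Group.IsSolvable (Matrix.ProjectiveSpecialLinearGroup (Fin 2) K) := by
  obtain ⟨e⟩ := Cfsg.Lib.Linear.Two.psl_equiv_alternating (F := K) (n := 4) (by omega) (by
    have h' := Cfsg.Lib.Linear.Two.card_PSL_two (F := K)
    rw [h] at h'
    simp [Nat.factorial] at h' ⊢
    omega)
  exact isSolvable_congr e isSolvable_alternating_four

end Cfsg.Lib.Dickson
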