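import Cfsg.Agent.Lib.Dickson.TraceClass
import Cfsg.Agent.Lib.Dickson.Involutions
import Cfsg.Agent.Lib.Dickson.Maximal.Conj
import Cfsg.Agent.Lib.Dickson.SubfieldPGL

/-!
# Involutions of `PSL(2, q)` with products of odd order
-/

set_option autoImplicit false
set_option linter.unusedSectionVars false

open Matrix
open scoped MatrixGroups

namespace Cfsg.Lib.Dickson

variable {F : Type*} [Field F] [Fintype F]

/-- Two points of the projective line over a field with `q ≡ 3 (mod 4)`, seen as unit vectors in three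
dimensions, have a common neighbour. -/
theorem exists_common_split [DecidableEq F] (h4 : Fintype.card F % 4 = 3) (h7 : 7 ≤ Fintype.card F) {x₀ y₀ d₀ : F}
    (hB : x₀ ^ 2 + y₀ ^ 2 = d₀ ^ 2 - 4) (hn : ¬ IsSquare (d₀ ^ 2 - 4)) :
    ∃ x y d : F, x ^ 2 + y ^ 2 = d ^ 2 - 4 ∧ (d ^ 2 - 4 ≠ 0 ∧ IsSquare (d ^ 2 - 4)) ∧
      (((x * x₀ + y * y₀ - d * d₀) / 2) ^ 2 - 4 ≠ 0 ∧ IsSquare (((x * x₀ + y * y₀ - d * d₀) / 2) ^ 2 - 4)) := by
  have h2 : (2 : F) ≠ 0 := two_ne_zero_of_odd (by omega)
  have h4F : (4 : F) ≠ 0 := by rw [show (4 : F) = 2 * 2 by norm_num]; exact mul_ne_zero h2 h2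
  have hm1 : ¬ IsSquare (-1 : F) := by rw [FiniteField.isSquare_neg_one_iff]; omega
  have hneg : ∀ a : F, ¬ IsSquare a → ∃ w, w ≠ 0 ∧ a = -(w * w) := by
    intro a ha
    have ha0 : a ≠ 0 := fun e => ha (e ▸ IsSquare.zero)
    obtain ⟨w, hw⟩ : IsSquare (-a) := by
      have hq : ringChar F ≠ 2 := fun e => by
        have := FiniteField.even_card_of_char_two e
        omega
      have h1 : quadraticChar F (-1) = -1 := quadraticChar_neg_one_iff_not_isSquare.mpr hm1
      have h3 : quadraticChar F a = -1 := quadraticChar_neg_one_iff_not_isSquare.mpr ha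
      refine (quadraticChar_one_iff_isSquare (neg_ne_zero.mpr ha0)).mp ?_
      rw [neg_eq_neg_one_mul, map_mul, h1, h3]; norm_num
    exact ⟨w, fun e => ha0 (by rw [e, mul_zero, neg_eq_zero] at hw; exact hw), by rw [← hw, neg_neg]⟩
  by_contra hcon
  push Not at hcon
  obtain ⟨e, he0, he⟩ := hneg _ hn
  have hn0 : d₀ ^ 2 - 4 ≠ 0 := fun e' => hn (e' ▸ IsSquare.zero)
  have hd0 : d₀ - 2 ≠ 0 := fun e' => hn0 (by linear_combination (d₀ + 2) * e')
  -- circles
  let circ : F → Finset (F × F) := fun N => Finset.univ.filter fun z => z.1 ^ 2 + z.2 ^ 2 = N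
  set K := (circ 1).card with hK
  have hK0 : 0 < K := Finset.card_pos.mpr ⟨(1, 0), by simp [circ]⟩
  obtain ⟨s, t, hst⟩ := exists_sq_add_sq_eq_neg_one (F := F) h2
  have hcircle : ∀ N : F, N ≠ 0 → (circ N).card = K := by
    intro N hN
    rcases em (IsSquare N) with ⟨w, hw⟩ | hns
    · have hw0 : w ≠ 0 := fun e' => hN (by rw [hw, e', mul_zero])
      refine (Finset.card_bij' (fun z _ => (w * z.1, w * z.2)) (fun z _ => (z.1 / w, z.2 / w)) ?_ ?_ ?_ ?_).symm
      · intro z hz
        simp [circ] at hz ⊢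
        rw [hw]; linear_combination (w * w) * hz
      · intro z hz
        simp [circ] at hz ⊢
        field_simp
        rw [hz, hw]; ring
      · intro z _; simp [hw0]
      · intro z _; ext <;> simp <;> field_simp
    · obtain ⟨w, hw0, hw⟩ := hneg N hns
      refine (Finset.card_bij' (fun z _ => (w * (s * z.1 - t * z.2), w * (t * z.1 + s * z.2)))
        (fun z _ => ((-(s * z.1 + t * z.2)) / w, (-(-t * z.1 + s * z.2)) / w)) ?_ ?_ ?_ ?_).symm
      · intro z hz
        simp [circ] at hz ⊢
        rw [hw]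
        linear_combination (w * w) * (s ^ 2 + t ^ 2) * hz + (w * w) * hst
      · intro z hz
        simp [circ] at hz ⊢
        field_simp
        linear_combination (s ^ 2 + t ^ 2) * hz + N * hst - hw
      · intro z _
        ext <;> simp <;> field_simp
        · linear_combination -z.1 * hst
        · linear_combination -z.2 * hst
      · intro z _
        ext <;> simp <;> field_simp
        · linear_combination -z.1 * hst
        · linear_combination -z.2 * hst
  let T : Finset (F × F × F) := Finset.univ.filter fun z => z.1 ^ 2 + z.2.1 ^ 2 = z.2.2 ^ 2 - 4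
  let β : F × F × F → F := fun z => (z.1 * x₀ + z.2.1 * y₀ - z.2.2 * d₀) / 2
  let P : F → Prop := fun a => a ^ 2 - 4 ≠ 0 ∧ IsSquare (a ^ 2 - 4)
  set NA := T.filter fun z => P z.2.2 with hNA
  set NB := T.filter fun z => P (β z) with hNB
  have hdisj : Disjoint NA NB := by
    rw [Finset.disjoint_left]
    rintro ⟨x, y, d⟩ hA hB'
    simp only [hNA, hNB, Finset.mem_filter] at hA hB'
    exact hcon x y d (Finset.mem_filter.mp hA.1).2 hA.2 hB'.2.1 hB'.2.2
  have hfib : ∀ d : F, (T.filter fun z => z.2.2 = d).card = (circ (d ^ 2 - 4)).card := by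
    intro d
    refine Finset.card_bij' (fun z _ => (z.1, z.2.1)) (fun z _ => (z.1, z.2, d)) ?_ ?_ ?_ ?_
    · intro z hz
      simp [T, circ] at hz ⊢
      rw [← hz.2]; exact hz.1
    · intro z hz
      simp [T, circ] at hz ⊢
      exact hz
    · intro z hz
      simp [T] at hz
      simp [← hz.2]
    · intro z _; simp
  set D : Finset F := Finset.univ.filter P with hD
  have hNAc : NA.card = D.card * K := by
    rw [Finset.card_eq_sum_card_fiberwise (f := fun z => z.2.2) (t := D) (fun z hz => by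
      simp [hNA] at hz; simp [hD, hz.2]), Finset.sum_const_nat]
    intro d hd
    have hd' : P d := (Finset.mem_filter.mp hd).2
    rw [← hcircle _ hd'.1, ← hfib d]
    congr 1
    ext z
    simp only [hNA, Finset.mem_filter]
    exact ⟨fun h => ⟨h.1.1, h.2⟩, fun h => ⟨⟨h.1, by rw [h.2]; exact hd'⟩, h.2⟩⟩
  have hTc : T.card = (Fintype.card F - 2) * K + 2 := by
    rw [Finset.card_eq_sum_card_fiberwise (f := fun z => z.2.2) (t := (Finset.univ : Finset F))
      (fun z _ => Finset.mem_univ _), ← Finset.sum_add_sum_compl ({2, -2} : Finset F)]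
    have h22 : (2 : F) ≠ -2 := fun e' => h4F (by linear_combination e')
    have hc2 : ({2, -2} : Finset F).card = 2 := Finset.card_pair h22
    rw [Finset.sum_const_nat (m := 1), Finset.sum_const_nat (m := K), hc2, Finset.card_compl, hc2]
    · ring
    · intro d hd
      rw [hfib, hcircle]
      simp at hd
      intro e'
      rcases mul_self_eq_mul_self_iff.mp (show d * d = 2 * 2 by linear_combination e') with e'' | e''
      · exact hd.1 e''
      · exact hd.2 e''
    · intro d hd
      rw [hfib, show d ^ 2 - 4 = 0 by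
        simp at hd
        rcases hd with rfl | rfl <;> ring]
      rw [Finset.card_eq_one]
      refine ⟨(0, 0), ?_⟩
      ext ⟨a, b⟩
      simp [circ]
      constructor
      · intro hab
        have hb : b = 0 := by
          by_contra hb
          exact hm1 ⟨a / b, by field_simp; linear_combination -hab⟩
        subst hb
        simpa using hab
      · rintro ⟨rfl, rfl⟩; ring
  -- many split values
  have hDc : Fintype.card F ≤ 2 * D.card + 3 := by
    let S : Finset F := (Finset.univ : Finset F) \ {0, 1, -1}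
    have hS : Fintype.card F ≤ S.card + 3 := by
      have h3 : ({0, 1, -1} : Finset F).card ≤ 3 := Finset.card_le_three
      have := Finset.le_card_sdiff ({0, 1, -1} : Finset F) Finset.univ
      rw [Finset.card_univ] at this
      show _ ≤ ((Finset.univ : Finset F) \ {0, 1, -1}).card + 3
      omega
    have hmap : ∀ r ∈ S, r + r⁻¹ ∈ D := by
      intro r hr
      simp [S] at hr
      obtain ⟨hr0, hr1, hr2⟩ := hr
      simp only [hD, Finset.mem_filter, Finset.mem_univ, true_and, P]
      have e' : (r + r⁻¹) ^ 2 - 4 = (r - r⁻¹) * (r - r⁻¹) := by field_simp; ring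
      rw [e']
      refine ⟨mul_self_ne_zero.mpr fun e'' => ?_, ⟨_, rfl⟩⟩
      have : r * r = 1 := by
        field_simp at e''
        linear_combination e''
      rcases mul_self_eq_one_iff.mp this with h | h
      exacts [hr1 h, hr2 h]
    have := Finset.card_le_mul_card_image_of_maps_to (f := fun r : F => r + r⁻¹) hmap 2 fun a _ => by
      by_contra hgt
      push Not at hgt
      obtain ⟨u, v, w, hu, hv, hw, huv, huw, hvw⟩ := Finset.two_lt_card_iff.mp hgt
      simp [S] at hu hv hw
      have eu : u * u - a * u + 1 = 0 := by rw [← hu.2]; field_simp [hu.1.1]; ring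
      have ev : v * v - a * v + 1 = 0 := by rw [← hv.2]; field_simp [hv.1.1]; ring
      have ew : w * w - a * w + 1 = 0 := by rw [← hw.2]; field_simp [hw.1.1]; ring
      have e1 : u + v - a = 0 := (mul_eq_zero.mp (show (u - v) * (u + v - a) = 0 by
        linear_combination eu - ev)).resolve_left (sub_ne_zero.mpr huv)
      have e2 : u + w - a = 0 := (mul_eq_zero.mp (show (u - w) * (u + w - a) = 0 by
        linear_combination eu - ew)).resolve_left (sub_ne_zero.mpr huw)
      exact hvw (by linear_combination e1 - e2)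
    omega
  -- the reflection exchanging the two points
  have hNBc : NB.card = NA.card := by
    let R : F × F × F → F × F × F := fun z =>
      (z.1 + (-z.2.2 - β z) / (d₀ - 2) * x₀, z.2.1 + (-z.2.2 - β z) / (d₀ - 2) * y₀, -β z)
    have hβR : ∀ z, β (R z) = -z.2.2 := by
      intro z
      simp only [R, β]
      field_simp
      linear_combination (-2 * z.2.2 - (z.1 * x₀ + z.2.1 * y₀ - z.2.2 * d₀)) * hB
    have hRT : ∀ z ∈ T, R z ∈ T := by
      intro z hz
      simp [T, R, β] at hz ⊢
      field_simp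
      field_simp at hz
      linear_combination (4 * (d₀ - 2) ^ 2) * hz + (-2 * z.2.2 - (z.1 * x₀ + z.2.1 * y₀ - z.2.2 * d₀)) ^ 2 * hB
    have hRR : ∀ z, R (R z) = z := by
      intro z
      have h1 := hβR z
      show (_, _, -β (R z)) = z
      rw [h1, neg_neg]
      simp only [R, neg_neg]
      ext <;> simp <;> field_simp <;> ring
    refine (Finset.card_bij' (fun z _ => R z) (fun z _ => R z) ?_ ?_ (fun z _ => hRR z) (fun z _ => hRR z))
    · intro z hz
      simp only [hNA, hNB, Finset.mem_filter] at hz ⊢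
      refine ⟨hRT z hz.1, ?_⟩
      show P (-β z)
      simpa [P] using hz.2
    · intro z hz
      simp only [hNA, hNB, Finset.mem_filter] at hz ⊢
      refine ⟨hRT z hz.1, ?_⟩
      show P (β (R z))
      rw [hβR]
      simpa [P] using hz.2
  -- points that are neighbours of neither
  have hbad : ∀ z : F × F × F, (¬ P z.2.2 ∧ ¬ P (β z)) → z ∈ T → z ∈ T \ (NA ∪ NB) := by
    intro z hz hzT
    simp only [hNA, hNB, Finset.mem_sdiff, Finset.mem_union, Finset.mem_filter, not_or]
    exact ⟨hzT, fun h => hz.1 h.2, fun h => hz.2 h.2⟩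
  obtain ⟨t₁, ht1, ht2, ht3⟩ : ∃ t₁ : F, t₁ ≠ 0 ∧ t₁ * t₁ ≠ 1 / (d₀ - 2) ∧ t₁ * t₁ ≠ -(1 / (d₀ - 2)) := by
    by_contra hno
    push Not at hno
    let c := 1 / (d₀ - 2)
    have hsub : (Finset.univ : Finset F) ⊆ insert 0 ((Finset.univ.filter fun u => u * u = c) ∪
        (Finset.univ.filter fun u => u * u = -c)) := by
      intro u _
      simp only [Finset.mem_insert, Finset.mem_union, Finset.mem_filter, Finset.mem_univ, true_and]
      by_cases hu : u = 0
      · exact Or.inl hu
      · by_cases hu' : u * u = c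
        · exact Or.inr (Or.inl hu')
        · exact Or.inr (Or.inr (hno u hu hu'))
    have hroot : ∀ a : F, (Finset.univ.filter fun u : F => u * u = a).card ≤ 2 := by
      intro a
      by_contra hgt
      push Not at hgt
      obtain ⟨u, v, w, hu, hv, hw, huv, huw, hvw⟩ := Finset.two_lt_card_iff.mp hgt
      simp at hu hv hw
      have e1 := (mul_self_eq_mul_self_iff.mp (hu.trans hv.symm)).resolve_left huv
      have e2 := (mul_self_eq_mul_self_iff.mp (hu.trans hw.symm)).resolve_left huw
      exact hvw (neg_injective (e1.symm.trans e2))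
    have := (Finset.card_le_card hsub).trans ((Finset.card_insert_le _ _).trans
      (Nat.add_le_add_right (Finset.card_union_le _ _) 1))
    rw [Finset.card_univ] at this
    have := hroot c
    have := hroot (-c)
    omega
  set cc := 1 / (d₀ - 2) with hcc
  have hct : cc - t₁ * t₁ ≠ 0 := sub_ne_zero.mpr ht2.symm
  set dd := 2 * t₁ / (cc - t₁ * t₁) with hdd
  set Y := (cc + t₁ * t₁) / (cc - t₁ * t₁) with hY
  set μ := 2 * Y / e with hμ
  have hY2 : Y * Y = dd ^ 2 * cc + 1 := by
    rw [hY, hdd, div_mul_div_comm, div_pow, div_mul_eq_mul_div, div_add_one (pow_ne_zero 2 hct),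
      div_eq_div_iff (mul_ne_zero hct hct) (pow_ne_zero 2 hct)]
    ring
  have hdd0 : dd ≠ 0 := div_ne_zero (mul_ne_zero h2 ht1) hct
  have hμ0 : μ ≠ 0 := by
    refine div_ne_zero (mul_ne_zero h2 (div_ne_zero (fun e' => ht3 ?_) hct)) he0
    linear_combination e'
  let C : F × F × F := (dd * cc * x₀ - μ * y₀, dd * cc * y₀ + μ * x₀, dd)
  have hccd : cc * (d₀ - 2) = 1 := by rw [hcc]; field_simp
  have hμe : μ * e = 2 * Y := by rw [hμ]; field_simp
  have hCT : C ∈ T := by
    simp [T, C]
    linear_combination (dd ^ 2 * cc ^ 2 + μ ^ 2) * hB + μ ^ 2 * he - (μ * e + 2 * Y) * hμe - 4 * hY2 +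
      dd ^ 2 * (cc * (d₀ + 2) + 1) * hccd
  have hCβ : β C = dd := by
    simp only [β, C]
    rw [div_eq_iff h2]
    linear_combination dd * cc * hB + dd * (d₀ + 2) * hccd
  by_cases hCP : P dd
  · exact (Finset.disjoint_left.mp hdisj) (show C ∈ NA by simp [hNA, hCT]; exact hCP)
      (show C ∈ NB by simp [hNB, hCT, hCβ]; exact hCP)
  let π : F × F → F × F × F := fun z => (z.2 / e * x₀, z.2 / e * y₀, z.1)
  let Pl : Finset (F × F × F) := (circ 4).image π
  have hPlc : Pl.card = K := by
    rw [Finset.card_image_of_injective, hcircle 4 h4F]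
    intro z z' hz
    simp [π] at hz
    obtain ⟨hx, hy, hd⟩ := hz
    refine Prod.ext hd ?_
    rcases hx with hx | hx
    · exact (div_left_inj' he0).mp hx
    · rcases hy with hy | hy
      · exact (div_left_inj' he0).mp hy
      · exact absurd (show d₀ ^ 2 - 4 = 0 by rw [← hB, hx, hy]; ring) hn0
  set τ := 2 / e with hτ
  have hτe : τ * e = 2 := by rw [hτ]; field_simp
  let j₁ : F × F × F := (-(y₀ * τ), x₀ * τ, 0)
  let j₂ : F × F × F := (y₀ * τ, -(x₀ * τ), 0)
  let cross : F × F × F → F := fun z => x₀ * z.2.1 - y₀ * z.1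
  have hcr : cross C = μ * (d₀ ^ 2 - 4) := by simp [cross, C]; linear_combination μ * hB
  have hcr1 : cross j₁ = τ * (d₀ ^ 2 - 4) := by simp [cross, j₁]; linear_combination τ * hB
  have hcr2 : cross j₂ = -(τ * (d₀ ^ 2 - 4)) := by simp [cross, j₂]; linear_combination -τ * hB
  have hτ0 : τ ≠ 0 := div_ne_zero h2 he0
  have hPlcr : ∀ z ∈ Pl, cross z = 0 := by
    intro z hz
    obtain ⟨w, -, rfl⟩ := Finset.mem_image.mp hz
    simp [cross, π]; ring
  have h12 : j₁ ≠ j₂ := fun e' => by
    have := congrArg cross e'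
    rw [hcr1, hcr2] at this
    exact mul_ne_zero (mul_ne_zero h2 hτ0) hn0 (by linear_combination this)
  have hCj : C ≠ j₁ ∧ C ≠ j₂ := ⟨fun e' => hdd0 (congrArg (fun z : F × F × F => z.2.2) e'),
    fun e' => hdd0 (congrArg (fun z : F × F × F => z.2.2) e')⟩
  let R₀ : Finset (F × F × F) := Pl ∪ {j₁, j₂, C}
  have hR₀c : R₀.card = K + 3 := by
    rw [Finset.card_union_of_disjoint, hPlc, Finset.card_insert_of_notMem, Finset.card_pair hCj.2.symm]
    · simp [h12, hCj.1.symm]
    · rw [Finset.disjoint_right]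
      intro z hz hzP
      have := hPlcr z hzP
      simp at hz
      rcases hz with rfl | rfl | rfl
      · exact mul_ne_zero hτ0 hn0 (hcr1.symm.trans this)
      · exact neg_ne_zero.mpr (mul_ne_zero hτ0 hn0) (hcr2.symm.trans this)
      · exact mul_ne_zero hμ0 hn0 (hcr.symm.trans this)
  have hnot0 : ∀ a : F, (∃ w, a ^ 2 - 4 = -(w * w)) → ¬ P a := by
    rintro a ⟨w, hw⟩ ⟨h0, v, hv⟩
    have hw0 : w ≠ 0 := fun e' => h0 (by rw [hw, e']; ring)
    exact hm1 ⟨v / w, by field_simp; linear_combination hv - hw⟩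
  have hR₀ : R₀ ⊆ T \ (NA ∪ NB) := by
    intro z hz
    simp only [R₀, Finset.mem_union, Finset.mem_insert, Finset.mem_singleton] at hz
    rcases hz with hz | rfl | rfl | rfl
    · obtain ⟨⟨d, l⟩, hw, rfl⟩ := Finset.mem_image.mp hz
      simp [circ] at hw
      have hle : l / e * e = l := by field_simp
      refine hbad _ ⟨hnot0 _ ⟨l, ?_⟩, hnot0 _ ?_⟩ ?_
      · show d ^ 2 - 4 = -(l * l)
        linear_combination hw
      · refine ⟨(l / e * d₀ - d) * e / 2, ?_⟩
        simp only [β, π]
        generalize l / e = X at hle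
        have key : (X * (-(e * e)) - d * d₀) ^ 2 - 16 + e ^ 2 * (X * d₀ - d) ^ 2 = 0 := by
          linear_combination (X ^ 2 * e ^ 2 + d ^ 2) * he + 4 * (X * e + l) * hle + 4 * hw
        rw [show X * x₀ * x₀ + X * y₀ * y₀ - d * d₀ = X * (-(e * e)) - d * d₀ by linear_combination X * hB + X * he]
        field_simp
        linear_combination key
      · simp [T, π]
        linear_combination (l / e) ^ 2 * hB + (l / e) ^ 2 * he - (l / e * e + l) * hle - hw
    · refine hbad _ ⟨hnot0 _ ⟨2, by show (0 : F) ^ 2 - 4 = _; ring⟩, hnot0 _ ⟨2, ?_⟩⟩ ?_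
      · simp [β, j₁]; ring
      · simp [T, j₁]
        linear_combination τ ^ 2 * hB + τ ^ 2 * he - (τ * e + 2) * hτe
    · refine hbad _ ⟨hnot0 _ ⟨2, by show (0 : F) ^ 2 - 4 = _; ring⟩, hnot0 _ ⟨2, ?_⟩⟩ ?_
      · simp [β, j₂]; ring
      · simp [T, j₂]
        linear_combination τ ^ 2 * hB + τ ^ 2 * he - (τ * e + 2) * hτe
    · exact hbad _ ⟨hCP, hCβ.symm ▸ hCP⟩ hCT
  have hcount := Finset.card_le_card hR₀
  rw [hR₀c, Finset.card_sdiff_of_subset (Finset.union_subset (Finset.filter_subset _ _) (Finset.filter_subset _ _)),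
    Finset.card_union_of_disjoint hdisj, hNBc, hNAc, hTc] at hcount
  have hb : (Fintype.card F - 2) * K ≤ (2 * D.card + 1) * K := Nat.mul_le_mul_right K (by omega)
  have : (2 * D.card + 1) * K = (D.card * K + D.card * K) + K := by ring
  omega

end Cfsg.Lib.Dickson

namespace Cfsg.Lib.Dickson

variable {F : Type*} [Field F] [Fintype F]

local notation "SL2" => Matrix.SpecialLinearGroup (Fin 2) F
local notation "PSL2" => Matrix.ProjectiveSpecialLinearGroup (Fin 2) F

theorem odd_orderOf_of_pow {G : Type*} [Group G] {x : G} {m : ℕ} (hm : Odd m) (h : x ^ m = 1) :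
    Odd (orderOf x) := hm.of_dvd_nat (orderOf_dvd_of_pow_eq_one h)

/-- An element whose trace makes it diagonalisable over `F` has odd order if `q ≡ 3 (mod 4)`. -/
theorem odd_orderOf_split (h4 : Fintype.card F % 4 = 3) {g : SL2}
    (hs : (g.1 0 0 + g.1 1 1) ^ 2 - 4 ≠ 0) (hsq : IsSquare ((g.1 0 0 + g.1 1 1) ^ 2 - 4)) :
    Odd (orderOf (QuotientGroup.mk g : PSL2)) := by
  have h2 : (2 : F) ≠ 0 := two_ne_zero_of_odd (by omega)
  set s := g.1 0 0 + g.1 1 1 with hs'
  obtain ⟨w, hw⟩ := hsq
  set r := (s + w) / 2 with hr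
  have hr' : r * (s - r) = 1 := by
    rw [hr]; field_simp; linear_combination hw
  have hr0 : r ≠ 0 := left_ne_zero_of_mul_eq_one hr'
  let D : SL2 := ⟨!![r, 0; 0, s - r], by rw [Matrix.det_fin_two_of]; linear_combination hr'⟩
  obtain ⟨P, hP⟩ := exists_conj_of_trace (g := D) (h := g) (by simp [D, hs']) (by
    simp [D]
    exact fun e => hs (by linear_combination e))
  refine odd_orderOf_of_pow (m := Fintype.card F / 2) (by rw [Nat.odd_iff]; omega) ?_
  have hpow : ∀ k : ℕ, ((D ^ k : SL2) : Matrix (Fin 2) (Fin 2) F) = !![r ^ k, 0; 0, (s - r) ^ k] := by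
    intro k
    induction k with
    | zero => simp [Matrix.one_fin_two]
    | succ k ih =>
      rw [pow_succ, Matrix.SpecialLinearGroup.coe_mul, ih]
      simp [D, Matrix.mul_fin_two, pow_succ]
  have hc : D ^ (Fintype.card F / 2) ∈ Subgroup.center SL2 := by
    have he : (s - r) ^ (Fintype.card F / 2) = r ^ (Fintype.card F / 2) := by
      have hq1 : r ^ (Fintype.card F / 2) * r ^ (Fintype.card F / 2) = 1 := by
        rw [← pow_add, show Fintype.card F / 2 + Fintype.card F / 2 = Fintype.card F - 1 by omega,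
          FiniteField.pow_card_sub_one_eq_one r hr0]
      refine mul_left_cancel₀ (pow_ne_zero (Fintype.card F / 2) hr0) ?_
      rw [hq1, ← mul_pow, hr', one_pow]
    refine mem_center_of_eq_scalar (c := r ^ (Fintype.card F / 2)) ?_ ?_
    · rw [sq]; nth_rewrite 2 [← he]; rw [← mul_pow, hr', one_pow]
    · rw [hpow, he]
  rw [← hP, QuotientGroup.mk_mul, QuotientGroup.mk_mul, QuotientGroup.mk_inv, conj_pow, ← QuotientGroup.mk_pow,
    (QuotientGroup.eq_one_iff _).mpr hc, mul_one, mul_inv_cancel]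

/-- An element of trace `± 2` has odd order in odd characteristic. -/
theorem odd_orderOf_unipotent (p : ℕ) [Fact p.Prime] [CharP F p] (hp : p ≠ 2) {g : SL2} {c : F} (hc : c * c = 1)
    (hs : g.1 0 0 + g.1 1 1 = c + c) : Odd (orderOf (QuotientGroup.mk g : PSL2)) := by
  refine odd_orderOf_of_pow (m := p) ((Fact.out : p.Prime).odd_of_ne_two hp) ?_
  rw [← QuotientGroup.mk_pow, QuotientGroup.eq_one_iff]
  have hd := g.2
  rw [Matrix.det_fin_two] at hd
  have hN : ((g : Matrix (Fin 2) (Fin 2) F) - Matrix.scalar (Fin 2) c) ^ p = 0 := by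
    refine pow_eq_zero_of_le (Fact.out (p := p.Prime)).two_le ?_
    rw [sq]
    ext i j
    fin_cases i <;> fin_cases j <;> simp [Matrix.mul_apply, Fin.sum_univ_two]
    · linear_combination g 0 0 * hs - hd + hc
    · linear_combination g 0 1 * hs
    · linear_combination g 1 0 * hs
    · linear_combination g 1 1 * hs - hd + hc
  refine mem_center_of_eq_scalar (c := c ^ p) ?_ ?_
  · rw [← pow_mul, mul_comm p 2, pow_mul, sq, hc, one_pow]
  · rw [sub_pow_char_of_commute _ (Matrix.scalar_commute c (fun r => Commute.all _ _) _).symm, sub_eq_zero] at hN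
    rw [Matrix.SpecialLinearGroup.coe_pow, hN, ← map_pow]
    ext i j; fin_cases i <;> fin_cases j <;> simp

/-- In characteristic two an element of nonzero trace has odd order. -/
theorem odd_orderOf_of_trace_ne_zero [CharP F 2] {g : SL2} (hs : g.1 0 0 + g.1 1 1 ≠ 0) :
    Odd (orderOf (QuotientGroup.mk g : PSL2)) := by
  haveI := Fact.mk Nat.prime_two
  have hnd : ¬ 2 ∣ orderOf (QuotientGroup.mk g : PSL2) := by
    intro hdvd
    obtain ⟨n, -, hn⟩ := FiniteField.card F 2
    have hq : Fintype.card F % 2 = 0 := by rw [hn, Nat.pow_mod, Nat.mod_self, Nat.zero_pow n.pos]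
    have hd : Nat.gcd 2 (Fintype.card F - 1) = 1 := by
      rw [Nat.gcd_rec, show (Fintype.card F - 1) % 2 = 1 by have := two_le_card (F := F); omega]; rfl
    rcases Cfsg.Lib.Spec.psl_two_exponents 2 (QuotientGroup.mk g : PSL2) with h | h | h
    · rw [← QuotientGroup.mk_pow, QuotientGroup.eq_one_iff, Cfsg.Lib.Spec.center_eq_bot_of_char_two,
        Subgroup.mem_bot] at h
      have e00 := congrArg (fun m : SL2 => m.1 0 0) h
      have e11 := congrArg (fun m : SL2 => m.1 1 1) h
      simp [sq, Matrix.mul_apply, Fin.sum_univ_two] at e00 e11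
      have h20 : (2 : F) = 0 := CharTwo.two_eq_zero
      refine hs (mul_self_eq_zero.mp ?_)
      have hgd := g.2
      rw [Matrix.det_fin_two] at hgd
      linear_combination e00 + e11 + 2 * hgd + 2 * h20
    · have := hdvd.trans (orderOf_dvd_of_pow_eq_one h)
      rw [hd, Nat.div_one] at this
      have := two_le_card (F := F)
      omega
    · have := hdvd.trans (orderOf_dvd_of_pow_eq_one h)
      rw [hd, Nat.div_one] at this
      omega
  rw [Nat.odd_iff]; omega

theorem trace_mul_sl (g h : SL2) : (g * h).1 0 0 + (g * h).1 1 1 =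
    g.1 0 0 * h.1 0 0 + g.1 0 1 * h.1 1 0 + (g.1 1 0 * h.1 0 1 + g.1 1 1 * h.1 1 1) := by
  show (g.1 * h.1) 0 0 + (g.1 * h.1) 1 1 = _
  simp [Matrix.mul_apply, Fin.sum_univ_two]

theorem mk_eq_one_of_scalar {g : SL2} {c : F} (hc : (g : Matrix (Fin 2) (Fin 2) F) = !![c, 0; 0, c]) :
    (QuotientGroup.mk g : PSL2) = 1 := by
  by_contra h
  rcases not_scalar_of_ne_one h with h' | h' | h' <;> simp [hc] at h'

theorem involution_of_trace {g : SL2} (ht : g.1 0 0 + g.1 1 1 = 0) (h : (QuotientGroup.mk g : PSL2) ≠ 1) :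
    orderOf (QuotientGroup.mk g : PSL2) = 2 := by
  haveI := Fact.mk Nat.prime_two
  exact orderOf_eq_prime (by rw [sq]; exact mk_sq_eq_one_of_trace ht) h

theorem odd_orderOf_comm {G : Type*} [Group G] (a b : G) : orderOf (a * b) = orderOf (b * a) := by
  rw [show b * a = MulAut.conj b (a * b) by rw [MulAut.conj_apply]; group, MulEquiv.orderOf_eq]

/-- Two involutions are joined by an involution with odd products. -/
theorem exists_odd_bridge (h4 : 4 ≤ Fintype.card F) {X Y : PSL2} (hX : orderOf X = 2) (hY : orderOf Y = 2)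
    (hXY : ¬ Odd (orderOf (X * Y))) :
    ∃ Z : PSL2, orderOf Z = 2 ∧ Odd (orderOf (X * Z)) ∧ Odd (orderOf (Z * Y)) := by
  classical
  obtain ⟨p, hpp, hp, n, hn0, hn⟩ := exists_char (F := F)
  haveI := Fact.mk hpp
  have hinv : ∀ {U : PSL2}, orderOf U = 2 → U ^ 2 = 1 ∧ U ≠ 1 := fun {U} h =>
    ⟨by have h' := pow_orderOf_eq_one U; rwa [h] at h', fun e => by rw [e, orderOf_one] at h; omega⟩
  rcases Nat.mod_two_eq_zero_or_one (Fintype.card F) with hev | hodd
  · obtain rfl : p = 2 := ((Nat.prime_dvd_prime_iff_eq Nat.prime_two hpp).mp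
      (Nat.prime_two.dvd_of_dvd_pow (hn ▸ Nat.dvd_of_mod_eq_zero hev))).symm
    have h20 : (2 : F) = 0 := CharTwo.two_eq_zero
    obtain ⟨A, rfl⟩ := QuotientGroup.mk_surjective X
    obtain ⟨B, rfl⟩ := QuotientGroup.mk_surjective Y
    have hshape : ∀ g : SL2, orderOf (QuotientGroup.mk g : PSL2) = 2 →
        g.1 1 1 = g.1 0 0 ∧ (g.1 0 1 ≠ 0 ∨ g.1 1 0 ≠ 0) := by
      intro g hg
      have ht : g.1 0 0 + g.1 1 1 = 0 := by
        by_contra ht
        exact absurd (odd_orderOf_of_trace_ne_zero ht) (by rw [hg]; decide)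
      have he : g.1 1 1 = g.1 0 0 := by linear_combination ht - g.1 0 0 * h20
      refine ⟨he, ?_⟩
      by_contra hcon
      push Not at hcon
      exact (hinv hg).2 (mk_eq_one_of_scalar (c := g.1 0 0) (by
        ext i j; fin_cases i <;> fin_cases j <;> simp [hcon.1, hcon.2, he]))
    obtain ⟨hA, hA'⟩ := hshape A hX
    obtain ⟨hB, hB'⟩ := hshape B hY
    have hedge : ∀ g h : SL2, (g * h).1 0 0 + (g * h).1 1 1 ≠ 0 →
        Odd (orderOf ((QuotientGroup.mk g : PSL2) * QuotientGroup.mk h)) := fun g h hne => by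
      rw [← QuotientGroup.mk_mul]; exact odd_orderOf_of_trace_ne_zero hne
    by_cases h1 : A.1 0 1 ≠ 0 ∧ B.1 0 1 ≠ 0
    · let L : SL2 := ⟨!![1, 0; 1, 1], by simp [Matrix.det_fin_two]⟩
      refine ⟨QuotientGroup.mk L, involution_of_trace (by simp [L]; linear_combination h20) (fun e => ?_),
        hedge A L ?_, hedge L B ?_⟩
      · have := (QuotientGroup.eq_one_iff L).mp e
        simpa [L] using (mem_center_sl this).2.1
      · rw [trace_mul_sl]; simp [L]
        rw [hA]; intro e; exact h1.1 (by linear_combination e - A.1 0 0 * h20)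
      · rw [trace_mul_sl]; simp [L]
        rw [hB]; intro e; exact h1.2 (by linear_combination e - B.1 0 0 * h20)
    by_cases h2 : A.1 1 0 ≠ 0 ∧ B.1 1 0 ≠ 0
    · let L : SL2 := ⟨!![1, 1; 0, 1], by simp [Matrix.det_fin_two]⟩
      refine ⟨QuotientGroup.mk L, involution_of_trace (by simp [L]; linear_combination h20) (fun e => ?_),
        hedge A L ?_, hedge L B ?_⟩
      · have := (QuotientGroup.eq_one_iff L).mp e
        simpa [L] using (mem_center_sl this).1
      · rw [trace_mul_sl]; simp [L]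
        rw [hA]; intro e; exact h2.1 (by linear_combination e - A.1 0 0 * h20)
      · rw [trace_mul_sl]; simp [L]
        rw [hB]; intro e; exact h2.2 (by linear_combination e - B.1 0 0 * h20)
    let W : SL2 := ⟨!![0, 1; 1, 0], by simp [Matrix.det_fin_two]; linear_combination -h20⟩
    refine ⟨QuotientGroup.mk W, involution_of_trace (by simp [W]) (fun e => ?_), hedge A W ?_, hedge W B ?_⟩
    · have := (QuotientGroup.eq_one_iff W).mp e
      simpa [W] using (mem_center_sl this).1
    · rw [trace_mul_sl]; simp [W]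
      push Not at h1 h2
      intro e
      rcases hA' with h | h
      · have hB10 : B.1 1 0 ≠ 0 := hB'.resolve_left (fun h' => h' (h1 h))
        have h0 : A.1 1 0 = 0 := by_contra fun h' => hB10 (h2 h')
        exact h (by linear_combination e - h0)
      · have hB01 : B.1 0 1 ≠ 0 := hB'.resolve_right (fun h' => h' (h2 h))
        have h0 : A.1 0 1 = 0 := by_contra fun h' => hB01 (h1 h')
        exact h (by linear_combination e - h0)
    · rw [trace_mul_sl]; simp [W]
      push Not at h1 h2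
      intro e
      rcases hB' with h | h
      · have h01 : A.1 0 1 = 0 := by_contra fun h' => h (h1 h')
        have hA10 : A.1 1 0 ≠ 0 := hA'.resolve_left fun h' => h' h01
        exact h (by linear_combination e - h2 hA10)
      · have h10 : A.1 1 0 = 0 := by_contra fun h' => h (h2 h')
        have hA01 : A.1 0 1 ≠ 0 := hA'.resolve_right fun h' => h' h10
        exact h (by linear_combination e - h1 hA01)
  -- odd characteristic: move the first involution to the standard one
  have hp2 : p ≠ 2 := by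
    rintro rfl
    rw [hn, Nat.pow_mod, Nat.mod_self, Nat.zero_pow hn0] at hodd
    omega
  have h2 : (2 : F) ≠ 0 := two_ne_zero_of_odd hodd
  obtain ⟨k, hk⟩ := exists_conj_stdInvol hodd (hinv hX).1 (hinv hX).2
  have hconj : ∀ U : PSL2, orderOf (k⁻¹ * U * k) = orderOf U := fun U => by
    rw [show k⁻¹ * U * k = MulAut.conj k⁻¹ U by rw [MulAut.conj_apply, inv_inv], MulEquiv.orderOf_eq]
  obtain ⟨B, hB⟩ := QuotientGroup.mk_surjective (k⁻¹ * Y * k)
  have hBo : orderOf (QuotientGroup.mk B : PSL2) = 2 := by rw [hB, hconj, hY]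
  have hJB : ¬ Odd (orderOf (QuotientGroup.mk (stdInvol F * B) : PSL2)) := by
    rw [QuotientGroup.mk_mul, hB, ← hk, show k⁻¹ * X * k * (k⁻¹ * Y * k) = k⁻¹ * (X * Y) * k by group, hconj]
    exact hXY
  suffices ∃ C : SL2, orderOf (QuotientGroup.mk C : PSL2) = 2 ∧
      Odd (orderOf (QuotientGroup.mk (stdInvol F * C) : PSL2)) ∧ Odd (orderOf (QuotientGroup.mk (C * B) : PSL2)) by
    obtain ⟨C, hC, hC1, hC2⟩ := this
    rw [QuotientGroup.mk_mul] at hC1 hC2
    refine ⟨k * QuotientGroup.mk C * k⁻¹, ?_, ?_, ?_⟩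
    · rw [← hconj, show k⁻¹ * (k * QuotientGroup.mk C * k⁻¹) * k = QuotientGroup.mk C by group, hC]
    · rwa [← hconj, show k⁻¹ * (X * (k * QuotientGroup.mk C * k⁻¹)) * k = k⁻¹ * X * k * QuotientGroup.mk C by group, hk]
    · rwa [← hconj, show k⁻¹ * (k * QuotientGroup.mk C * k⁻¹ * Y) * k = QuotientGroup.mk C * (k⁻¹ * Y * k) by group, ← hB]
  have hBt := trace_zero_of_involution h2 (hinv hBo).1 (hinv hBo).2
  have hBd := B.2
  rw [Matrix.det_fin_two] at hBd
  set a := B.1 0 0 with ha
  set b := B.1 0 1 with hb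
  set c := B.1 1 0 with hc
  have hB11 : B.1 1 1 = -a := by linear_combination hBt
  rw [hB11] at hBd
  have htrJB : (stdInvol F * B).1 0 0 + (stdInvol F * B).1 1 1 = b - c := by
    rw [trace_mul_sl]; simp [stdInvol, ← hb, ← hc]; ring
  have hbc : b - c ≠ 2 := fun e => hJB (odd_orderOf_unipotent p hp2 (c := 1) (by norm_num) (by
    rw [htrJB, e]; norm_num))
  rcases (show Fintype.card F % 4 = 1 ∨ Fintype.card F % 4 = 3 by omega) with h1 | h3
  · obtain ⟨i, hi⟩ : IsSquare (-1 : F) := FiniteField.isSquare_neg_one_iff.mpr (by omega)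
    have hd0 : 2 - b + c ≠ 0 := fun e => hbc (by linear_combination -e)
    set D := 2 - b + c with hD
    let C : SL2 := ⟨!![(2 * a - i * (b + c)) / D, 2 * (-1 + b + i * a) / D;
        2 * (1 + c + i * a) / D, -((2 * a - i * (b + c)) / D)], by
      rw [Matrix.det_fin_two_of]
      field_simp
      rw [hD]
      linear_combination (4 * a ^ 2 + (b + c) ^ 2) * hi⟩
    have hCt : C.1 0 0 + C.1 1 1 = 0 := by simp [C]
    have e1 : (stdInvol F * C).1 0 0 + (stdInvol F * C).1 1 1 = (-1 : F) + -1 := by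
      rw [trace_mul_sl]; simp [stdInvol, C]
      field_simp
      rw [hD]
      ring
    have e2 : (C * B).1 0 0 + (C * B).1 1 1 = (-1 : F) + -1 := by
      rw [trace_mul_sl]; simp [C, ← ha, ← hb, ← hc, hB11]
      field_simp
      rw [hD]
      linear_combination (-4) * hBd
    refine ⟨C, involution_of_trace hCt (fun e => ?_), odd_orderOf_unipotent p hp2 (c := -1) (by norm_num) e1,
      odd_orderOf_unipotent p hp2 (c := -1) (by norm_num) e2⟩
    obtain ⟨e01, e10, e11⟩ := mem_center_sl ((QuotientGroup.eq_one_iff C).mp e)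
    have hdC := C.2
    rw [Matrix.det_fin_two, e01, e10, e11] at hdC
    have : C.1 0 0 = 0 := mul_left_cancel₀ h2 (by linear_combination hCt - e11)
    rw [this] at hdC
    simp at hdC
  · have h7 : 7 ≤ Fintype.card F := by omega
    have hn' : ¬ IsSquare ((b - c) ^ 2 - 4) := by
      intro hsq
      by_cases h0 : (b - c) ^ 2 - 4 = 0
      · refine hJB (odd_orderOf_unipotent p hp2 (c := (b - c) / 2) ?_ ?_)
        · field_simp; linear_combination h0
        · rw [htrJB]; field_simp; ring
      · exact hJB (odd_orderOf_split h3 (by rw [htrJB]; exact h0) (by rw [htrJB]; exact hsq))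
    obtain ⟨x, y, d, hT, ⟨hd, hd'⟩, he, he'⟩ := exists_common_split (x₀ := 2 * a) (y₀ := b + c) (d₀ := b - c) h3 h7
      (by linear_combination (-4 : F) * hBd) hn'
    let C : SL2 := ⟨!![x / 2, (y + d) / 2; (y - d) / 2, -(x / 2)], by
      rw [Matrix.det_fin_two_of]; field_simp; linear_combination -hT⟩
    have hCt : C.1 0 0 + C.1 1 1 = 0 := by simp [C]
    have e1 : (stdInvol F * C).1 0 0 + (stdInvol F * C).1 1 1 = d := by
      rw [trace_mul_sl]; simp [stdInvol, C]; field_simp; ring
    have e2 : (C * B).1 0 0 + (C * B).1 1 1 = (x * (2 * a) + y * (b + c) - d * (b - c)) / 2 := by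
      rw [trace_mul_sl]; simp [C, ← ha, ← hb, ← hc, hB11]; field_simp; ring
    refine ⟨C, involution_of_trace hCt (fun e => ?_), odd_orderOf_split h3 (by rwa [e1]) (by rwa [e1]),
      odd_orderOf_split h3 (by rwa [e2]) (by rwa [e2])⟩
    obtain ⟨e01, e10, e11⟩ := mem_center_sl ((QuotientGroup.eq_one_iff C).mp e)
    have hdC := C.2
    rw [Matrix.det_fin_two, e01, e10, e11] at hdC
    have : C.1 0 0 = 0 := mul_left_cancel₀ h2 (by linear_combination hCt - e11)
    rw [this] at hdC
    simp at hdC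

/-- Some two distinct involutions have a product of even order. -/
theorem exists_involutions_even_product (h4 : 4 ≤ Fintype.card F) :
    ∃ X Y : PSL2, orderOf X = 2 ∧ orderOf Y = 2 ∧ X ≠ Y ∧ ¬ Odd (orderOf (X * Y)) := by
  classical
  obtain ⟨p, hpp, hp, n, hn0, hn⟩ := exists_char (F := F)
  haveI := Fact.mk hpp
  suffices ∃ A B : SL2, A.1 0 0 + A.1 1 1 = 0 ∧ B.1 0 0 + B.1 1 1 = 0 ∧ (A * B).1 0 0 + (A * B).1 1 1 = 0 ∧
      (QuotientGroup.mk A : PSL2) ≠ 1 ∧ (QuotientGroup.mk B : PSL2) ≠ 1 ∧ (QuotientGroup.mk (A * B) : PSL2) ≠ 1 by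
    obtain ⟨A, B, hA, hB, hAB, hA1, hB1, hAB1⟩ := this
    refine ⟨_, _, involution_of_trace hA hA1, involution_of_trace hB hB1, fun e => hAB1 ?_, ?_⟩
    · rw [QuotientGroup.mk_mul, e]; exact mk_sq_eq_one_of_trace hB
    · rw [← QuotientGroup.mk_mul, involution_of_trace hAB hAB1]; decide
  rcases Nat.mod_two_eq_zero_or_one (Fintype.card F) with hev | hodd
  · obtain rfl : p = 2 := ((Nat.prime_dvd_prime_iff_eq Nat.prime_two hpp).mp
      (Nat.prime_two.dvd_of_dvd_pow (hn ▸ Nat.dvd_of_mod_eq_zero hev))).symm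
    have h20 : (2 : F) = 0 := CharTwo.two_eq_zero
    obtain ⟨r, hr⟩ : ∃ r : F, r ∉ ({0, 1} : Finset F) := by
      by_contra hcon
      push Not at hcon
      have := Finset.card_le_card (fun x _ => hcon x : (Finset.univ : Finset F) ⊆ {0, 1})
      rw [Finset.card_univ] at this
      have := Finset.card_le_two (a := (0 : F)) (b := 1)
      omega
    simp at hr
    let U : F → SL2 := fun t => ⟨!![1, t; 0, 1], by simp [Matrix.det_fin_two]⟩
    have hU : ∀ t : F, t ≠ 0 → (QuotientGroup.mk (U t) : PSL2) ≠ 1 := fun t ht e => ht (by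
      simpa [U] using (mem_center_sl ((QuotientGroup.eq_one_iff (U t)).mp e)).1)
    refine ⟨U 1, U r, by simp [U]; linear_combination h20, by simp [U]; linear_combination h20,
      by rw [trace_mul_sl]; simp [U]; linear_combination h20, hU 1 one_ne_zero, hU r hr.1, fun e => ?_⟩
    have := (mem_center_sl ((QuotientGroup.eq_one_iff (U 1 * U r)).mp e)).1
    change ((U 1).1 * (U r).1) 0 1 = 0 at this
    simp [U] at this
    exact hr.2 (by linear_combination this - h20)
  · have h2 : (2 : F) ≠ 0 := two_ne_zero_of_odd hodd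
    obtain ⟨a, b, hab⟩ := exists_sq_add_sq_eq_neg_one (F := F) h2
    let B : SL2 := ⟨!![a, b; b, -a], by rw [Matrix.det_fin_two_of]; linear_combination -hab⟩
    have hJ : (QuotientGroup.mk (stdInvol F) : PSL2) ≠ 1 := fun e => by
      simpa [stdInvol] using (mem_center_sl ((QuotientGroup.eq_one_iff (stdInvol F)).mp e)).1
    have hne : ∀ {a b : F}, a ^ 2 + b ^ 2 = -1 → ∀ g : SL2, (g : Matrix (Fin 2) (Fin 2) F) = !![a, b; b, -a] →
        (QuotientGroup.mk g : PSL2) ≠ 1 := by
      intro a b hab g hg e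
      obtain ⟨e01, -, e11⟩ := mem_center_sl ((QuotientGroup.eq_one_iff g).mp e)
      simp [hg] at e01 e11
      have ha : a = 0 := mul_left_cancel₀ h2 (by linear_combination -e11)
      exact one_ne_zero (show (1 : F) = 0 by linear_combination hab - a * ha - b * e01)
    refine ⟨stdInvol F, B, by simp [stdInvol], by simp [B], ?_, hJ, hne hab B rfl,
      hne (a := -b) (b := a) (by linear_combination hab) _ ?_⟩
    · rw [trace_mul_sl]; simp [stdInvol, B]
    · show (!![0, -1; 1, 0] : Matrix (Fin 2) (Fin 2) F) * !![a, b; b, -a] = _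
      rw [Matrix.mul_fin_two]; simp

theorem isConj_of_involutions (h4 : 4 ≤ Fintype.card F) {X Y : PSL2} (hX : orderOf X = 2) (hY : orderOf Y = 2) :
    IsConj X Y := by
  classical
  have hinv : ∀ {U : PSL2}, orderOf U = 2 → U ^ 2 = 1 ∧ U ≠ 1 := fun {U} h =>
    ⟨by have h' := pow_orderOf_eq_one U; rwa [h] at h', fun e => by rw [e, orderOf_one] at h; omega⟩
  rcases Nat.mod_two_eq_zero_or_one (Fintype.card F) with hev | hodd
  swap
  · obtain ⟨c, hc⟩ := exists_conj_involution hodd (hinv hX).1 (hinv hX).2 (hinv hY).1 (hinv hY).2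
    exact isConj_iff.mpr ⟨c⁻¹, by rw [inv_inv]; exact hc⟩
  obtain ⟨p, hpp, hp, n, hn0, hn⟩ := exists_char (F := F)
  obtain rfl : p = 2 := ((Nat.prime_dvd_prime_iff_eq Nat.prime_two hpp).mp
    (Nat.prime_two.dvd_of_dvd_pow (hn ▸ Nat.dvd_of_mod_eq_zero hev))).symm
  haveI := Fact.mk hpp
  have h20 : (2 : F) = 0 := CharTwo.two_eq_zero
  let T : SL2 := ⟨!![0, -1; 1, 0], by simp [Matrix.det_fin_two]⟩
  suffices ∀ g : SL2, orderOf (QuotientGroup.mk g : PSL2) = 2 → IsConj (QuotientGroup.mk g : PSL2) (QuotientGroup.mk T) by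
    obtain ⟨A, rfl⟩ := QuotientGroup.mk_surjective X
    obtain ⟨B, rfl⟩ := QuotientGroup.mk_surjective Y
    exact (this A hX).trans (this B hY).symm
  intro g hg
  have ht : g.1 0 0 + g.1 1 1 = 0 := by
    by_contra ht
    exact absurd (odd_orderOf_of_trace_ne_zero ht) (by rw [hg]; decide)
  have he : g.1 1 1 - g.1 0 0 = 0 := by linear_combination ht - g.1 0 0 * h20
  obtain ⟨v0, v1, hv⟩ : ∃ v0 v1 : F,
      g.1 1 0 * v0 ^ 2 + (g.1 1 1 - g.1 0 0) * v0 * v1 - g.1 0 1 * v1 ^ 2 = 1 := by
    by_cases h10 : g.1 1 0 = 0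
    · have h01 : g.1 0 1 ≠ 0 := fun h01 => (hinv hg).2 (mk_eq_one_of_scalar (c := g.1 0 0) (by
        ext i j; fin_cases i <;> fin_cases j <;> simp [h10, h01]; linear_combination he))
      obtain ⟨r, hr⟩ := (frobeniusEquiv F 2).surjective (g.1 0 1)⁻¹
      refine ⟨0, r, ?_⟩
      rw [show r ^ 2 = (g.1 0 1)⁻¹ from hr]
      field_simp
      linear_combination -h20
    · obtain ⟨r, hr⟩ := (frobeniusEquiv F 2).surjective (g.1 1 0)⁻¹
      refine ⟨r, 0, ?_⟩
      rw [show r ^ 2 = (g.1 1 0)⁻¹ from hr, mul_inv_cancel₀ h10]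
      ring
  obtain ⟨P, hP⟩ := exists_conj_corner g one_ne_zero hv
  refine isConj_iff.mpr ⟨QuotientGroup.mk P, ?_⟩
  rw [← QuotientGroup.mk_inv, ← QuotientGroup.mk_mul, ← QuotientGroup.mk_mul]
  refine congrArg _ (Subtype.ext ?_)
  rw [hP, ht]
  simp [T]

end Cfsg.Lib.Dickson
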