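import Cfsg.Agent.Lib.Dickson.Centralizer
import Cfsg.Agent.Lib.Dickson.Necessity

/-!
# Conjugacy and trace in `SL(2, q)`
-/

set_option autoImplicit false
set_option linter.unusedSectionVars false

open Matrix

namespace Cfsg.Lib.Dickson

variable {F : Type*} [Field F] [Fintype F]

local notation "SL2" => Matrix.SpecialLinearGroup (Fin 2) F
local notation "PSL2" => Matrix.ProjectiveSpecialLinearGroup (Fin 2) F

/-- The values of `det (v, g v)` give the possible corners of the conjugates of `g`. -/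
theorem exists_conj_corner (g : SL2) {v0 v1 e : F} (he0 : e ≠ 0)
    (he : g.1 1 0 * v0 ^ 2 + (g.1 1 1 - g.1 0 0) * v0 * v1 - g.1 0 1 * v1 ^ 2 = e) :
    ∃ P : SL2, (P * g * P⁻¹).1 = !![0, -e⁻¹; e, g.1 0 0 + g.1 1 1] := by
  have hd := g.2
  rw [Matrix.det_fin_two] at hd
  set w0 := g.1 0 0 * v0 + g.1 0 1 * v1 with hw0
  set w1 := g.1 1 0 * v0 + g.1 1 1 * v1 with hw1
  have hvw : v0 * w1 - v1 * w0 = e := by rw [hw0, hw1, ← he]; ring
  let Q : SL2 := ⟨!![v0, w0 * e⁻¹; v1, w1 * e⁻¹], by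
    rw [Matrix.det_fin_two_of]
    linear_combination e⁻¹ * hvw + mul_inv_cancel₀ he0⟩
  let T : SL2 := ⟨!![0, -e⁻¹; e, g.1 0 0 + g.1 1 1], by
    rw [Matrix.det_fin_two_of]; linear_combination mul_inv_cancel₀ he0⟩
  have key : g * Q = Q * T := by
    apply Subtype.ext
    show g.1 * Q.1 = Q.1 * !![0, -e⁻¹; e, g.1 0 0 + g.1 1 1]
    ext i j
    fin_cases i <;> fin_cases j <;> simp [Q, Matrix.mul_apply, Fin.sum_univ_two]
    · linear_combination -hw0 - w0 * mul_inv_cancel₀ he0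
    · linear_combination g.1 0 0 * e⁻¹ * hw0 + g.1 0 1 * e⁻¹ * hw1 - v0 * e⁻¹ * hd -
        (g.1 0 0 + g.1 1 1) * e⁻¹ * hw0
    · linear_combination -hw1 - w1 * mul_inv_cancel₀ he0
    · linear_combination g.1 1 0 * e⁻¹ * hw0 + g.1 1 1 * e⁻¹ * hw1 - v1 * e⁻¹ * hd -
        (g.1 0 0 + g.1 1 1) * e⁻¹ * hw1
  refine ⟨Q⁻¹, ?_⟩
  rw [show Q⁻¹ * g * Q⁻¹⁻¹ = Q⁻¹ * (g * Q) by group, key, inv_mul_cancel_left]

theorem exists_form_one (g : SL2) (ht : (g.1 0 0 + g.1 1 1) ^ 2 ≠ 4) :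
    ∃ v0 v1 : F, g.1 1 0 * v0 ^ 2 + (g.1 1 1 - g.1 0 0) * v0 * v1 - g.1 0 1 * v1 ^ 2 = 1 := by
  have hd := g.2
  rw [Matrix.det_fin_two] at hd
  by_cases h10 : g.1 1 0 = 0
  · have hne : g.1 1 1 - g.1 0 0 ≠ 0 := fun h => ht (by rw [h10] at hd; linear_combination 4 * hd + (g.1 1 1 - g.1 0 0) * h)
    refine ⟨(1 + g.1 0 1) / (g.1 1 1 - g.1 0 0), 1, ?_⟩
    rw [h10]
    field_simp
    ring
  · by_cases h2 : (2 : F) = 0
    · haveI : CharP F 2 := CharTwo.of_one_ne_zero_of_two_eq_zero one_ne_zero h2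
      obtain ⟨r, hr⟩ := (frobeniusEquiv F 2).surjective (g.1 1 0)⁻¹
      refine ⟨r, 0, ?_⟩
      rw [show r ^ 2 = (g.1 1 0)⁻¹ from hr, mul_inv_cancel₀ h10]
      ring
    · have hodd : Fintype.card F % 2 = 1 := FiniteField.odd_card_of_char_ne_two fun h => h2 (by
        haveI : CharP F 2 := h ▸ ringChar.charP F
        exact_mod_cast CharP.cast_eq_zero F 2)
      set D : F := ((g.1 0 0 + g.1 1 1) ^ 2 - 4) / 4 with hD
      have h4 : (4 : F) ≠ 0 := by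
        rw [show (4 : F) = 2 * 2 by norm_num]; exact mul_ne_zero h2 h2
      have hD0 : D ≠ 0 := div_ne_zero (sub_ne_zero.mpr ht) h4
      obtain ⟨a, b, hab⟩ := FiniteField.exists_root_sum_quadratic (R := F) (f := Polynomial.X ^ 2)
        (g := Polynomial.C (-D) * Polynomial.X ^ 2 + Polynomial.C (-(g.1 1 0))) (Polynomial.degree_X_pow 2)
        (by compute_degree! <;> simp [hD0]) hodd
      simp at hab
      refine ⟨(a - (g.1 1 1 - g.1 0 0) * b / 2) / g.1 1 0, b, mul_left_cancel₀ h10 ?_⟩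
      rw [hD] at hab
      field_simp at hab ⊢
      linear_combination hab + 4 * b ^ 2 * hd

/-- Elements with the same trace `t`, `t² ≠ 4`, are conjugate. -/
theorem exists_conj_of_trace {g h : SL2} (he : g.1 0 0 + g.1 1 1 = h.1 0 0 + h.1 1 1)
    (ht : (g.1 0 0 + g.1 1 1) ^ 2 ≠ 4) : ∃ P : SL2, P * g * P⁻¹ = h := by
  obtain ⟨a, b, hab⟩ := exists_form_one g ht
  obtain ⟨c, d, hcd⟩ := exists_form_one h (he ▸ ht)
  obtain ⟨P, hP⟩ := exists_conj_corner g one_ne_zero hab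
  obtain ⟨R, hR⟩ := exists_conj_corner h one_ne_zero hcd
  refine ⟨R⁻¹ * P, ?_⟩
  have : P * g * P⁻¹ = R * h * R⁻¹ := Subtype.ext (by rw [hP, hR, he])
  calc R⁻¹ * P * g * (R⁻¹ * P)⁻¹ = R⁻¹ * (P * g * P⁻¹) * R := by group
    _ = h := by rw [this]; group

/-- A noncentral element is conjugate to one with vanishing corner. -/
theorem exists_conj_corner_of_ne_one {g : SL2} (h : (QuotientGroup.mk g : PSL2) ≠ 1) :
    ∃ (P : SL2) (e : F), e ≠ 0 ∧ (P * g * P⁻¹).1 = !![0, -e⁻¹; e, g.1 0 0 + g.1 1 1] := by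
  obtain ⟨v0, v1, hv⟩ : ∃ v0 v1 : F,
      g.1 1 0 * v0 ^ 2 + (g.1 1 1 - g.1 0 0) * v0 * v1 - g.1 0 1 * v1 ^ 2 ≠ 0 := by
    by_cases h10 : g.1 1 0 = 0
    · by_cases h01 : g.1 0 1 = 0
      · refine ⟨1, 1, ?_⟩
        rcases not_scalar_of_ne_one h with h' | h' | h'
        · exact absurd h01 h'
        · exact absurd h10 h'
        · simpa [h10, h01, sub_eq_zero] using (Ne.symm h')
      · exact ⟨0, 1, by simpa using h01⟩
    · exact ⟨1, 0, by simpa using h10⟩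
  obtain ⟨P, hP⟩ := exists_conj_corner g hv rfl
  exact ⟨P, _, hv, hP⟩

/-- Products of two conjugates: it is enough to solve a conic equation. -/
theorem exists_two_conjugates {g x : SL2} {P : SL2} {e : F} (he : e ≠ 0)
    (hP : (P * g * P⁻¹).1 = !![0, -e⁻¹; e, g.1 0 0 + g.1 1 1]) {a w : F}
    (hs : (x.1 0 0 + x.1 1 1) ^ 2 ≠ 4)
    (hw : a ^ 2 - (x.1 0 0 + x.1 1 1) * a + w ^ 2 + (x.1 0 0 + x.1 1 1) * w -
      (g.1 0 0 + g.1 1 1) * a * w + 1 = 0) :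
    ∃ u v : SL2, g = (u * x * u⁻¹) * (v * x * v⁻¹) := by
  set s := x.1 0 0 + x.1 1 1 with hsdef
  set τ := g.1 0 0 + g.1 1 1 with hτ
  let h : SL2 := ⟨!![a, w * e⁻¹; e * (s + w - a * τ), s - a], by
    rw [Matrix.det_fin_two_of]
    linear_combination -hw - (w * (s + w - a * τ)) * mul_inv_cancel₀ he⟩
  have h1 : h.1 0 0 + h.1 1 1 = s := by simp [h]
  have h2 : (h⁻¹ * (P * g * P⁻¹)).1 0 0 + (h⁻¹ * (P * g * P⁻¹)).1 1 1 = s := by
    show (Matrix.adjugate h.1 * (P * g * P⁻¹).1) 0 0 + (Matrix.adjugate h.1 * (P * g * P⁻¹).1) 1 1 = s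
    rw [hP]
    simp [h, Matrix.adjugate_fin_two, Matrix.mul_apply, Fin.sum_univ_two]
    linear_combination (s + w - a * τ - w) * mul_inv_cancel₀ he
  obtain ⟨u, hu⟩ := exists_conj_of_trace (g := x) (h := h) (by rw [h1]) hs
  obtain ⟨v, hv⟩ := exists_conj_of_trace (g := x) (h := h⁻¹ * (P * g * P⁻¹)) (by rw [h2]) hs
  refine ⟨P⁻¹ * u, P⁻¹ * v, ?_⟩
  calc g = P⁻¹ * (h * (h⁻¹ * (P * g * P⁻¹))) * P := by group
    _ = P⁻¹ * ((u * x * u⁻¹) * (v * x * v⁻¹)) * P := by rw [hu, hv]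
    _ = (P⁻¹ * u * x * (P⁻¹ * u)⁻¹) * (P⁻¹ * v * x * (P⁻¹ * v)⁻¹) := by group

end Cfsg.Lib.Dickson
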