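import Cfsg.Agent.Lib.Dickson.Centralizer
import Cfsg.Agent.Lib.Dickson.Necessity

/-!
# Orders of centralisers in `PSL(2, q)`
-/

set_option autoImplicit false
set_option linter.unusedSectionVars false

open Matrix
open scoped MatrixGroups

namespace Cfsg.Lib.Dickson

variable {F : Type*} [Field F] [Fintype F]

local notation "SL2" => Matrix.SpecialLinearGroup (Fin 2) F
local notation "PSL2" => Matrix.ProjectiveSpecialLinearGroup (Fin 2) F

/-- A Sylow subgroup of the defining characteristic has order `q`. -/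
theorem card_sylow_psl (p : ℕ) [Fact p.Prime] [CharP F p] (P : Sylow p PSL2) :
    Nat.card (P : Subgroup PSL2) = Fintype.card F := by
  obtain ⟨n, hpp, hn⟩ := FiniteField.card F p
  set q := Fintype.card F with hq
  have hG := Cfsg.Lib.Linear.Two.card_PSL_two (F := F)
  rw [← hq] at hG
  obtain ⟨m, hm⟩ := IsPGroup.iff_card.mp P.isPGroup'
  have hq2 : 2 ≤ q := two_le_card
  have hcop : ∀ j, (p ^ j).Coprime (q ^ 2 - 1) := fun j => by
    refine Nat.Coprime.pow_left j ((Nat.Prime.coprime_iff_not_dvd hpp).mpr fun h => hpp.not_dvd_one ?_)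
    have h1 : p ∣ q ^ 2 := dvd_pow (hn ▸ dvd_pow_self p n.pos.ne') two_ne_zero
    have := Nat.dvd_sub h1 h
    rwa [Nat.sub_sub_self (Nat.one_le_pow _ _ (by omega))] at this
  have hd : (p ^ (n : ℕ)).Coprime (Nat.gcd 2 (q - 1)) :=
    Nat.Coprime.coprime_dvd_right ((Nat.gcd_dvd_right _ _).trans (by
      rw [show q ^ 2 - 1 = (q + 1) * (q - 1) by
        have e := Nat.mul_self_sub_mul_self_eq q 1
        rw [mul_one] at e; rwa [sq]]
      exact dvd_mul_left _ _)) (hcop n)
  apply Nat.dvd_antisymm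
  · have h1 : Nat.card (P : Subgroup PSL2) ∣ q * (q ^ 2 - 1) :=
      hG ▸ dvd_mul_of_dvd_right (Subgroup.card_subgroup_dvd_card _) _
    rw [hm] at h1 ⊢
    exact (hcop m).dvd_of_dvd_mul_right h1
  · have h1 : q ∣ Nat.gcd 2 (q - 1) * (Nat.card (P : Subgroup PSL2) * (P : Subgroup PSL2).index) := by
      rw [Subgroup.card_mul_index, hG]; exact dvd_mul_right _ _
    have h2 : p ^ (n : ℕ) ∣ Nat.card (P : Subgroup PSL2) * (P : Subgroup PSL2).index :=
      hd.dvd_of_dvd_mul_left (hn.symm ▸ h1 : p ^ (n : ℕ) ∣ Nat.gcd 2 (q - 1) * _)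
    rw [hn]
    exact (Nat.Coprime.pow_left _ ((Nat.Prime.coprime_iff_not_dvd hpp).mpr P.not_dvd_index)).dvd_of_dvd_mul_right h2

/-- Inside the normaliser of a Sylow subgroup of the defining characteristic, only the Sylow subgroup
centralises one of its nontrivial elements. -/
theorem mem_stdSylow_of_commute (p : ℕ) [Fact p.Prime] [CharP F p] {y u : PSL2}
    (hy : y ∈ Subgroup.normalizer (((stdSylow (F := F) p) : Subgroup PSL2) : Set PSL2))
    (hu : u ∈ ((stdSylow (F := F) p) : Subgroup PSL2)) (hu1 : u ≠ 1) (hc : y * u = u * y) :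
    y ∈ ((stdSylow (F := F) p) : Subgroup PSL2) := by
  rw [normalizer_stdSylow] at hy
  rw [stdSylow_coe] at hu ⊢
  set π := QuotientGroup.mk' (Subgroup.center SL2)
  obtain ⟨b, hb, rfl⟩ := hy
  obtain ⟨t, ht, rfl⟩ := hu
  obtain ⟨t00, t11, t10⟩ := Cfsg.Lib.Linear.Two.mem_UT.mp ht
  have hb10 : b 1 0 = 0 := mem_borelSL.mp hb
  have hd := b.2
  rw [Matrix.det_fin_two, hb10, mul_zero, sub_zero] at hd
  have he : π (b * t) = π (t * b) := by rw [map_mul, map_mul, hc]
  obtain ⟨z, hz, hz'⟩ := (QuotientGroup.mk'_eq_mk' _).mp he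
  obtain ⟨z01, z10, z11⟩ := mem_center_sl hz
  have e0 := congrArg (fun m : SL2 => m.1 0 0) hz'
  have e1 := congrArg (fun m : SL2 => m.1 0 1) hz'
  simp [Matrix.mul_apply, Fin.sum_univ_two, t00, t11, t10, z01, z10, z11, hb10] at e0 e1
  have hb00 : b 0 0 ≠ 0 := fun h => by rw [h, zero_mul] at hd; exact zero_ne_one hd
  have hz1 : z 0 0 = 1 := mul_left_cancel₀ hb00 (by linear_combination e0)
  have ht01 : t 0 1 ≠ 0 := by
    intro h
    refine hu1 ?_
    rw [show t = 1 from Subtype.ext (by ext i j; fin_cases i <;> fin_cases j <;> simp [t00, t11, t10, h]), map_one]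
  rw [hz1] at e1
  have hbb : b 0 0 = b 1 1 := mul_right_cancel₀ ht01 (by linear_combination e1)
  have hb2 : b 0 0 ^ 2 = 1 := by linear_combination hd + b 0 0 * hbb
  let t' : SL2 := ⟨!![1, b 0 1 * b 0 0; 0, 1], by simp [Matrix.det_fin_two_of]⟩
  refine ⟨t', Cfsg.Lib.Linear.Two.mem_UT.mpr ⟨by simp [t'], by simp [t'], by simp [t']⟩, ?_⟩
  refine (QuotientGroup.mk'_eq_mk' _).mpr ⟨t'⁻¹ * b, ?_, by group⟩
  refine mem_center_of_eq_scalar (c := b 0 0) hb2 ?_
  show Matrix.adjugate t'.1 * b.1 = _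
  ext i j
  fin_cases i <;> fin_cases j <;> simp [t', Matrix.adjugate_fin_two, Matrix.mul_apply, hb10, ← hbb]
  linear_combination (-(b 0 1)) * hb2

theorem mem_sylow_of_commute (p : ℕ) [Fact p.Prime] [CharP F p] (P : Sylow p PSL2) {y u : PSL2}
    (hy : y ∈ Subgroup.normalizer ((P : Subgroup PSL2) : Set PSL2))
    (hu : u ∈ (P : Subgroup PSL2)) (hu1 : u ≠ 1) (hc : y * u = u * y) : y ∈ (P : Subgroup PSL2) := by
  obtain ⟨g, hg⟩ := MulAction.exists_smul_eq PSL2 (stdSylow (F := F) p) P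
  subst hg
  have hy1 : y • (g • stdSylow (F := F) p) = g • stdSylow (F := F) p := Sylow.smul_eq_iff_mem_normalizer.mpr hy
  have hy' : g⁻¹ * y * g ∈ Subgroup.normalizer (((stdSylow (F := F) p) : Subgroup PSL2) : Set PSL2) :=
    Sylow.smul_eq_iff_mem_normalizer.mp (by rw [mul_smul, mul_smul, hy1, inv_smul_smul])
  rw [Sylow.coe_subgroup_smul] at hu ⊢
  obtain ⟨u', hu', rfl⟩ := hu
  refine ⟨g⁻¹ * y * g, mem_stdSylow_of_commute p hy' hu' (fun h => hu1 (by simp [h])) ?_, by simp [mul_assoc]⟩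
  simp only [MulDistribMulAction.toMonoidEnd_apply, MulDistribMulAction.toMonoidHom_apply, MulAut.smul_def,
    MulAut.conj_apply] at hc
  calc g⁻¹ * y * g * u' = g⁻¹ * (y * (g * u' * g⁻¹)) * g := by group
    _ = u' * (g⁻¹ * y * g) := by rw [hc]; group

/-- The centraliser of a nontrivial element of a Sylow subgroup of the defining characteristic. -/
theorem centralizer_eq_sylow (p : ℕ) [Fact p.Prime] [CharP F p] (P : Sylow p PSL2) {x : PSL2}
    (hx : x ∈ (P : Subgroup PSL2)) (hx1 : x ≠ 1) :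
    Subgroup.centralizer ({x} : Set PSL2) = (P : Subgroup PSL2) := by
  have hcomm : ∀ a ∈ (P : Subgroup PSL2), ∀ b ∈ (P : Subgroup PSL2), a * b = b * a := by
    obtain ⟨g, hg⟩ := MulAction.exists_smul_eq PSL2 (stdSylow (F := F) p) P
    subst hg
    rw [Sylow.coe_subgroup_smul]
    rintro _ ⟨a, ha, rfl⟩ _ ⟨b, hb, rfl⟩
    simp only [MulDistribMulAction.toMonoidEnd_apply, MulDistribMulAction.toMonoidHom_apply, MulAut.smul_def,
      MulAut.conj_apply]
    suffices h : a * b = b * a by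
      calc g * a * g⁻¹ * (g * b * g⁻¹) = g * (a * b) * g⁻¹ := by group
        _ = g * b * g⁻¹ * (g * a * g⁻¹) := by rw [h]; group
    rw [SetLike.mem_coe, stdSylow_coe] at ha hb
    obtain ⟨a, ha, rfl⟩ := ha
    obtain ⟨b, hb, rfl⟩ := hb
    rw [← map_mul, ← map_mul]
    congr 1
    obtain ⟨a00, a11, a10⟩ := Cfsg.Lib.Linear.Two.mem_UT.mp ha
    obtain ⟨b00, b11, b10⟩ := Cfsg.Lib.Linear.Two.mem_UT.mp hb
    apply Subtype.ext
    show a.1 * b.1 = b.1 * a.1
    ext i j
    fin_cases i <;> fin_cases j <;> simp [Matrix.mul_apply, a00, a11, a10, b00, b11, b10, add_comm]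
  have hPC : (P : Subgroup PSL2) ≤ Subgroup.centralizer ({x} : Set PSL2) := fun a ha =>
    Subgroup.mem_centralizer_singleton_iff.mpr (hcomm a ha x hx)
  refine le_antisymm ?_ hPC
  set C := Subgroup.centralizer ({x} : Set PSL2) with hC
  haveI : ((Subgroup.zpowers x).subgroupOf C).Normal := ⟨fun a ha b => by
    have hba : (b : PSL2) * a = a * b := by
      obtain ⟨k, hk⟩ := Subgroup.mem_zpowers_iff.mp (Subgroup.mem_subgroupOf.mp ha)
      rw [← hk]
      exact (Commute.zpow_right (Subgroup.mem_centralizer_singleton_iff.mp b.2) k).eq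
    rw [show b * a * b⁻¹ = a from Subtype.ext (by simp [hba])]
    exact ha⟩
  have hxC : x ∈ C := Subgroup.mem_centralizer_singleton_iff.mpr rfl
  obtain ⟨-, Q, hQ⟩ := le_normalizer_of_normal_pgroup p C ((Subgroup.zpowers x).subgroupOf C) (by
      obtain ⟨k, hk⟩ := IsPGroup.iff_card.mp P.isPGroup'
      refine IsPGroup.of_injective (P.isPGroup'.to_le (Subgroup.zpowers_le.mpr hx))
        (Subgroup.subgroupOfEquivOfLe (Subgroup.zpowers_le.mpr hxC)).toMonoidHom
        (Subgroup.subgroupOfEquivOfLe (Subgroup.zpowers_le.mpr hxC)).injective)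
    (fun h => hx1 (by
      have : (⟨x, hxC⟩ : C) ∈ (Subgroup.zpowers x).subgroupOf C := Subgroup.mem_zpowers x
      rw [h, Subgroup.mem_bot] at this
      exact congrArg Subtype.val this))
  have hQP : Q = P := by
    refine Sylow.ext ?_
    have h := P.isPGroup'.inf_normalizer_sylow Q
    have h' : (P : Subgroup PSL2) ≤ (Q : Subgroup PSL2) := fun a ha =>
      (h.le (show a ∈ (P : Subgroup PSL2) ⊓ _ from ⟨ha, hPC.trans hQ ha⟩)).2
    exact P.is_maximal' Q.isPGroup' h'
  subst hQP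
  intro y hy
  exact mem_sylow_of_commute p Q (hQ hy) hx hx1 (Subgroup.mem_centralizer_singleton_iff.mp hy)

/-- Elements whose order is divisible by the characteristic have centralisers of order `q`. -/
theorem card_centralizer_unipotent (p : ℕ) [Fact p.Prime] [CharP F p] {x : PSL2} (hx : orderOf x = p) :
    Nat.card (Subgroup.centralizer ({x} : Set PSL2)) = Fintype.card F := by
  obtain ⟨P, hP⟩ := (IsPGroup.of_card (p := p) (n := 1) (by rw [Nat.card_zpowers, hx, pow_one]) :
    IsPGroup p (Subgroup.zpowers x)).exists_le_sylow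
  have hx1 : x ≠ 1 := fun h => by
    rw [h, orderOf_one] at hx
    exact (Fact.out : p.Prime).one_lt.ne hx
  rw [centralizer_eq_sylow p P (hP (Subgroup.mem_zpowers x)) hx1, card_sylow_psl p P]

theorem not_dvd_card_centralizer (p : ℕ) [Fact p.Prime] [CharP F p] {x : PSL2} (hx1 : x ≠ 1)
    (hp : ¬ p ∣ orderOf x) : ¬ p ∣ Nat.card (Subgroup.centralizer ({x} : Set PSL2)) := by
  intro h
  obtain ⟨u, hu⟩ := exists_prime_orderOf_dvd_card' p h
  rw [← Subgroup.orderOf_coe] at hu
  obtain ⟨P, hP⟩ := (IsPGroup.of_card (p := p) (n := 1) (by rw [Nat.card_zpowers, hu, pow_one]) :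
    IsPGroup p (Subgroup.zpowers (u : PSL2))).exists_le_sylow
  have hu1 : (u : PSL2) ≠ 1 := fun h => by
    rw [h, orderOf_one] at hu
    exact (Fact.out : p.Prime).one_lt.ne hu
  have hxP : x ∈ (P : Subgroup PSL2) := by
    rw [← centralizer_eq_sylow p P (hP (Subgroup.mem_zpowers _)) hu1]
    exact Subgroup.mem_centralizer_singleton_iff.mpr (Subgroup.mem_centralizer_singleton_iff.mp u.2).symm
  obtain ⟨k, hk⟩ := P.isPGroup' ⟨x, hxP⟩
  obtain ⟨j, -, hj⟩ := (Nat.dvd_prime_pow Fact.out).mp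
    (orderOf_dvd_of_pow_eq_one (congrArg Subtype.val hk : x ^ p ^ k = 1))
  rcases j.eq_zero_or_pos with rfl | hj0
  · exact hx1 (orderOf_eq_one_iff.mp (by rw [hj, pow_zero]))
  · exact hp (hj ▸ dvd_pow_self p hj0.ne')

theorem central_sq_dihedral {k : ℕ} {z : DihedralGroup k} (hz : z * DihedralGroup.sr 0 = DihedralGroup.sr 0 * z) :
    z * z = 1 := by
  cases z with
  | r i =>
    simp only [DihedralGroup.r_mul_sr, DihedralGroup.sr_mul_r, DihedralGroup.sr.injEq] at hz
    rw [DihedralGroup.r_mul_r, DihedralGroup.one_def]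
    congr 1
    linear_combination -hz
  | sr i => rw [DihedralGroup.sr_mul_sr, sub_self, DihedralGroup.one_def]

/-- Shape of the centraliser of a nontrivial element of order prime to the characteristic. -/
theorem centralizer_cases (p : ℕ) [Fact p.Prime] [CharP F p] {x : PSL2} (hx1 : x ≠ 1) (hp : ¬ p ∣ orderOf x) :
    ∃ k : ℕ, (k ∣ (Fintype.card F + 1) / Nat.gcd 2 (Fintype.card F - 1) ∨
        k ∣ (Fintype.card F - 1) / Nat.gcd 2 (Fintype.card F - 1)) ∧
      (Nat.card (Subgroup.centralizer ({x} : Set PSL2)) = k ∨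
        (x ^ 2 = 1 ∧ Nat.card (Subgroup.centralizer ({x} : Set PSL2)) = 2 * k)) := by
  set C := Subgroup.centralizer ({x} : Set PSL2) with hC
  have hxC : x ∈ C := Subgroup.mem_centralizer_singleton_iff.mpr rfl
  rcases psl_subgroup_cases p C with ⟨k, hk, ⟨-, hc⟩ | ⟨⟨e⟩⟩⟩ | ⟨hpC, -⟩ | ⟨hnn, -⟩
  · exact ⟨k, hk, Or.inl hc⟩
  · refine ⟨k, hk, Or.inr ⟨?_, by rw [Nat.card_congr e.toEquiv, DihedralGroup.nat_card]⟩⟩
    have h := central_sq_dihedral (z := e ⟨x, hxC⟩) (by
      obtain ⟨c, hc⟩ := e.surjective (DihedralGroup.sr 0)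
      rw [← hc, ← map_mul, ← map_mul]
      exact congrArg e (Subtype.ext (Subgroup.mem_centralizer_singleton_iff.mp c.2).symm))
    rw [← map_mul, MulEquiv.map_eq_one_iff] at h
    rw [sq]
    exact congrArg Subtype.val h
  · exact absurd hpC (not_dvd_card_centralizer p hx1 hp)
  · exfalso
    have hn : ((Subgroup.zpowers x).subgroupOf C).Normal := ⟨fun a ha b => by
      have hba : (b : PSL2) * a = a * b := by
        obtain ⟨k, hk⟩ := Subgroup.mem_zpowers_iff.mp (Subgroup.mem_subgroupOf.mp ha)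
        rw [← hk]
        exact (Commute.zpow_right (Subgroup.mem_centralizer_singleton_iff.mp b.2) k).eq
      rw [show b * a * b⁻¹ = a from Subtype.ext (by simp [hba])]
      exact ha⟩
    haveI : IsCyclic ((Subgroup.zpowers x).subgroupOf C) :=
      isCyclic_of_injective (Subgroup.subgroupOfEquivOfLe (Subgroup.zpowers_le.mpr hxC)).toMonoidHom
        (Subgroup.subgroupOfEquivOfLe (Subgroup.zpowers_le.mpr hxC)).injective
    refine hx1 ?_
    have h := hnn _ hn inferInstance
    have : (⟨x, hxC⟩ : C) ∈ (Subgroup.zpowers x).subgroupOf C := Subgroup.mem_zpowers x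
    rw [h, Subgroup.mem_bot] at this
    exact congrArg Subtype.val this

/-- The centraliser of a semisimple element which is not an involution is a maximal torus. -/
theorem card_centralizer_semisimple (h4 : 4 ≤ Fintype.card F) (p : ℕ) [Fact p.Prime] [CharP F p] {x : PSL2}
    (hx : x ^ 2 ≠ 1) (hp : ¬ p ∣ orderOf x) :
    Nat.card (Subgroup.centralizer ({x} : Set PSL2)) =
        (Fintype.card F + 1) / Nat.gcd 2 (Fintype.card F - 1) ∧
        orderOf x ∣ (Fintype.card F + 1) / Nat.gcd 2 (Fintype.card F - 1) ∨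
      Nat.card (Subgroup.centralizer ({x} : Set PSL2)) =
        (Fintype.card F - 1) / Nat.gcd 2 (Fintype.card F - 1) ∧
        orderOf x ∣ (Fintype.card F - 1) / Nat.gcd 2 (Fintype.card F - 1) := by
  have hge := card_centralizer_ge hx
  obtain ⟨k, hk, hc | ⟨h2, -⟩⟩ := centralizer_cases p (fun h => hx (by rw [h, one_pow])) hp
  swap
  · exact absurd h2 hx
  set q := Fintype.card F
  have hord : orderOf x ∣ Nat.card (Subgroup.centralizer ({x} : Set PSL2)) :=
    Subgroup.orderOf_dvd_natCard _ (Subgroup.mem_centralizer_singleton_iff.mpr rfl)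
  rw [hc] at hge hord ⊢
  have hd1 := Nat.gcd_dvd_right 2 (q - 1)
  have hd0 : Nat.gcd 2 (q - 1) = 1 ∨ Nat.gcd 2 (q - 1) = 2 :=
    (Nat.dvd_prime Nat.prime_two).mp (Nat.gcd_dvd_left _ _)
  rcases hk with hk | hk
  · left
    refine ⟨?_, hord.trans hk⟩
    obtain ⟨j, hj⟩ := hk
    rcases Nat.lt_or_ge j 2 with hj2 | hj2
    · interval_cases j
      · rcases hd0 with h | h <;> rw [h] at hj <;> omega
      · omega
    · exfalso
      have : k * 2 ≤ k * j := Nat.mul_le_mul_left k hj2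
      rcases hd0 with h | h <;> rw [h] at hge hj hd1 <;> omega
  · right
    refine ⟨?_, hord.trans hk⟩
    refine le_antisymm (Nat.le_of_dvd (by rcases hd0 with h | h <;> rw [h] <;> omega) hk) ?_
    rcases hd0 with h | h <;> rw [h] at hge ⊢ <;> omega

end Cfsg.Lib.Dickson
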