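import Mathlib
import Cfsg.Agent.Lib.Dickson.Overgroups

/-!
# Properties of the candidate maximal subgroups of `PSL(2, q)`
-/

set_option autoImplicit false
set_option linter.unusedSectionVars false

namespace Cfsg.Lib.Dickson

open Matrix
open scoped MatrixGroups

theorem noNormalCyclic_of_conj {G : Type*} [Group G] [Finite G] {n : ℕ} (hn : Nat.card G ≤ n)
    (h : ∀ c : G, c ≠ 1 → ∃ g : G, ∀ i : Fin n, g * c * g⁻¹ ≠ c ^ (i : ℕ)) : NoNormalCyclic G := by
  intro N hN hc
  by_contra hne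
  obtain ⟨⟨c, hcN⟩, hgen⟩ := hc.exists_generator
  have hc1 : c ≠ 1 := by
    rintro rfl
    refine hne ((Subgroup.eq_bot_iff_forall _).mpr fun y hy => ?_)
    obtain ⟨k, hk⟩ := Subgroup.mem_zpowers_iff.mp (hgen ⟨y, hy⟩)
    simpa using (congrArg Subtype.val hk).symm
  obtain ⟨g, hg⟩ := h c hc1
  obtain ⟨k, hk⟩ := Subgroup.mem_zpowers_iff.mp (hgen ⟨g * c * g⁻¹, hN.conj_mem c hcN g⟩)
  have hk' : c ^ k = g * c * g⁻¹ := by simpa using congrArg Subtype.val hk
  have hmem : g * c * g⁻¹ ∈ Subgroup.zpowers c := ⟨k, hk'⟩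
  rw [← mem_powers_iff_mem_zpowers] at hmem
  obtain ⟨m, hm⟩ := hmem
  have hlt : m % orderOf c < n :=
    lt_of_lt_of_le (Nat.mod_lt _ (orderOf_pos c)) ((Nat.le_of_dvd Nat.card_pos (orderOf_dvd_natCard c)).trans hn)
  exact hg ⟨m % orderOf c, hlt⟩ (by rw [pow_mod_orderOf]; exact hm.symm)

theorem noNormalCyclic_alternating_four : NoNormalCyclic (alternatingGroup (Fin 4)) :=
  noNormalCyclic_of_conj (n := 12) (by rw [nat_card_alternatingGroup, Nat.card_fin]; decide) (by decide)

theorem noNormalCyclic_perm_four : NoNormalCyclic (Equiv.Perm (Fin 4)) := by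
  intro N hN hc
  by_contra hne
  haveI := hN
  let R : Subgroup (alternatingGroup (Fin 4)) := N.subgroupOf (alternatingGroup (Fin 4))
  haveI : R.Normal := Subgroup.normal_subgroupOf
  have hRc : IsCyclic R := by
    haveI := hc
    let φ : R →* N :=
      { toFun := fun x => ⟨((x : alternatingGroup (Fin 4)) : Equiv.Perm (Fin 4)), x.2⟩
        map_one' := rfl
        map_mul' := fun _ _ => rfl }
    exact isCyclic_of_injective φ fun a b h => Subtype.ext (Subtype.ext (congrArg (fun z : N => (z : Equiv.Perm (Fin 4))) h))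
  have hbot := noNormalCyclic_alternating_four R inferInstance hRc
  obtain ⟨z, hz, hz1⟩ := (N.bot_or_exists_ne_one.resolve_left hne)
  -- every nontrivial normal subgroup meets the alternating group
  have hex : ∀ z : Equiv.Perm (Fin 4), z ≠ 1 → ∃ g : Equiv.Perm (Fin 4),
      g * z * g⁻¹ * z⁻¹ ≠ 1 := by
    decide
  obtain ⟨g, hg⟩ := hex z hz1
  have hA : g * z * g⁻¹ * z⁻¹ ∈ alternatingGroup (Fin 4) := by
    rw [Equiv.Perm.mem_alternatingGroup, map_mul, map_mul, map_mul, map_inv, map_inv]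
    rw [mul_comm (Equiv.Perm.sign g) (Equiv.Perm.sign z), mul_assoc (Equiv.Perm.sign z), mul_inv_cancel, mul_one,
      mul_inv_cancel]
  have hN' : g * z * g⁻¹ * z⁻¹ ∈ N := N.mul_mem (hN.conj_mem z hz g) (N.inv_mem hz)
  have : (⟨_, hA⟩ : alternatingGroup (Fin 4)) ∈ R := hN'
  rw [hbot, Subgroup.mem_bot] at this
  exact hg (congrArg Subtype.val this)

theorem noNormalCyclic_alternating_five : NoNormalCyclic (alternatingGroup (Fin 5)) := by
  refine noNormalCyclic_of_simple fun hc => ?_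
  letI := hc.commGroup
  have := IsSimpleGroup.prime_card (α := alternatingGroup (Fin 5))
  rw [nat_card_alternatingGroup, Nat.card_fin] at this
  norm_num [Nat.factorial] at this

/-- Normality of a Sylow subgroup passes to subgroups. -/
theorem sylow_normal_comap {A B : Type*} [Group A] [Group B] [Finite A] {p : ℕ} [Fact p.Prime] (f : A →* B)
    (hf : Function.Injective f) (Q : Sylow p B) (hQ : (Q : Subgroup B).Normal) :
    ∃ P : Sylow p A, (P : Subgroup A).Normal := by
  haveI := hQ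
  have hp : IsPGroup p ((Q : Subgroup B).comap f) := Q.2.comap_of_injective f hf
  obtain ⟨P, hP⟩ := hp.exists_le_sylow
  refine ⟨P, ?_⟩
  have heq : (P : Subgroup A) = (Q : Subgroup B).comap f := by
    refine le_antisymm (fun y hy => ?_) hP
    have h1 : IsPGroup p ((P : Subgroup A).map f) := P.2.map f
    have h2 : (P : Subgroup A).map f ⊔ (Q : Subgroup B) = (Q : Subgroup B) :=
      Q.3 (IsPGroup.to_sup_of_normal_right h1 Q.2) le_sup_right
    exact (h2 ▸ (le_sup_left : (P : Subgroup A).map f ≤ _) : (P : Subgroup A).map f ≤ (Q : Subgroup B))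
      (Subgroup.mem_map_of_mem f hy)
  rw [heq]
  infer_instance

theorem sylow_not_normal_psl {K : Type*} [Field K] [Fintype K] (p : ℕ) [Fact p.Prime] [CharP K p]
    (P : Sylow p (Matrix.ProjectiveSpecialLinearGroup (Fin 2) K)) :
    ¬ (P : Subgroup (Matrix.ProjectiveSpecialLinearGroup (Fin 2) K)).Normal := by
  intro h
  haveI := h
  have h1 := index_normalizer_sylow_psl p P
  rw [Subgroup.normalizer_eq_top, Subgroup.index_top] at h1
  have := two_le_card (F := K)
  omega

theorem sylow_not_normal_pgl {K : Type*} [Field K] [Fintype K] (p : ℕ) [Fact p.Prime] [CharP K p]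
    (P : Sylow p (Matrix.ProjGenLinGroup (Fin 2) K)) :
    ¬ (P : Subgroup (Matrix.ProjGenLinGroup (Fin 2) K)).Normal := by
  intro h
  obtain ⟨Q, hQ⟩ := sylow_normal_comap _ ProjectiveSpecialLinearGroup.toPGL_injective P h
  exact sylow_not_normal_psl p Q hQ

theorem sylow_not_normal_congr {A B : Type*} [Group A] [Group B] [Finite B] {p : ℕ} [Fact p.Prime] (e : A ≃* B)
    (h : ∀ P : Sylow p B, ¬ (P : Subgroup B).Normal) (Q : Sylow p A) : ¬ (Q : Subgroup A).Normal := by
  intro hQ
  obtain ⟨P, hP⟩ := sylow_normal_comap e.symm.toMonoidHom e.symm.injective Q hQ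
  exact h P hP

end Cfsg.Lib.Dickson

namespace Cfsg.Lib.Dickson

variable {F : Type*} [Field F] [Fintype F]

local notation "PSL2" => Matrix.ProjectiveSpecialLinearGroup (Fin 2) F

theorem sq_mod_sixteen_of_perm_four {H : Subgroup PSL2} (e : H ≃* Equiv.Perm (Fin 4)) :
    Fintype.card F ^ 2 % 16 = 1 := by
  obtain ⟨x, h4, h2⟩ : ∃ x : Equiv.Perm (Fin 4), x ^ 4 = 1 ∧ ¬ x ^ 2 = 1 := ⟨finRotate 4, by decide, by decide⟩
  haveI := Fact.mk Nat.prime_two
  refine sq_mod_sixteen_of_orderOf_four (x := ((e.symm x : H) : PSL2)) ?_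
  rw [Subgroup.orderOf_coe, e.symm.orderOf_eq]
  exact orderOf_eq_prime_pow (p := 2) (n := 1) (by simpa using h2) (by simpa using h4)

theorem five_dvd_of_alternating_five {H : Subgroup PSL2} (e : H ≃* alternatingGroup (Fin 5)) :
    5 ∣ Fintype.card F * (Fintype.card F ^ 2 - 1) := by
  haveI : Finite PSL2 := inferInstance
  haveI := Fact.mk (show Nat.Prime 5 by norm_num)
  have hc : Nat.card H = 60 := by
    rw [Nat.card_congr e.toEquiv, nat_card_alternatingGroup, Nat.card_fin]; rfl
  obtain ⟨x, hx⟩ := exists_prime_orderOf_dvd_card' (G := H) 5 (by rw [hc]; norm_num)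
  exact five_dvd_of_orderOf_five (x := (x : PSL2)) (by rw [Subgroup.orderOf_coe, hx])

theorem card_target_four {H : Type*} [Group H] (e : H ≃* alternatingGroup (Fin 4)) : Nat.card H = 12 := by
  rw [Nat.card_congr e.toEquiv, nat_card_alternatingGroup, Nat.card_fin]; rfl

theorem card_target_perm {H : Type*} [Group H] (e : H ≃* Equiv.Perm (Fin 4)) : Nat.card H = 24 := by
  rw [Nat.card_congr e.toEquiv, Nat.card_perm, Nat.card_fin]; rfl

theorem card_target_five {H : Type*} [Group H] (e : H ≃* alternatingGroup (Fin 5)) : Nat.card H = 60 := by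
  rw [Nat.card_congr e.toEquiv, nat_card_alternatingGroup, Nat.card_fin]; rfl

theorem eq_of_pow_eq_prime {r m q : ℕ} (hq : q.Prime) (hr : 2 ≤ r) (h : r ^ m = q) : r = q :=
  ((hq.eq_one_or_self_of_dvd r (h ▸ dvd_pow_self r (by rintro rfl; simp at h; exact hq.one_lt.ne h))).resolve_left
    (by omega))

end Cfsg.Lib.Dickson

namespace Cfsg.Lib.Dickson

theorem exp_dvd_of_dvd {p e a : ℕ} (hp : 2 ≤ p) (he : 1 ≤ e)
    (h : p ^ (2 * e) - 1 ∣ 2 * (p ^ (2 * a) - 1)) : e ∣ a := by
  have h' : p ^ (2 * e) - 1 ∣ 2 * (p ^ (2 * Nat.gcd e a) - 1) := by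
    rw [← Nat.gcd_mul_left, ← Nat.pow_sub_one_gcd_pow_sub_one, ← Nat.gcd_mul_left]
    exact Nat.dvd_gcd (dvd_mul_left _ _) h
  have hgpos : 1 ≤ Nat.gcd e a := Nat.gcd_pos_of_pos_left a (by omega)
  by_contra hne
  have hlt : 2 * Nat.gcd e a ≤ e := by
    obtain ⟨t, ht⟩ := Nat.gcd_dvd_left e a
    have ht2 : 2 ≤ t := by
      by_contra hc
      have : t = 1 := by
        rcases Nat.eq_zero_or_pos t with rfl | h0
        · simp at ht; omega
        · omega
      subst this
      rw [mul_one] at ht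
      exact hne (ht ▸ Nat.gcd_dvd_right e a)
    have := Nat.mul_le_mul_left (Nat.gcd e a) ht2
    omega
  have h1 : p ^ (2 * Nat.gcd e a) ≤ p ^ e := Nat.pow_le_pow_right (by omega) hlt
  have h2 : 2 ≤ p ^ (2 * Nat.gcd e a) := le_trans hp (Nat.le_self_pow (by omega) p)
  have h3 := Nat.le_of_dvd (by omega) h'
  have h4 : p ^ (2 * e) = p ^ e * p ^ e := by rw [two_mul, pow_add]
  have h5 : 2 ≤ p ^ e := le_trans hp (Nat.le_self_pow (by omega) p)
  have := Nat.mul_le_mul_right (p ^ e) h5
  omega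

/-- The order of the overgroup pins down the subfield. -/
theorem subfield_eq_cases {p e a m r q r' : ℕ} (hp : p.Prime) (he : 1 ≤ e) (hq : q = p ^ e)
    (hr' : r' = p ^ a) (hr : r.Prime) (ha : 1 ≤ a) (hdvd : q * (q ^ 2 - 1) ∣ 2 * (r' * (r' ^ 2 - 1)))
    (hm : r' ^ m = q ^ r) : r' = q ∧ m = r ∨ r' = q ^ r := by
  subst hq hr'
  have h1 : p ^ (2 * e) - 1 ∣ 2 * (p ^ (2 * a) - 1) := by
    rw [← pow_mul, ← pow_mul, mul_comm e 2, mul_comm a 2] at hdvd
    have hd := (dvd_mul_left _ _).trans hdvd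
    have hco : Nat.Coprime (p ^ (2 * e) - 1) (p ^ a) := by
      refine (Nat.Coprime.pow_left a ?_).symm
      rw [hp.coprime_iff_not_dvd]
      intro hd'
      have h2 : p ∣ p ^ (2 * e) := dvd_pow_self p (by omega)
      have h3 := Nat.dvd_sub h2 hd'
      have : 1 ≤ p ^ (2 * e) := Nat.one_le_pow _ _ hp.pos
      rw [show p ^ (2 * e) - (p ^ (2 * e) - 1) = 1 by omega] at h3
      exact hp.not_dvd_one h3
    rw [mul_left_comm] at hd
    exact hco.dvd_of_dvd_mul_left hd
  obtain ⟨b, rfl⟩ := exp_dvd_of_dvd hp.two_le he h1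
  rw [← pow_mul, ← pow_mul] at hm
  have hbm : b * m = r := by
    have := Nat.pow_right_injective hp.two_le hm
    rw [mul_assoc] at this
    exact Nat.eq_of_mul_eq_mul_left (by omega) this
  rcases (Nat.dvd_prime hr).mp (Dvd.intro m hbm) with rfl | rfl
  · left
    exact ⟨by rw [mul_one], by rwa [one_mul] at hbm⟩
  · right
    rw [← pow_mul]

theorem two_mul_lt_of_sq_le {q Q : ℕ} (hq : 2 ≤ q) (hQ : q ^ 2 ≤ Q) : 2 * (q * (q ^ 2 - 1)) < Q * (Q ^ 2 - 1) := by
  have h1 : q < q ^ 2 := by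
    have := Nat.mul_le_mul_right q hq
    rw [sq]; omega
  have h4 : 4 ≤ q ^ 2 := by have := Nat.pow_le_pow_left hq 2; omega
  have h2 : q ^ 2 - 1 < Q ^ 2 - 1 := by
    have h3 : q ^ 2 < Q ^ 2 := Nat.pow_lt_pow_left (by omega) two_ne_zero
    omega
  have h5 : 2 * q ≤ Q := by
    have := Nat.mul_le_mul_right q hq
    rw [sq] at hQ; omega
  rw [← mul_assoc]
  calc 2 * q * (q ^ 2 - 1) < 2 * q * (Q ^ 2 - 1) := Nat.mul_lt_mul_of_pos_left h2 (by omega)
    _ ≤ Q * (Q ^ 2 - 1) := Nat.mul_le_mul_right _ h5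

end Cfsg.Lib.Dickson

namespace Cfsg.Lib.Dickson

open Matrix
open scoped MatrixGroups

variable {K : Type*} [Field K] [Fintype K]

theorem noNormalCyclic_psl (h3 : 3 ≤ Fintype.card K) :
    NoNormalCyclic (Matrix.ProjectiveSpecialLinearGroup (Fin 2) K) := by
  rcases Nat.lt_or_ge (Fintype.card K) 4 with h4 | h4
  · obtain ⟨e⟩ := Cfsg.Lib.Linear.Two.psl_equiv_alternating (F := K) (n := 4) (by omega) (by
      have h := Cfsg.Lib.Linear.Two.card_PSL_two (F := K)
      rw [show Fintype.card K = 3 by omega] at h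
      simp [Nat.factorial] at h ⊢
      omega)
    exact noNormalCyclic_congr e noNormalCyclic_alternating_four
  · haveI : IsSimpleGroup (Matrix.ProjectiveSpecialLinearGroup (Fin 2) K) :=
      Matrix.ProjectiveSpecialLinearGroup.rank_two_simple (by rw [Nat.card_eq_fintype_card]; exact h4)
    refine noNormalCyclic_of_simple fun hc => ?_
    obtain ⟨p, hpp, hp, -⟩ := exists_char (F := K)
    haveI := Fact.mk hpp
    obtain ⟨P⟩ : Nonempty (Sylow p (Matrix.ProjectiveSpecialLinearGroup (Fin 2) K)) := inferInstance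
    letI := hc.commGroup
    exact sylow_not_normal_psl p P (Subgroup.normal_of_comm _)

theorem noNormalCyclic_pgl (p : ℕ) [Fact p.Prime] [CharP K p] (h3 : 3 ≤ Fintype.card K) :
    NoNormalCyclic (Matrix.ProjGenLinGroup (Fin 2) K) := by
  classical
  intro N hN hc
  haveI := hN
  by_contra hne
  let ι : Matrix.ProjectiveSpecialLinearGroup (Fin 2) K →* Matrix.ProjGenLinGroup (Fin 2) K :=
    ProjectiveSpecialLinearGroup.toPGL
  have hbot : N.comap ι = ⊥ := by
    refine noNormalCyclic_psl h3 _ inferInstance ?_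
    haveI := hc
    exact isCyclic_of_injective ((ι.comp (N.comap ι).subtype).codRestrict N fun x => x.2)
      fun a b h => Subtype.ext (ProjectiveSpecialLinearGroup.toPGL_injective (congrArg Subtype.val h))
  obtain ⟨z, hz, hz1⟩ := (N.bot_or_exists_ne_one.resolve_left hne)
  have hmem : ∀ A : SpecialLinearGroup (Fin 2) K,
      ProjGenLinGroup.mk (SpecialLinearGroup.toGL A) * z = z * ProjGenLinGroup.mk (SpecialLinearGroup.toGL A) := by
    intro A
    set a := ProjGenLinGroup.mk (SpecialLinearGroup.toGL A)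
    -- commutators with the special linear group land in it and in the normal subgroup
    have hr : ι.range.Normal := ⟨by
      rintro _ ⟨x, rfl⟩ g
      induction x using QuotientGroup.induction_on with | H B => ?_
      induction g using Matrix.ProjGenLinGroup.induction_on with | mk g => ?_
      refine ⟨QuotientGroup.mk (⟨(g : Matrix (Fin 2) (Fin 2) K) * B * ((g⁻¹ : GL (Fin 2) K) : Matrix (Fin 2) (Fin 2) K), by
        rw [Matrix.det_mul, Matrix.det_mul, B.2, mul_one, ← Matrix.det_mul, ← Units.val_mul, mul_inv_cancel,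
          Units.val_one, Matrix.det_one]⟩ : SpecialLinearGroup (Fin 2) K), ?_⟩
      refine (ProjectiveSpecialLinearGroup.toPGL_mk _).trans ?_
      rw [show ι (QuotientGroup.mk B) = ProjGenLinGroup.mk (SpecialLinearGroup.toGL B) from
        ProjectiveSpecialLinearGroup.toPGL_mk B, ← map_inv, ← map_mul, ← map_mul]
      exact congrArg _ (Units.ext (by simp [SpecialLinearGroup.toGL]))⟩
    have hN' : a * z * a⁻¹ * z⁻¹ ∈ N := N.mul_mem (hN.conj_mem z hz a) (N.inv_mem hz)
    have ha : a ∈ ι.range := ⟨QuotientGroup.mk A, ProjectiveSpecialLinearGroup.toPGL_mk A⟩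
    have hR : a * z * a⁻¹ * z⁻¹ ∈ ι.range := by
      rw [show a * z * a⁻¹ * z⁻¹ = a * (z * a⁻¹ * z⁻¹) by group]
      exact ι.range.mul_mem ha (hr.conj_mem _ (ι.range.inv_mem ha) z)
    obtain ⟨y, hy⟩ := hR
    have : y = 1 := by
      have hy' : y ∈ N.comap ι := by rw [Subgroup.mem_comap, hy]; exact hN'
      rwa [hbot, Subgroup.mem_bot] at hy'
    rw [this, map_one] at hy
    exact mul_inv_eq_iff_eq_mul.mp (mul_inv_eq_one.mp hy.symm)
  -- an element commuting with the special linear group is trivial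
  have h01 := hmem ⟨!![1, 1; 0, 1], by simp [det_fin_two]⟩
  have hfl := hmem ⟨!![0, -1; 1, 0], by simp [det_fin_two]⟩
  have e1 : ProjGenLinGroup.mk (SpecialLinearGroup.toGL
      (⟨!![1, 1; 0, 1], by simp [det_fin_two]⟩ : SpecialLinearGroup (Fin 2) K)) = aff 1 1 :=
    congrArg ProjGenLinGroup.mk (Units.ext (by simp [SpecialLinearGroup.toGL, affGL_coe]))
  have e2 : ProjGenLinGroup.mk (SpecialLinearGroup.toGL
      (⟨!![0, -1; 1, 0], by simp [det_fin_two]⟩ : SpecialLinearGroup (Fin 2) K)) = flip' (-1) :=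
    congrArg ProjGenLinGroup.mk (Units.ext (by simp [SpecialLinearGroup.toGL, flipGL_coe]))
  rw [e1] at h01
  rw [e2] at hfl
  have hzi : z • (OnePoint.infty : OnePoint K) = OnePoint.infty := by
    have : z • (OnePoint.infty : OnePoint K) ∈ MulAction.fixedBy (OnePoint K) (aff (1 : Kˣ) (1 : K)) := by
      show aff (1 : Kˣ) (1 : K) • z • (OnePoint.infty : OnePoint K) = z • OnePoint.infty
      rw [← mul_smul, h01, mul_smul, aff_infty]
    rwa [fixedBy_trans one_ne_zero, Set.mem_singleton_iff] at this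
  obtain ⟨a, b, rfl⟩ := exists_aff_of_smul_infty hzi
  rw [aff_mul, aff_mul] at h01
  obtain ⟨-, hb⟩ := aff_injective h01
  have ha : a = 1 := by
    refine Units.ext ?_
    simp at hb
    rw [Units.val_one]
    linear_combination -hb
  subst ha
  have := congrArg (fun g => g • (OnePoint.infty : OnePoint K)) hfl
  simp only [mul_smul, aff_infty, flip_infty, aff_some, OnePoint.coe_eq_coe, mul_zero, zero_add] at this
  exact hz1 (by rw [← this, aff_one])

end Cfsg.Lib.Dickson
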