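import Cfsg.Agent.Lib.Dickson.DihedralMax

/-!
# Centralisers in `PSL(2, q)`
-/

set_option autoImplicit false
set_option linter.unusedSectionVars false

open Matrix
open scoped MatrixGroups

namespace Cfsg.Lib.Dickson

variable {F : Type*} [Field F] [Fintype F]

local notation "SL2" => Matrix.SpecialLinearGroup (Fin 2) F
local notation "PSL2" => Matrix.ProjectiveSpecialLinearGroup (Fin 2) F

/-- An element whose square is nontrivial is not scalar and has nonzero trace. -/
theorem trace_ne_zero_of_sq_ne_one {g : SL2} (h : (QuotientGroup.mk g : PSL2) ^ 2 ≠ 1) :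
    g 0 0 + g 1 1 ≠ 0 := fun h0 => h (by rw [sq]; exact mk_sq_eq_one_of_trace h0)

theorem not_scalar_of_ne_one {g : SL2} (h : (QuotientGroup.mk g : PSL2) ≠ 1) :
    g 0 1 ≠ 0 ∨ g 1 0 ≠ 0 ∨ g 0 0 ≠ g 1 1 := by
  by_contra hc
  push Not at hc
  obtain ⟨h01, h10, h00⟩ := hc
  refine h ((QuotientGroup.eq_one_iff _).mpr (mem_center_of_eq_scalar (c := g 0 0) ?_ ?_))
  · have hd := g.2
    rw [Matrix.det_fin_two] at hd
    linear_combination hd + g 1 0 * h01 + g 0 0 * h00
  · ext i j
    fin_cases i <;> fin_cases j <;> simp [h01, h10, h00]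

/-- The centraliser of an element of order greater than two has order at least `(q - 1) / d`. -/
theorem card_centralizer_ge {x : PSL2} (hx : x ^ 2 ≠ 1) :
    Fintype.card F - 1 ≤ Nat.gcd 2 (Fintype.card F - 1) * Nat.card (Subgroup.centralizer ({x} : Set PSL2)) := by
  classical
  obtain ⟨g, rfl⟩ := QuotientGroup.mk_surjective x
  have ht := trace_ne_zero_of_sq_ne_one hx
  have hns := not_scalar_of_ne_one (g := g) (fun h => hx (by rw [h, one_pow]))
  set t := g 0 0 + g 1 1 with htdef
  have hd := g.2
  rw [Matrix.det_fin_two] at hd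
  -- points of the conic
  let S : Finset (F × F) := Finset.univ.filter fun p => p.1 ^ 2 + t * p.1 * p.2 + p.2 ^ 2 = 1
  let M : Finset F := Finset.univ.filter fun m => 1 + t * m + m ^ 2 ≠ 0
  have hroots : Fintype.card F - 2 ≤ M.card := by
    have hc : M.card + ((Finset.univ : Finset F).filter fun m => ¬ (1 + t * m + m ^ 2 ≠ 0)).card =
        Fintype.card F := by
      rw [Finset.card_filter_add_card_filter_not, Finset.card_univ]
    have h2 : ((Finset.univ : Finset F).filter fun m => ¬ (1 + t * m + m ^ 2 ≠ 0)).card ≤ 2 := by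
      by_contra hgt
      rw [not_le] at hgt
      obtain ⟨a, b, c, ha, hb, hc', hab, hac, hbc⟩ := Finset.two_lt_card_iff.mp hgt
      simp only [Finset.mem_filter, Finset.mem_univ, true_and, not_not] at ha hb hc'
      have e1 : a + b + t = 0 := by
        have : (a - b) * (a + b + t) = 0 := by linear_combination ha - hb
        exact (mul_eq_zero.mp this).resolve_left (sub_ne_zero.mpr hab)
      have e2 : a + c + t = 0 := by
        have : (a - c) * (a + c + t) = 0 := by linear_combination ha - hc'
        exact (mul_eq_zero.mp this).resolve_left (sub_ne_zero.mpr hac)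
      exact hbc (by linear_combination e1 - e2)
    omega
  let f : F → F × F := fun m =>
    ((m ^ 2 - 1) / (1 + t * m + m ^ 2), m * (-2 - t * m) / (1 + t * m + m ^ 2))
  have hsub : insert ((1 : F), -t) (M.image f) ⊆ S := by
    intro p hp
    rw [Finset.mem_insert] at hp
    simp only [S, Finset.mem_filter, Finset.mem_univ, true_and]
    rcases hp with rfl | hp
    · ring
    · obtain ⟨m, hm, rfl⟩ := Finset.mem_image.mp hp
      have hQ : 1 + t * m + m ^ 2 ≠ 0 := (Finset.mem_filter.mp hm).2
      simp only [f, div_eq_mul_inv]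
      linear_combination ((1 + t * m + m ^ 2) * (1 + t * m + m ^ 2)⁻¹ + 1) * mul_inv_cancel₀ hQ
  have hinj : Set.InjOn f M := by
    intro m hm m' hm' he
    have hQ : 1 + t * m + m ^ 2 ≠ 0 := (Finset.mem_filter.mp hm).2
    have hQ' : 1 + t * m' + m' ^ 2 ≠ 0 := (Finset.mem_filter.mp hm').2
    have e1 := congrArg Prod.fst he
    have e2 := congrArg Prod.snd he
    simp only [f] at e1 e2
    have hb : ∀ n : F, 1 + t * n + n ^ 2 ≠ 0 →
        n * (-2 - t * n) / (1 + t * n + n ^ 2) = n * ((n ^ 2 - 1) / (1 + t * n + n ^ 2) - 1) := by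
      intro n hn
      simp only [div_eq_mul_inv]
      linear_combination (-n) * mul_inv_cancel₀ hn
    rw [hb m hQ, hb m' hQ', ← e1] at e2
    by_cases h1 : (m ^ 2 - 1) / (1 + t * m + m ^ 2) = 1
    · have h1' : (m' ^ 2 - 1) / (1 + t * m' + m' ^ 2) = 1 := e1 ▸ h1
      rw [div_eq_one_iff_eq hQ] at h1
      rw [div_eq_one_iff_eq hQ'] at h1'
      exact mul_left_cancel₀ ht (by linear_combination h1' - h1)
    · exact mul_right_cancel₀ (sub_ne_zero.mpr h1) e2
  have hnot : ((1 : F), -t) ∉ M.image f := by
    intro hmem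
    obtain ⟨m, hm, he⟩ := Finset.mem_image.mp hmem
    have hQ : 1 + t * m + m ^ 2 ≠ 0 := (Finset.mem_filter.mp hm).2
    have e1 := congrArg Prod.fst he
    have e2 := congrArg Prod.snd he
    simp only [f] at e1 e2
    rw [div_eq_one_iff_eq hQ] at e1
    rw [div_eq_iff hQ] at e2
    have : t * (1 + t * m + m ^ 2) = 0 := by linear_combination e2 - m * e1
    exact ht ((mul_eq_zero.mp this).resolve_right hQ)
  have hS : Fintype.card F - 1 ≤ S.card := by
    have h := Finset.card_le_card hsub
    rw [Finset.card_insert_of_notMem hnot, Finset.card_image_of_injOn hinj] at h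
    omega
  -- into the preimage of the centraliser
  set K := (Subgroup.centralizer ({(QuotientGroup.mk g : PSL2)} : Set PSL2)).comap
    (QuotientGroup.mk' (Subgroup.center SL2))
  let φ : S → K := fun p =>
    ⟨⟨!![p.1.1 + p.1.2 * g 0 0, p.1.2 * g 0 1; p.1.2 * g 1 0, p.1.1 + p.1.2 * g 1 1], by
        rw [Matrix.det_fin_two_of]
        linear_combination (Finset.mem_filter.mp p.2).2 + p.1.2 ^ 2 * hd + p.1.1 * p.1.2 * htdef.symm⟩, by
      show QuotientGroup.mk' (Subgroup.center SL2) _ ∈ Subgroup.centralizer _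
      refine Subgroup.mem_centralizer_singleton_iff.mpr ?_
      show (QuotientGroup.mk (_ * g) : PSL2) = QuotientGroup.mk (g * _)
      refine congrArg _ (Subtype.ext ?_)
      show (!![p.1.1 + p.1.2 * g 0 0, p.1.2 * g 0 1; p.1.2 * g 1 0, p.1.1 + p.1.2 * g 1 1] :
          Matrix (Fin 2) (Fin 2) F) * (g : Matrix (Fin 2) (Fin 2) F) =
        (g : Matrix (Fin 2) (Fin 2) F) *
          !![p.1.1 + p.1.2 * g 0 0, p.1.2 * g 0 1; p.1.2 * g 1 0, p.1.1 + p.1.2 * g 1 1]
      ext i j
      fin_cases i <;> fin_cases j <;> simp [Matrix.mul_apply, Fin.sum_univ_two] <;> ring⟩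
  have hφ : Function.Injective φ := by
    intro p p' he
    have hm := congrArg (fun k : K => ((k : SL2) : Matrix (Fin 2) (Fin 2) F)) he
    have h00 := congrFun (congrFun hm 0) 0
    have h01 := congrFun (congrFun hm 0) 1
    have h10 := congrFun (congrFun hm 1) 0
    have h11 := congrFun (congrFun hm 1) 1
    simp [φ] at h00 h01 h10 h11
    have hb : p.1.2 = p'.1.2 := by
      rcases hns with h | h | h
      · exact h01.resolve_right h
      · exact h10.resolve_right h
      · exact mul_right_cancel₀ (sub_ne_zero.mpr h) (by linear_combination h00 - h11)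
    have ha : p.1.1 = p'.1.1 := by rw [hb] at h00; linear_combination h00
    exact Subtype.ext (Prod.ext ha hb)
  haveI : Finite SL2 := inferInstance
  have h := Nat.card_le_card_of_injective φ hφ
  rw [Nat.card_eq_finsetCard] at h
  refine hS.trans (h.trans (le_of_eq ?_))
  have h1 := Subgroup.card_mul_index K
  have h2 := Subgroup.card_mul_index (Subgroup.centralizer ({(QuotientGroup.mk g : PSL2)} : Set PSL2))
  have h3 := Cfsg.Lib.Linear.card_SL_eq_gcd_mul_card_PSL (ι := Fin 2) (F := F)
  rw [Subgroup.index_comap_of_surjective _ (QuotientGroup.mk'_surjective _), h3, Fintype.card_fin, ← h2,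
    ← mul_assoc] at h1
  exact Nat.eq_of_mul_eq_mul_right (Nat.pos_of_ne_zero Subgroup.index_ne_zero_of_finite) h1

end Cfsg.Lib.Dickson
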