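import Cfsg.Agent.Lib.Dickson.Mobius
import Cfsg.Agent.Lib.Char.Subconstituents
import Cfsg.Agent.Lib.Char.Linear
import Cfsg.Agent.Lib.Char.Induced
import Cfsg.Agent.Lib.Block.Basic

/-!
# Finite subgroups of `PGL₂` in characteristic zero and linear groups of degree two
-/

set_option autoImplicit false
set_option linter.unusedSectionVars false

namespace Cfsg.Lib.Dickson

open Matrix MulAction Cfsg
open scoped MatrixGroups OnePoint

universe u

variable {E : Type*} [Field E] [DecidableEq E] [IsAlgClosed E] [CharZero E]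

local notation "G2" => Matrix.ProjGenLinGroup (Fin 2) E

theorem transHom_eq_one_of_pow {b : Multiplicative E} {n : ℕ} (hn : n ≠ 0)
    (h : transHom (E := E) b ^ n = 1) : b = 1 := by
  rw [← map_pow] at h
  have h' : (aff 1 (b ^ n).toAdd : G2) = aff 1 0 := h.trans aff_one.symm
  have h2 := (aff_injective h').2
  rw [toAdd_pow, nsmul_eq_mul, mul_eq_zero] at h2
  exact Multiplicative.toAdd.injective (h2.resolve_left (Nat.cast_ne_zero.2 hn))

theorem eq_one_of_mem_unip_of_pow {x : OnePoint E} {g : G2} (hg : g ∈ unip x) {n : ℕ} (hn : n ≠ 0)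
    (h : g ^ n = 1) : g = 1 := by
  obtain ⟨_, ⟨b, rfl⟩, rfl⟩ := hg
  rw [← map_pow] at h
  replace h := (map_eq_one_iff (MulAut.conj _) (MulEquiv.injective _)).1 h
  rw [transHom_eq_one_of_pow hn h, map_one, map_one]

variable (H : Subgroup (Matrix.ProjGenLinGroup (Fin 2) E)) [Finite H]

/-- The possible orders without a small orbit. -/
theorem card_cases_charZero (hne : H ≠ ⊥) :
    HasSmallOrbitOn H ∨ Nat.card H = 12 ∨ Nat.card H = 24 ∨ Nat.card H = 60 := by
  haveI : Fact (Nat.Prime 2) := ⟨Nat.prime_two⟩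
  have hbot : ∀ x : FixPts H, (unip x.1).comap H.subtype = ⊥ := fun x => by
    rw [Subgroup.eq_bot_iff_forall]
    intro h hh
    exact Subtype.ext (eq_one_of_mem_unip_of_pow hh (Nat.card_pos (α := H)).ne'
      (congrArg Subtype.val (pow_card_eq_one' (x := h))))
  have hmem : ∀ (x : FixPts H) (h : H),
      h ∈ (unip x.1).comap H.subtype ↔ h = 1 ∨ fixedBy (FixPts H) h = {x} := by
    intro x h
    rw [Subgroup.mem_comap, mem_unip_iff]
    by_cases h1 : h = 1
    · simp [h1]
    · have h1' : (h : G2) ≠ 1 := fun e => h1 (Subtype.ext e)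
      simp only [Subgroup.coe_subtype, h1, h1', false_or]
      rw [← val_image_fixedBy H h1]
      exact ⟨fun e => Subtype.val_injective.image_injective
          (e.trans (Set.image_singleton (f := Subtype.val)).symm),
        fun e => by rw [e, Set.image_singleton]⟩
  have hst : ∀ x : FixPts H, stabilizer H x ≠ ⊥ := by
    rintro ⟨x, h, h1, hx⟩ e
    have : h ∈ stabilizer H (⟨x, h, h1, hx⟩ : FixPts H) := Subtype.ext hx
    rw [e, Subgroup.mem_bot] at this
    exact h1 this
  rcases configuration (X := FixPts H) (fun _ => fixPts_ncard H) 2 (fun x => (unip x.1).comap H.subtype)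
      (fun x => by rw [hbot]; exact IsPGroup.of_bot) hmem hst
      ((Subgroup.one_lt_card_iff_ne_bot H).mpr hne) with h | h | h | h | ⟨x, h3, -⟩
  · exact Or.inl (hasSmallOrbitOn_of H h)
  · exact Or.inr (Or.inl h)
  · exact Or.inr (Or.inr (Or.inl h))
  · exact Or.inr (Or.inr (Or.inr h))
  · rw [hbot, Subgroup.card_bot] at h3
    omega

/-- A finite subgroup fixing a point is cyclic. -/
theorem isCyclic_of_fixes {x : OnePoint E} (h : ∀ g ∈ H, g • x = x) : IsCyclic H := by
  obtain ⟨u, hu⟩ := exists_smul_infty x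
  have h1 : ∀ g : H, ∃ a b, u * (g : G2) * u⁻¹ = aff a b := fun g =>
    exists_aff_of_smul_infty (by rw [← hu, mul_smul, mul_smul, inv_smul_smul, h g g.2])
  choose a b hab using h1
  have hmul : ∀ g k : H, a (g * k) = a g * a k := fun g k => by
    have e : u * ((g * k : H) : G2) * u⁻¹ = (u * (g : G2) * u⁻¹) * (u * (k : G2) * u⁻¹) := by
      rw [Subgroup.coe_mul]; group
    rw [hab, hab, hab, aff_mul] at e
    exact (aff_injective e).1
  let f : H →* E := (Units.coeHom E).comp (MonoidHom.mk' a hmul)
  refine isCyclic_of_subgroup_isDomain f ?_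
  intro g k hgk
  have hf : a (g * k⁻¹) = 1 := by
    rw [hmul, show a g = a k from Units.ext hgk, ← hmul, mul_inv_cancel]
    exact map_one (MonoidHom.mk' a hmul)
  have h2 := hab (g * k⁻¹)
  rw [hf] at h2
  have hpow : (aff 1 (b (g * k⁻¹)) : G2) ^ Nat.card H = 1 := by
    rw [← h2, conj_pow, ← Subgroup.coe_pow, pow_card_eq_one', Subgroup.coe_one, mul_one,
      mul_inv_cancel]
  have hb := transHom_eq_one_of_pow (b := Multiplicative.ofAdd (b (g * k⁻¹)))
    (Nat.card_pos (α := H)).ne' hpow
  rw [show b (g * k⁻¹) = 0 from congrArg Multiplicative.toAdd hb, aff_one, conj_eq_one_iff] at h2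
  exact mul_inv_eq_one.1 (Subtype.ext h2)

end Cfsg.Lib.Dickson

namespace Cfsg.Lib.Dickson

open Matrix Cfsg
open scoped MatrixGroups

universe w

local notation "P₂" => Matrix.ProjGenLinGroup (Fin 2) ℂ

/-- A primitive linear group of degree two has central quotient of order `12`, `24` or `60`. -/
theorem index_center_of_primitive_two {G : Type w} [Group G] [Fintype G] (χ : IrrCharacter G)
    (hfaith : ∀ g : G, (χ : G → ℂ) g = (χ : G → ℂ) 1 → g = 1)
    (h2 : charDegree (χ : G → ℂ) = 2)
    (hprim : ∀ H : Subgroup G, H ≠ ⊤ → ∀ θ : H → ℂ, IsCharacter H θ →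
      (χ : G → ℂ) ≠ indFun H θ) :
    (Subgroup.center G).index = 12 ∨ (Subgroup.center G).index = 24 ∨
      (Subgroup.center G).index = 60 := by
  classical
  obtain ⟨n, ρ, hρ, hχ⟩ := χ.2
  have hn : n = 2 := by
    have h := Cfsg.Lib.Block.apply_one_eq_charDegree χ
    rw [h2, ← hχ, Representation.char_one, Module.finrank_fin_fun] at h
    exact_mod_cast h
  subst hn
  haveI := hρ
  have hinj : Function.Injective ρ := by
    intro a b hab
    have h1 : ρ (a * b⁻¹) = 1 := by rw [map_mul, hab, ← map_mul, mul_inv_cancel, map_one]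
    refine mul_inv_eq_one.1 (hfaith _ ?_)
    rw [← hχ]
    show LinearMap.trace ℂ _ (ρ (a * b⁻¹)) = LinearMap.trace ℂ _ (ρ 1)
    rw [h1, ρ.map_one]
  let M : G →* Matrix (Fin 2) (Fin 2) ℂ :=
    (LinearMap.toMatrixAlgEquiv' : _ ≃ₐ[ℂ] Matrix (Fin 2) (Fin 2) ℂ).toMonoidHom.comp ρ
  let π : G →* P₂ := ProjGenLinGroup.mk.comp M.toHomUnits
  have hker : π.ker = Subgroup.center G := by
    refine le_antisymm (fun g hg => ?_) (fun z hz => ?_)
    · have hg' : M.toHomUnits g ∈ Subgroup.center (GL (Fin 2) ℂ) :=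
        ProjGenLinGroup.mk_eq_one.1 hg
      refine Subgroup.mem_center_iff.2 fun k => hinj ?_
      refine LinearMap.toMatrixAlgEquiv'.injective ?_
      have h := congrArg (fun u : GL (Fin 2) ℂ => (u : Matrix (Fin 2) (Fin 2) ℂ))
        (Subgroup.mem_center_iff.1 hg' (M.toHomUnits k))
      simp only [Units.val_mul, MonoidHom.coe_toHomUnits] at h
      exact (map_mul M k g).trans (h.trans (map_mul M g k).symm)
    · refine ProjGenLinGroup.mk_eq_one.2 ?_
      obtain ⟨μ, hμ⟩ := Module.End.exists_eigenvalue (ρ z)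
      have htop : Module.End.eigenspace (ρ z) μ = ⊤ := by
        rcases (Cfsg.Lib.Char.isIrreducible_iff_submodule ρ).1 hρ |>.2
          (Module.End.eigenspace (ρ z) μ) (fun g x hx => by
            rw [Module.End.mem_eigenspace_iff] at hx ⊢
            rw [← Module.End.mul_apply, ← map_mul, ← Subgroup.mem_center_iff.1 hz g, map_mul,
              Module.End.mul_apply, hx, map_smul]) with h | h
        · exact absurd h hμ
        · exact h
      have hz' : ρ z = μ • (1 : Module.End ℂ (Fin 2 → ℂ)) := LinearMap.ext fun x =>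
        Module.End.mem_eigenspace_iff.1 (htop.ge (Submodule.mem_top (x := x)))
      have hM : M z = μ • 1 := by
        show LinearMap.toMatrixAlgEquiv' (ρ z) = _
        rw [hz', map_smul, map_one]
      refine Subgroup.mem_center_iff.2 fun k => Units.ext ?_
      rw [Units.val_mul, Units.val_mul, MonoidHom.coe_toHomUnits, hM, smul_mul_assoc, one_mul,
        mul_smul_comm, mul_one]
  have hidx : (Subgroup.center G).index = Nat.card π.range := by rw [← hker, Subgroup.index_ker]
  -- cyclic image of a subgroup makes it commutative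
  have hcomm : ∀ (A : Subgroup G), IsCyclic (A.map π) → ∀ a b : A, a * b = b * a := by
    intro A hA a b
    haveI : IsCyclic (A.map π) := hA
    refine commutative_of_cyclic_center_quotient
      ((π.comp A.subtype).codRestrict (A.map π) fun x => ⟨x, x.2, rfl⟩) (fun x hx => ?_) a b
    have hx' : (x : G) ∈ Subgroup.center G := hker ▸ congrArg Subtype.val hx
    exact Subgroup.mem_center_iff.2 fun y =>
      Subtype.ext (Subgroup.mem_center_iff.1 hx' y)
  have hnab : ¬ ∀ a b : G, a * b = b * a := fun h => by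
    have h1 := Cfsg.Lib.Char.degree_eq_one_of_comm h χ.2
    rw [Cfsg.Lib.Block.apply_one_eq_charDegree χ, h2] at h1
    norm_num at h1
  haveI : Finite π.range := Finite.of_surjective _ π.rangeRestrict_surjective
  have hne : π.range ≠ ⊥ := fun h => hnab fun a b => by
    have : a ∈ Subgroup.center G := hker ▸ (MonoidHom.mem_ker.2
      (Subgroup.mem_bot.1 (h ▸ ⟨a, rfl⟩)))
    exact (Subgroup.mem_center_iff.1 this b).symm
  rcases card_cases_charZero π.range hne with hsmall | h | h | h
  · exfalso
    rcases hsmall with ⟨x, hx⟩ | ⟨x, y, hxy, hh⟩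
    · haveI : IsCyclic π.range := isCyclic_of_fixes π.range hx
      refine hnab fun a b => commutative_of_cyclic_center_quotient π.rangeRestrict
        (by rw [MonoidHom.ker_rangeRestrict, hker]) a b
    · set A : Subgroup G := (MulAction.stabilizer P₂ x).comap π with hA
      have hA2 : ∀ a b, a ∉ A → b ∉ A → a * b ∈ A := by
        intro a b ha hb
        rw [hA, Subgroup.mem_comap, MulAction.mem_stabilizer_iff] at ha hb ⊢
        have hay : π a • y = x := ((hh _ ⟨a, rfl⟩).resolve_left fun h => ha h.1).2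
        have hbx : π b • x = y := ((hh _ ⟨b, rfl⟩).resolve_left fun h => hb h.1).1
        rw [map_mul, mul_smul, hbx, hay]
      haveI : Finite (A.map π) := Set.Finite.to_subtype ((Set.toFinite (A : Set G)).image π)
      have hab : ∀ a b : A, a * b = b * a := hcomm A (isCyclic_of_fixes _ (by
        rintro _ ⟨a, ha, rfl⟩; exact ha))
      have hAtop : A ≠ ⊤ := fun h => hnab fun a b =>
        congrArg Subtype.val (hab ⟨a, h ▸ Subgroup.mem_top a⟩ ⟨b, h ▸ Subgroup.mem_top b⟩)
      have hidx2 : A.index = 2 := by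
        obtain ⟨g, hg⟩ : ∃ g, g ∉ A := by
          by_contra hc
          push Not at hc
          exact hAtop (eq_top_iff.2 fun g _ => hc g)
        have hg' : g⁻¹ ∉ A := fun h => hg (inv_inv g ▸ A.inv_mem h)
        refine Subgroup.index_eq_two_iff.2 ⟨g⁻¹, fun b => ?_⟩
        by_cases hb : b ∈ A
        · exact Or.inr ⟨hb, fun h => hg' (by simpa using A.mul_mem (A.inv_mem hb) h)⟩
        · exact Or.inl ⟨hA2 b g⁻¹ hb hg', hb⟩
      haveI := Fintype.ofFinite A
      obtain ⟨θ, hθ⟩ := Cfsg.Lib.Char.exists_constituent (χ.2.isCharacter.comp A.subtype)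
        (by show (χ : G → ℂ) (A.subtype 1) ≠ 0
            rw [map_one]; exact χ.2.apply_one_ne_zero)
      have hθ1 := Cfsg.Lib.Char.degree_eq_one_of_comm hab θ.2
      refine hprim A hAtop _ θ.2.isCharacter (Cfsg.Lib.Char.eq_of_constituent_of_degree
        (Cfsg.Lib.Char.isCharacter_indFun A θ.2.isCharacter) χ.2 ?_ ?_).symm
      · intro h0
        refine hθ ?_
        rw [Cfsg.Lib.Char.classInner_indFun A _ χ.2.isClassFunction] at h0
        rw [← Cfsg.Lib.Char.classInner_conj_symm]
        show (starRingEnd ℂ) (classInner (θ : A → ℂ) (fun a : A => (χ : G → ℂ) a)) = 0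
        rw [h0, map_zero]
      · rw [Cfsg.Lib.Char.indFun_apply_one, hθ1, hidx2, Cfsg.Lib.Block.apply_one_eq_charDegree χ, h2, mul_one]
  · exact Or.inl (hidx.trans h)
  · exact Or.inr (Or.inl (hidx.trans h))
  · exact Or.inr (Or.inr (hidx.trans h))

end Cfsg.Lib.Dickson
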