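import Cfsg.Agent.Lib.Dickson.Involutions
import Cfsg.Agent.Lib.Dickson.SmallIds
import Cfsg.Agent.Lib.Dickson.Overgroups
import Cfsg.Agent.Lib.Spec.PSLTwoSpectrum
import Cfsg.Agent.S0262

/-!
# Redundant Sylow subgroups of `PSL 2 q` and `SL 2 q`
-/

set_option autoImplicit false
set_option linter.style.haveILetI false

namespace Cfsg.Lib.Dickson.Redundant

open scoped Pointwise

/-- Some Sylow subgroup is redundant. -/
def Red (p : ℕ) (G : Type*) [Group G] : Prop :=
  ∃ Q : Sylow p G, ∀ x : G, (∃ k : ℕ, orderOf x = p ^ k) → ∃ P : Sylow p G, P ≠ Q ∧ x ∈ P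

section General

variable {G : Type*} [Group G] [Finite G] {p : ℕ} [Fact p.Prime]

theorem orderOf_mem (P : Sylow p G) {x : G} (hx : x ∈ P) : ∃ k : ℕ, orderOf x = p ^ k := by
  obtain ⟨k, hk⟩ := IsPGroup.iff_orderOf.mp P.2 ⟨x, hx⟩
  exact ⟨k, by rw [← hk, Subgroup.orderOf_mk]⟩

theorem exists_mem {x : G} (hx : ∃ k : ℕ, orderOf x = p ^ k) : ∃ P : Sylow p G, x ∈ P := by
  obtain ⟨k, hk⟩ := hx
  obtain ⟨P, hP⟩ := (IsPGroup.of_card (n := k) (by rw [Nat.card_zpowers, hk]) :
    IsPGroup p (Subgroup.zpowers x)).exists_le_sylow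
  exact ⟨P, hP (Subgroup.mem_zpowers x)⟩

theorem mem_smul {g x : G} {P : Sylow p G} : g * x * g⁻¹ ∈ g • P ↔ x ∈ P := by
  show g * x * g⁻¹ ∈ ((g • P : Sylow p G) : Subgroup G) ↔ _
  rw [Sylow.coe_subgroup_smul, Subgroup.mem_pointwise_smul_iff_inv_smul_mem, MulAut.smul_def,
    MulAut.conj_inv_apply, show g⁻¹ * (g * x * g⁻¹) * g = x by group]
  rfl

/-- An element in a unique Sylow subgroup forbids redundancy. -/
theorem not_red {x : G} {P₀ : Sylow p G} (hx : x ∈ P₀) (h : ∀ P : Sylow p G, x ∈ P → P = P₀) : ¬ Red p G := by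
  rintro ⟨Q, hQ⟩
  obtain ⟨g, rfl⟩ := MulAction.exists_smul_eq G P₀ Q
  obtain ⟨P, hne, hP⟩ := hQ (g * x * g⁻¹) (orderOf_mem (g • P₀) (mem_smul.mpr hx))
  refine hne ?_
  have h1 : g⁻¹ • P = P₀ := h _ (by
    have := (mem_smul (g := g⁻¹) (P := P)).mpr hP
    rwa [show g⁻¹ * (g * x * g⁻¹) * g⁻¹⁻¹ = x by group] at this)
  rw [← h1, smul_inv_smul]

/-- Every element in two Sylow subgroups gives redundancy. -/
theorem red_of_two (h : ∀ x : G, (∃ k : ℕ, orderOf x = p ^ k) → ∃ P P' : Sylow p G, P ≠ P' ∧ x ∈ P ∧ x ∈ P') :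
    Red p G := by
  classical
  obtain ⟨Q⟩ : Nonempty (Sylow p G) := inferInstance
  refine ⟨Q, fun x hx => ?_⟩
  obtain ⟨P, P', hne, h1, h2⟩ := h x hx
  by_cases hP : P = Q
  · exact ⟨P', fun h' => hne (hP.trans h'.symm), h2⟩
  · exact ⟨P, hP, h1⟩

theorem red_quot {H : Type*} [Group H] [Finite H] (f : G →* H) (hf : Function.Surjective f)
    (hker : f.ker ≤ Subgroup.center G) : Red p G ↔ Red p H := by
  classical
  have hmem : ∀ (P : Sylow p G) (x : G), (∃ k : ℕ, orderOf x = p ^ k) → f x ∈ P.mapSurjective hf → x ∈ P := by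
    intro P x ⟨k, hk⟩ hx
    obtain ⟨u, hu, hux⟩ := hx
    have hz : u⁻¹ * x ∈ Subgroup.center G := hker (MonoidHom.mem_ker.mpr (by rw [map_mul, map_inv, hux, inv_mul_cancel]))
    have hle : Subgroup.zpowers x ≤ Subgroup.normalizer ((P : Subgroup G) : Set G) := by
      refine Subgroup.zpowers_le.mpr ?_
      rw [show x = u * (u⁻¹ * x) by group]
      exact Subgroup.mul_mem _ (Subgroup.le_normalizer hu) (Subgroup.center_le_normalizer _ hz)
    exact le_sylow_of_le_normalizer (IsPGroup.of_card (n := k) (by rw [Nat.card_zpowers, hk])) P hle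
      (Subgroup.mem_zpowers x)
  have hinj : Function.Injective fun P : Sylow p G => P.mapSurjective hf := by
    intro P P' h
    refine Sylow.ext (le_antisymm (fun x hx => ?_) (fun x hx => ?_))
    · exact hmem P' x (orderOf_mem P hx) (by
        show f x ∈ (fun P : Sylow p G => P.mapSurjective hf) P'
        rw [← h]; exact ⟨x, hx, rfl⟩)
    · exact hmem P x (orderOf_mem P' hx) (by
        show f x ∈ (fun P : Sylow p G => P.mapSurjective hf) P
        rw [h]; exact ⟨x, hx, rfl⟩)
  have hsurj := Sylow.mapSurjective_surjective hf p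
  constructor
  · rintro ⟨Q, hQ⟩
    refine ⟨Q.mapSurjective hf, fun y hy => ?_⟩
    obtain ⟨R, hR⟩ := exists_mem hy
    obtain ⟨R', rfl⟩ := hsurj R
    obtain ⟨x, hx, rfl⟩ := hR
    obtain ⟨P, hne, hP⟩ := hQ x (orderOf_mem R' hx)
    exact ⟨P.mapSurjective hf, fun h => hne (hinj h), x, hP, rfl⟩
  · rintro ⟨Q, hQ⟩
    obtain ⟨Q', rfl⟩ := hsurj Q
    refine ⟨Q', fun x hx => ?_⟩
    obtain ⟨R, hR⟩ := exists_mem hx
    obtain ⟨P, hne, hP⟩ := hQ (f x) (orderOf_mem (R.mapSurjective hf) ⟨x, hR, rfl⟩)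
    obtain ⟨P', rfl⟩ := hsurj P
    exact ⟨P', fun h => hne (by rw [h]), hmem P' x hx hP⟩

end General

section PSL

variable {F : Type*} [Field F] [Fintype F]

local notation "PSL2" => Matrix.ProjectiveSpecialLinearGroup (Fin 2) F

theorem not_red_char (p : ℕ) [Fact p.Prime] [CharP F p] : ¬ Red p PSL2 := by
  obtain ⟨P₀⟩ : Nonempty (Sylow p PSL2) := inferInstance
  have hne : (P₀ : Subgroup PSL2) ≠ ⊥ := fun h => by
    have := card_sylow_psl p P₀
    rw [h, Subgroup.card_bot] at this
    have := Fintype.one_lt_card (α := F)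
    omega
  obtain ⟨x, hx, hx1⟩ := (Subgroup.bot_or_exists_ne_one _).resolve_left hne
  refine not_red hx fun P hP => Sylow.ext ?_
  rw [← centralizer_eq_sylow p P hP hx1, ← centralizer_eq_sylow p P₀ hx hx1]

theorem not_red_odd (p r : ℕ) [Fact p.Prime] [CharP F p] [Fact r.Prime] (hr : r ≠ 2) (hrp : r ≠ p) : ¬ Red r PSL2 := by
  have hf : Function.Surjective (QuotientGroup.mk' (Subgroup.center (Matrix.SpecialLinearGroup (Fin 2) F))) :=
    QuotientGroup.mk'_surjective _
  intro h
  have h' := (red_quot (QuotientGroup.mk' (Subgroup.center (Matrix.SpecialLinearGroup (Fin 2) F))) hf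
    (by rw [QuotientGroup.ker_mk'])).mpr h
  obtain ⟨P₀⟩ : Nonempty (Sylow r (Matrix.SpecialLinearGroup (Fin 2) F)) := inferInstance
  haveI := Cfsg.Agent.S0262.result p r hr hrp P₀
  obtain ⟨⟨g, hg⟩, hgen⟩ := IsCyclic.exists_generator (α := ↥(P₀ : Subgroup (Matrix.SpecialLinearGroup (Fin 2) F)))
  refine not_red hg (fun P hP => ?_) h'
  refine (Sylow.ext (Subgroup.eq_of_le_of_card_ge (fun u hu => ?_) ?_)).symm
  · obtain ⟨i, hi⟩ := Subgroup.mem_zpowers_iff.mp (hgen ⟨u, hu⟩)
    rw [← show g ^ i = u from congrArg Subtype.val hi]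
    exact Subgroup.zpow_mem _ hP i
  · rw [P.card_eq_multiplicity, P₀.card_eq_multiplicity]

theorem card_sylow_two (h2 : Fintype.card F % 2 = 1) (P : Sylow 2 PSL2) :
    Nat.card (P : Subgroup PSL2) * 2 = 2 ^ ((Fintype.card F ^ 2 - 1).factorization 2) := by
  have h := card_psl_mul (K := F) h2
  have hq := Fintype.one_lt_card (α := F)
  have hsq : Fintype.card F ^ 2 - 1 ≠ 0 := by
    have : 2 ^ 2 ≤ Fintype.card F ^ 2 := Nat.pow_le_pow_left hq 2
    omega
  have e := congrArg (fun n => n.factorization 2) h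
  simp only [Nat.factorization_mul two_ne_zero Nat.card_pos.ne', Nat.factorization_mul (by omega : Fintype.card F ≠ 0) hsq,
    Finsupp.add_apply, Nat.prime_two.factorization_self,
    Nat.factorization_eq_zero_of_not_dvd (by omega : ¬ 2 ∣ Fintype.card F), zero_add] at e
  rw [P.card_eq_multiplicity, ← pow_succ, ← e, add_comm]

theorem not_red_small (h2 : Fintype.card F % 2 = 1) (h5 : Fintype.card F ≤ 6) : ¬ Red 2 PSL2 := by
  classical
  obtain ⟨p, hp⟩ := CharP.exists F
  haveI := hp
  haveI := Fact.mk (CharP.char_is_prime F p)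
  obtain ⟨n, hpp, hn⟩ := FiniteField.card F p
  have hq := Fintype.one_lt_card (α := F)
  have hpodd : p ≠ 2 := by
    rintro rfl
    have : 2 ∣ Fintype.card F := hn ▸ dvd_pow_self 2 n.pos.ne'
    omega
  have hq35 : Fintype.card F = 3 ∨ Fintype.card F = 5 := by omega
  have h4 : ∀ P : Sylow 2 PSL2, Nat.card (P : Subgroup PSL2) = 4 := by
    intro P
    have h := card_sylow_two h2 P
    have hv : (Fintype.card F ^ 2 - 1).factorization 2 = 3 := by
      rcases hq35 with h' | h' <;> rw [h']
      · rw [show 3 ^ 2 - 1 = 2 ^ 3 from rfl, Nat.prime_two.factorization_pow, Finsupp.single_eq_same]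
      · rw [show 5 ^ 2 - 1 = 2 ^ 3 * 3 from rfl, Nat.factorization_mul (by norm_num) (by norm_num), Finsupp.add_apply,
          Nat.prime_two.factorization_pow, Finsupp.single_eq_same, Nat.factorization_eq_zero_of_not_dvd (by norm_num)]
    rw [hv] at h
    omega
  obtain ⟨P₀⟩ : Nonempty (Sylow 2 PSL2) := inferInstance
  have hne : (P₀ : Subgroup PSL2) ≠ ⊥ := fun h => by
    have := h4 P₀
    rw [h, Subgroup.card_bot] at this
    omega
  obtain ⟨x, hx, hx1⟩ := (Subgroup.bot_or_exists_ne_one _).resolve_left hne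
  refine not_red hx fun P hP => ?_
  have hle : ∀ R : Sylow 2 PSL2, x ∈ R → (R : Subgroup PSL2) ≤ Subgroup.centralizer ({x} : Set PSL2) := by
    intro R hR u hu
    have hcomm := IsPGroup.commutative_of_card_eq_prime_sq (G := ↥(R : Subgroup PSL2)) (p := 2) (by rw [h4 R]; norm_num)
    exact Subgroup.mem_centralizer_singleton_iff.mpr (congrArg Subtype.val (hcomm ⟨u, hu⟩ ⟨x, hR⟩))
  have hxp : ¬ p ∣ orderOf x := by
    obtain ⟨k, hk⟩ := orderOf_mem P₀ hx
    rw [hk]
    exact fun h => hpodd ((Nat.prime_dvd_prime_iff_eq hpp Nat.prime_two).mp (hpp.dvd_of_dvd_pow h))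
  obtain ⟨k, hk, hC⟩ := centralizer_cases p hx1 hxp
  have hg : Nat.gcd 2 (Fintype.card F - 1) = 2 := Nat.gcd_eq_left (by omega)
  rw [hg] at hk
  have hdvd : 4 ∣ Nat.card (Subgroup.centralizer ({x} : Set PSL2)) := h4 P₀ ▸ Subgroup.card_dvd_of_le (hle P₀ hx)
  have hk3 : k ≤ 3 := by
    rcases hk with h' | h' <;> have := Nat.le_of_dvd (by omega) h' <;> omega
  have hC4 : Nat.card (Subgroup.centralizer ({x} : Set PSL2)) ≤ 4 := by
    rcases hC with hC | ⟨-, hC⟩ <;> rw [hC] at hdvd ⊢ <;> omega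
  apply Sylow.ext
  rw [Subgroup.eq_of_le_of_card_ge (hle P hP) (by rw [h4]; exact hC4),
    Subgroup.eq_of_le_of_card_ge (hle P₀ hx) (by rw [h4]; exact hC4)]

/-- Data of a torus for the sign selected by `q mod 4`. -/
theorem exists_torus (h2 : Fintype.card F % 2 = 1) (h7 : 7 ≤ Fintype.card F) :
    ∃ (h : ℕ) (g : PSL2), 2 ∣ h ∧ 3 ≤ h ∧ orderOf g = h ∧
      (2 * h = Fintype.card F + 1 ∨ 2 * h = Fintype.card F - 1) ∧
      Subgroup.centralizer ({g} : Set PSL2) = Subgroup.zpowers g ∧
      (∀ t : PSL2, t ^ 2 = 1 → t ≠ 1 → Nat.card (Subgroup.centralizer ({t} : Set PSL2)) = 2 * h) ∧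
      (∀ x : PSL2, x ^ 2 ≠ 1 → (∃ k, orderOf x = 2 ^ k) → Nat.card (Subgroup.centralizer ({x} : Set PSL2)) = h) ∧
      ∀ P : Sylow 2 PSL2, Nat.card (P : Subgroup PSL2) = 2 ^ ((2 * h).factorization 2) := by
  classical
  obtain ⟨p, hp⟩ := CharP.exists F
  haveI := hp
  haveI := Fact.mk (CharP.char_is_prime F p)
  obtain ⟨n, hpp, hn⟩ := FiniteField.card F p
  have hpodd : p ≠ 2 := by
    rintro rfl
    have : 2 ∣ Fintype.card F := hn ▸ dvd_pow_self 2 n.pos.ne'
    omega
  have hg : Nat.gcd 2 (Fintype.card F - 1) = 2 := Nat.gcd_eq_left (by omega)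
  have hss := fun (x : PSL2) => card_centralizer_semisimple (F := F) (x := x) (show 4 ≤ Fintype.card F by omega) p
  have hspec := Cfsg.Lib.Spec.psl_two_spectrum (F := F) p (show 4 ≤ Fintype.card F by omega)
  rw [hg] at hspec
  simp only [hg] at hss
  obtain ⟨h, hh, hdiv, h4q⟩ : ∃ h, (2 * h = Fintype.card F + 1 ∨ 2 * h = Fintype.card F - 1) ∧ 2 ∣ h ∧
      (Fintype.card F % 4 = 1 ∧ 2 * h = Fintype.card F - 1 ∨ Fintype.card F % 4 = 3 ∧ 2 * h = Fintype.card F + 1) := by
    rcases (show Fintype.card F % 4 = 1 ∨ Fintype.card F % 4 = 3 by omega) with h' | h'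
    · exact ⟨(Fintype.card F - 1) / 2, by omega, by omega, by omega⟩
    · exact ⟨(Fintype.card F + 1) / 2, by omega, by omega, by omega⟩
  obtain ⟨g, hgo⟩ : h ∈ Set.range (orderOf : PSL2 → ℕ) := by
    rw [hspec]
    rcases hh with h' | h'
    · exact Or.inr (Or.inr (dvd_of_eq (by omega)))
    · exact Or.inr (Or.inl (dvd_of_eq (by omega)))
  have hg2 : g ^ 2 ≠ 1 := fun he => by
    have := Nat.le_of_dvd two_pos (orderOf_dvd_of_pow_eq_one he)
    omega
  have hnp : ∀ m, (m ∣ h) → ¬ p ∣ m := by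
    intro m hm hd
    have hpq : p ∣ Fintype.card F := hn ▸ dvd_pow_self p n.pos.ne'
    have h1 : p ∣ 2 * h := Dvd.dvd.mul_left (hd.trans hm) 2
    rcases hh with h' | h'
    · have h'' := Nat.dvd_sub h1 hpq
      rw [show 2 * h - Fintype.card F = 1 by omega] at h''
      exact hpp.not_dvd_one h''
    · have h'' := Nat.dvd_sub hpq h1
      rw [show Fintype.card F - 2 * h = 1 by omega] at h''
      exact hpp.not_dvd_one h''
  refine ⟨h, g, hdiv, by omega, hgo, hh, ?_, fun t ht ht1 => ?_, fun x hx hxk => ?_, fun P => ?_⟩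
  · refine (Subgroup.eq_of_le_of_card_ge (Subgroup.zpowers_le.mpr (Subgroup.mem_centralizer_singleton_iff.mpr rfl)) ?_).symm
    rw [Nat.card_zpowers, hgo]
    rcases hss g hg2 (hgo ▸ hnp h dvd_rfl) with ⟨hc, ho⟩ | ⟨hc, ho⟩ <;> rw [hc] <;> rw [hgo] at ho
    · by_contra hne
      have hle := Nat.le_of_dvd (by omega) ho
      obtain ⟨c, hc'⟩ := ho
      rcases Nat.lt_or_ge c 2 with hc2 | hc2
      · interval_cases c <;> omega
      · have hmm := Nat.mul_le_mul_left h hc2
        omega
    · have := Nat.le_of_dvd (by omega) ho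
      omega
  · rcases h4q with ⟨h', e⟩ | ⟨h', e⟩
    · rw [(card_centralizer_involution h2 h7 ht ht1).1 h', e]
    · rw [(card_centralizer_involution h2 h7 ht ht1).2 h', e]
  · obtain ⟨k, hk⟩ := hxk
    have hk1 : 2 ≤ k := by
      by_contra hlt
      refine hx (orderOf_dvd_iff_pow_eq_one.mp ?_)
      rw [hk]
      interval_cases k <;> norm_num
    have hxp : ¬ p ∣ orderOf x := by
      rw [hk]
      exact fun hd => hpodd ((Nat.prime_dvd_prime_iff_eq hpp Nat.prime_two).mp (hpp.dvd_of_dvd_pow hd))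
    have h2x : 2 ∣ orderOf x := hk ▸ dvd_pow_self 2 (by omega)
    rcases hss x hx hxp with ⟨hc, ho⟩ | ⟨hc, ho⟩ <;> rw [hc] <;> have := h2x.trans ho <;> omega
  · have hs := card_sylow_two h2 P
    have hqq : Fintype.card F ^ 2 - 1 = (Fintype.card F + 1) * (Fintype.card F - 1) := by
      have e := Nat.mul_self_sub_mul_self_eq (Fintype.card F) 1
      rw [mul_one] at e
      rw [sq, e]
    have hodd : ∀ w, w % 4 = 2 → w.factorization 2 = 1 := fun w hw => by
      rw [show w = 2 * (w / 2) by omega, Nat.factorization_mul two_ne_zero (by omega), Finsupp.add_apply,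
        Nat.prime_two.factorization_self, Nat.factorization_eq_zero_of_not_dvd (by omega)]
    rw [hqq, Nat.factorization_mul (by omega) (by omega), Finsupp.add_apply] at hs
    rcases hh with h' | h'
    · rw [← h', hodd (Fintype.card F - 1) (by omega), pow_succ] at hs
      omega
    · rw [← h', hodd (Fintype.card F + 1) (by omega), add_comm, pow_succ] at hs
      omega

theorem red_two_iff (h2 : Fintype.card F % 2 = 1) (h7 : 7 ≤ Fintype.card F) :
    Red 2 PSL2 ↔ (¬ ∃ k : ℕ, Fintype.card F + 1 = 2 ^ k) ∧ ¬ ∃ k : ℕ, Fintype.card F = 2 ^ k + 1 := by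
  classical
  obtain ⟨h, g, hdiv, hh3, hgo, hh, hCg, hinv, hbig, hsyl⟩ := exists_torus h2 h7
  have hhalf : ∀ t : PSL2, t ^ 2 = 1 → t ≠ 1 → t ∈ Subgroup.zpowers g → t = g ^ (h / 2) := by
    intro t ht ht1 htg
    obtain ⟨i, hi, rfl⟩ := Finset.mem_image.mp ((isOfFinOrder_of_finite g).mem_zpowers_iff_mem_range_orderOf.mp htg)
    rw [Finset.mem_range, hgo] at hi
    rw [← pow_mul] at ht
    have hd := orderOf_dvd_of_pow_eq_one ht
    rw [hgo] at hd
    congr 1
    obtain ⟨c, hc⟩ := hd
    rcases Nat.lt_or_ge c 2 with hc2 | hc2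
    · interval_cases c
      · exfalso; exact ht1 (by rw [show i = 0 by omega, pow_zero])
      · omega
    · nlinarith
  constructor
  · intro hred
    have h4 : Fintype.card F % 4 = 1 ∧ 2 * h + 1 = Fintype.card F ∨ Fintype.card F % 4 = 3 ∧ 2 * h = Fintype.card F + 1 := by omega
    by_contra hcon
    have hpow : ∃ k, 2 * h = 2 ^ k := by
      rw [not_and_or, not_not, not_not] at hcon
      rcases hcon with ⟨k, hk⟩ | ⟨k, hk⟩
      all_goals
        have hk4 : 4 ∣ 2 ^ k := by
          have : 2 ≤ k := by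
            by_contra hlt
            interval_cases k <;> omega
          exact pow_dvd_pow 2 this
        exact ⟨k, by omega⟩
    obtain ⟨k, hk⟩ := hpow
    have hcardP : ∀ P : Sylow 2 PSL2, Nat.card (P : Subgroup PSL2) = 2 * h := fun P => by
      rw [hsyl P, hk, Nat.prime_two.factorization_pow, Finsupp.single_eq_same]
    obtain ⟨P₀, hP₀⟩ := exists_mem (p := 2) (x := g) ⟨k - 1, by
      rw [hgo]
      obtain ⟨j, rfl⟩ : ∃ j, k = j + 1 := ⟨k - 1, by rcases Nat.eq_zero_or_pos k with rfl | h' <;> [omega; omega]⟩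
      rw [pow_succ] at hk
      simp only [Nat.add_sub_cancel]
      omega⟩
    have heq : ∀ P : Sylow 2 PSL2, g ∈ P → (P : Subgroup PSL2) = Subgroup.centralizer ({g ^ (h / 2)} : Set PSL2) := by
      intro P hP
      haveI : Nontrivial ↥(P : Subgroup PSL2) := ⟨⟨1, ⟨g, hP⟩, fun he => by
        have : orderOf g = 1 := by rw [← show (1 : PSL2) = g from congrArg Subtype.val he, orderOf_one]
        omega⟩⟩
      haveI := P.isPGroup'.center_nontrivial
      obtain ⟨z, hz1⟩ := exists_ne (1 : Subgroup.center ↥(P : Subgroup PSL2))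
      obtain ⟨z', hz', hzord⟩ : ∃ z' : ↥(P : Subgroup PSL2), z' ∈ Subgroup.center ↥(P : Subgroup PSL2) ∧ orderOf z' = 2 := by
        obtain ⟨j, hj⟩ := IsPGroup.iff_orderOf.mp P.2 (z : ↥(P : Subgroup PSL2))
        have hj0 : j ≠ 0 := fun h0 => hz1 (Subtype.ext (orderOf_eq_one_iff.mp (by rw [hj, h0, pow_zero])))
        refine ⟨(z : ↥(P : Subgroup PSL2)) ^ 2 ^ (j - 1), Subgroup.pow_mem _ z.2 _, ?_⟩
        rw [orderOf_pow_of_dvd (by positivity) (by rw [hj]; exact pow_dvd_pow 2 (by omega)), hj,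
          Nat.pow_div (by omega) (by norm_num), show j - (j - 1) = 1 by omega, pow_one]
      have hsq : ((z' : ↥(P : Subgroup PSL2)) : PSL2) ^ 2 = 1 := by
        rw [← Subgroup.coe_pow, orderOf_dvd_iff_pow_eq_one.mp (dvd_of_eq hzord)]; rfl
      have hne : ((z' : ↥(P : Subgroup PSL2)) : PSL2) ≠ 1 := fun he => by
        rw [show z' = 1 from Subtype.ext he, orderOf_one] at hzord
        exact absurd hzord (by norm_num)
      have hzg : ((z' : ↥(P : Subgroup PSL2)) : PSL2) ∈ Subgroup.zpowers g := hCg ▸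
        Subgroup.mem_centralizer_singleton_iff.mpr (congrArg Subtype.val (Subgroup.mem_center_iff.mp hz' ⟨g, hP⟩)).symm
      have hz := hhalf _ hsq hne hzg
      refine Subgroup.eq_of_le_of_card_ge (fun u hu => Subgroup.mem_centralizer_singleton_iff.mpr ?_) ?_
      · rw [← hz]
        exact congrArg Subtype.val (Subgroup.mem_center_iff.mp hz' ⟨u, hu⟩)
      · rw [hcardP P, ← hz, hinv _ hsq hne]
    exact not_red hP₀ (fun P hP => Sylow.ext ((heq P hP).trans (heq P₀ hP₀).symm)) hred
  · rintro ⟨hn1, hn2⟩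
    have hm : ¬ ∃ k, 2 * h = 2 ^ k := by
      rintro ⟨k, hk⟩
      rcases hh with h' | h'
      · exact hn1 ⟨k, by omega⟩
      · exact hn2 ⟨k, by omega⟩
    set t₀ := g ^ (h / 2) with ht₀
    have ht₀2 : t₀ ^ 2 = 1 := by rw [ht₀, ← pow_mul, Nat.div_mul_cancel hdiv, ← hgo, pow_orderOf_eq_one]
    have ht₀1 : t₀ ≠ 1 := fun he => by
      have hd := Nat.le_of_dvd (by omega) (orderOf_dvd_of_pow_eq_one he)
      omega
    -- the Sylow subgroup of the centraliser of an involution is not normal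
    have htwo : ∀ t : PSL2, t ^ 2 = 1 → t ≠ 1 → ∃ P P' : Sylow 2 PSL2, P ≠ P' ∧
        (P : Subgroup PSL2) ≤ Subgroup.centralizer ({t} : Set PSL2) ∧ (P' : Subgroup PSL2) ≤ Subgroup.centralizer ({t} : Set PSL2) := by
      have h0 : ∃ P P' : Sylow 2 PSL2, P ≠ P' ∧
          (P : Subgroup PSL2) ≤ Subgroup.centralizer ({t₀} : Set PSL2) ∧ (P' : Subgroup PSL2) ≤ Subgroup.centralizer ({t₀} : Set PSL2) := by
        set C := Subgroup.centralizer ({t₀} : Set PSL2) with hC
        obtain ⟨S⟩ : Nonempty (Sylow 2 C) := inferInstance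
        have hSc : Nat.card (S : Subgroup C) = 2 ^ ((2 * h).factorization 2) := by
          rw [S.card_eq_multiplicity, hinv t₀ ht₀2 ht₀1]
        have hmap : Nat.card ↥((S : Subgroup C).map C.subtype) = 2 ^ ((2 * h).factorization 2) := by
          rw [Subgroup.card_map_of_injective C.subtype_injective, hSc]
        obtain ⟨j, hj⟩ : ∃ j, Nat.card ↥((S : Subgroup C).map C.subtype) = 2 ^ j := ⟨_, hmap⟩
        obtain ⟨P, hP⟩ := (IsPGroup.of_card (n := j) hj).exists_le_sylow
        have hPe : (P : Subgroup PSL2) = (S : Subgroup C).map C.subtype :=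
          (Subgroup.eq_of_le_of_card_ge hP (by rw [hsyl P, hmap])).symm
        have hPC : (P : Subgroup PSL2) ≤ C := hPe ▸ Subgroup.map_subtype_le _
        by_contra hcon
        push Not at hcon
        have hnorm : ∀ c ∈ C, c • P = P := by
          intro c hc
          by_contra hne
          refine hcon (c • P) P hne ?_ hPC
          intro u hu
          rw [Sylow.coe_subgroup_smul, Subgroup.mem_pointwise_smul_iff_inv_smul_mem, MulAut.smul_def, MulAut.conj_inv_apply] at hu
          have := C.mul_mem (C.mul_mem hc (hPC hu)) (C.inv_mem hc)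
          rwa [show c * (c⁻¹ * u * c) * c⁻¹ = u by group] at this
        have hgC : g ∈ C := Subgroup.mem_centralizer_singleton_iff.mpr (by rw [ht₀]; exact (pow_mul_comm' g (h / 2)).symm)
        have hgle : Subgroup.zpowers g ≤ C := Subgroup.zpowers_le.mpr hgC
        have hidx : ((Subgroup.zpowers g).subgroupOf C).Normal := Subgroup.normal_of_index_eq_two (by
          have := (Subgroup.zpowers g).relIndex_mul_index (le_refl _)
          have hc := Subgroup.card_mul_index ((Subgroup.zpowers g).subgroupOf C)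
          rw [Nat.card_congr (Subgroup.subgroupOfEquivOfLe hgle).toEquiv, Nat.card_zpowers, hgo, hinv t₀ ht₀2 ht₀1] at hc
          nlinarith)
        -- an element of odd order in the torus
        set a := h.factorization 2 with ha
        set y := g ^ 2 ^ a with hy
        have hyo : orderOf y = h / 2 ^ a := by
          rw [hy, orderOf_pow_of_dvd (by positivity) (hgo ▸ Nat.ordProj_dvd h 2), hgo]
        have hm3 : 3 ≤ h / 2 ^ a := by
          have hmul : 2 ^ a * (h / 2 ^ a) = h := Nat.ordProj_mul_ordCompl_eq_self h 2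
          have hodd' : ¬ 2 ∣ h / 2 ^ a := Nat.not_dvd_ordCompl Nat.prime_two (by omega)
          by_contra hlt
          have h1 : h / 2 ^ a = 1 := by omega
          rw [h1, mul_one] at hmul
          exact hm ⟨a + 1, by rw [pow_succ]; omega⟩
        obtain ⟨u, hu, hug⟩ : ∃ u ∈ P, u ∉ Subgroup.zpowers g := by
          by_contra hall
          push Not at hall
          have hd := Subgroup.card_dvd_of_le (show (P : Subgroup PSL2) ≤ Subgroup.zpowers g from hall)
          rw [hsyl P, Nat.card_zpowers, hgo] at hd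
          have hle := (Nat.prime_two.pow_dvd_iff_le_factorization (by omega)).mp hd
          rw [Nat.factorization_mul two_ne_zero (by omega), Finsupp.add_apply, Nat.prime_two.factorization_self] at hle
          omega
        set c := y * u * y⁻¹ * u⁻¹ with hc
        have hyg : y ∈ Subgroup.zpowers g := Subgroup.pow_mem _ (Subgroup.mem_zpowers g) _
        have hyC : y ∈ C := hgle hyg
        have hcP : c ∈ P := by
          have hm1 := (mem_smul (g := y) (P := P)).mpr hu
          rw [hnorm y hyC] at hm1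
          exact (P : Subgroup PSL2).mul_mem hm1 ((P : Subgroup PSL2).inv_mem hu)
        have hcg : c ∈ Subgroup.zpowers g := by
          have h1 := hidx.conj_mem ⟨y⁻¹, C.inv_mem hyC⟩ (Subgroup.mem_subgroupOf.mpr (Subgroup.inv_mem _ hyg)) ⟨u, hPC hu⟩
          have h1' : u * y⁻¹ * u⁻¹ ∈ Subgroup.zpowers g := h1
          rw [show c = y * (u * y⁻¹ * u⁻¹) by rw [hc]; group]
          exact Subgroup.mul_mem _ hyg h1'
        have hcy : c * y = y * c := by
          obtain ⟨i, hi⟩ := Subgroup.mem_zpowers_iff.mp hcg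
          rw [← hi]
          exact ((Commute.refl g).pow_right _).zpow_left i
        have hind : ∀ j : ℕ, y ^ j * u = c ^ j * (u * y ^ j) := by
          intro j
          induction j with
          | zero => simp
          | succ j ih =>
            calc y ^ (j + 1) * u = y * (y ^ j * u) := by rw [pow_succ', mul_assoc]
              _ = y * c ^ j * (u * y ^ j) := by rw [ih, mul_assoc]
              _ = c ^ j * y * (u * y ^ j) := by rw [((show Commute c y from hcy).pow_left j).eq]
              _ = c ^ j * (y * u * y ^ j) := by group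
              _ = c ^ j * (c * u * y * y ^ j) := by rw [show y * u = c * u * y by rw [hc]; group]
              _ = _ := by rw [pow_succ c, pow_succ' y]; group
        have hcm : c ^ (h / 2 ^ a) = 1 := by
          have := hind (h / 2 ^ a)
          rw [← hyo, pow_orderOf_eq_one, one_mul, mul_one] at this
          rw [← hyo]
          exact mul_eq_right.mp this.symm
        obtain ⟨j', hj'⟩ := orderOf_mem P hcP
        have hc1 : c = 1 := by
          rw [← orderOf_eq_one_iff, hj']
          rcases Nat.eq_zero_or_pos j' with rfl | hpos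
          · rfl
          · exfalso
            have hd := orderOf_dvd_of_pow_eq_one hcm
            rw [hj'] at hd
            exact Nat.not_dvd_ordCompl Nat.prime_two (by omega : h ≠ 0) ((dvd_pow_self 2 hpos.ne').trans hd)
        have huy : u ∈ Subgroup.centralizer ({y} : Set PSL2) := Subgroup.mem_centralizer_singleton_iff.mpr (by
          have := mul_inv_eq_one.mp hc1
          exact (mul_inv_eq_iff_eq_mul.mp this).symm)
        obtain ⟨p, hp⟩ := CharP.exists F
        haveI := hp
        haveI := Fact.mk (CharP.char_is_prime F p)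
        obtain ⟨n, hpp, hn⟩ := FiniteField.card F p
        have hy2 : y ^ 2 ≠ 1 := fun he => by
          have := Nat.le_of_dvd two_pos (orderOf_dvd_of_pow_eq_one he)
          omega
        have hyh : h / 2 ^ a ∣ h := Nat.ordCompl_dvd h 2
        have hgy : Subgroup.zpowers g ≤ Subgroup.centralizer ({y} : Set PSL2) :=
          Subgroup.zpowers_le.mpr (Subgroup.mem_centralizer_singleton_iff.mpr (pow_mul_comm' g _).symm)
        have hnp : ¬ p ∣ orderOf y := by
          intro hd
          rw [hyo] at hd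
          have hpq : p ∣ Fintype.card F := hn ▸ dvd_pow_self p n.pos.ne'
          have h1 : p ∣ 2 * h := Dvd.dvd.mul_left (hd.trans hyh) 2
          rcases hh with h' | h'
          · have h'' := Nat.dvd_sub h1 hpq
            rw [show 2 * h - Fintype.card F = 1 by omega] at h''
            exact hpp.not_dvd_one h''
          · have h'' := Nat.dvd_sub hpq h1
            rw [show Fintype.card F - 2 * h = 1 by omega] at h''
            exact hpp.not_dvd_one h''
        have hd2 : Nat.gcd 2 (Fintype.card F - 1) = 2 := Nat.gcd_eq_left (by omega)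
        have hss := card_centralizer_semisimple (F := F) (show 4 ≤ Fintype.card F by omega) p hy2 hnp
        rw [hd2] at hss
        have hhC : h ∣ Nat.card (Subgroup.centralizer ({y} : Set PSL2)) := by
          rw [← hgo, ← Nat.card_zpowers]; exact Subgroup.card_dvd_of_le hgy
        have hCy : Nat.card (Subgroup.centralizer ({y} : Set PSL2)) ≤ h := by
          rcases hss with ⟨hc', -⟩ | ⟨hc', -⟩ <;> rw [hc'] at hhC ⊢
          · obtain ⟨w, hw⟩ := hhC
            rcases Nat.lt_or_ge w 2 with hw2 | hw2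
            · interval_cases w <;> omega
            · have hmm := Nat.mul_le_mul_left h hw2
              omega
          · have hle' : h ≤ (Fintype.card F - 1) / 2 := Nat.le_of_dvd (by omega) hhC
            omega
        have := Subgroup.eq_of_le_of_card_ge hgy (by rw [Nat.card_zpowers, hgo]; exact hCy)
        exact hug (this ▸ huy)
      intro t ht ht1
      obtain ⟨c, hc⟩ := exists_conj_involution h2 ht₀2 ht₀1 ht ht1
      obtain ⟨P, P', hne, hP, hP'⟩ := h0
      have key : ∀ R : Sylow 2 PSL2, (R : Subgroup PSL2) ≤ Subgroup.centralizer ({t₀} : Set PSL2) →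
          ((c⁻¹ • R : Sylow 2 PSL2) : Subgroup PSL2) ≤ Subgroup.centralizer ({t} : Set PSL2) := by
        intro R hR u hu
        rw [Sylow.coe_subgroup_smul, Subgroup.mem_pointwise_smul_iff_inv_smul_mem, MulAut.smul_def, MulAut.conj_inv_apply,
          inv_inv] at hu
        have h1 := Subgroup.mem_centralizer_singleton_iff.mp (hR hu)
        rw [Subgroup.mem_centralizer_singleton_iff, ← hc]
        calc u * (c⁻¹ * t₀ * c) = c⁻¹ * (c * u * c⁻¹ * t₀) * c := by group
          _ = c⁻¹ * (t₀ * (c * u * c⁻¹)) * c := by rw [h1]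
          _ = c⁻¹ * t₀ * c * u := by group
      exact ⟨c⁻¹ • P, c⁻¹ • P', fun he => hne (MulAction.injective c⁻¹ he), key P hP, key P' hP'⟩
    refine red_of_two fun x hx => ?_
    by_cases hx2 : x ^ 2 = 1
    · by_cases hx1 : x = 1
      · obtain ⟨P, P', hne, -, -⟩ := htwo t₀ ht₀2 ht₀1
        exact ⟨P, P', hne, hx1 ▸ (P : Subgroup PSL2).one_mem, hx1 ▸ (P' : Subgroup PSL2).one_mem⟩
      · obtain ⟨P, P', hne, hP, hP'⟩ := htwo x hx2 hx1
        have : ∀ R : Sylow 2 PSL2, (R : Subgroup PSL2) ≤ Subgroup.centralizer ({x} : Set PSL2) → x ∈ R := by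
          intro R hR
          refine le_sylow_of_le_normalizer (IsPGroup.of_card (n := 1) (by
            rw [Nat.card_zpowers, pow_one]; exact orderOf_eq_prime hx2 hx1)) R ?_ (Subgroup.mem_zpowers x)
          refine Subgroup.zpowers_le.mpr (Subgroup.mem_normalizer_iff.mpr fun u => ?_)
          have hxu : ∀ v ∈ R, x * v * x⁻¹ = v := fun v hv => by
            rw [← Subgroup.mem_centralizer_singleton_iff.mp (hR hv), mul_inv_cancel_right]
          refine ⟨fun hu => by rw [hxu u hu]; exact hu, fun hu => ?_⟩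
          have := hxu _ hu
          have h' : x * u * x⁻¹ = u := mul_left_cancel (mul_right_cancel this)
          rwa [h'] at hu
        exact ⟨P, P', hne, this P hP, this P' hP'⟩
    · obtain ⟨k, hk⟩ := hx
      have hk1 : 2 ≤ k := by
        by_contra hlt
        refine hx2 (orderOf_dvd_iff_pow_eq_one.mp ?_)
        rw [hk]
        interval_cases k <;> norm_num
      set t := x ^ 2 ^ (k - 1) with ht
      have hto : orderOf t = 2 := by
        rw [ht, orderOf_pow_of_dvd (by positivity) (by rw [hk]; exact pow_dvd_pow 2 (by omega)), hk,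
          Nat.pow_div (by omega) (by norm_num), show k - (k - 1) = 1 by omega, pow_one]
      have ht2 : t ^ 2 = 1 := orderOf_dvd_iff_pow_eq_one.mp (dvd_of_eq hto)
      have ht1 : t ≠ 1 := fun he => by rw [he, orderOf_one] at hto; exact absurd hto (by norm_num)
      set A := Subgroup.centralizer ({x} : Set PSL2) with hA
      set C := Subgroup.centralizer ({t} : Set PSL2) with hC
      have hAC : A ≤ C := fun u hu => Subgroup.mem_centralizer_singleton_iff.mpr
        ((show Commute u x from Subgroup.mem_centralizer_singleton_iff.mp hu).pow_right _)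
      have hidx : (A.subgroupOf C).Normal := Subgroup.normal_of_index_eq_two (by
        have hc := Subgroup.card_mul_index (A.subgroupOf C)
        rw [Nat.card_congr (Subgroup.subgroupOfEquivOfLe hAC).toEquiv, hbig x hx2 ⟨k, hk⟩, hinv t ht2 ht1] at hc
        nlinarith)
      obtain ⟨P, P', hne, hP, hP'⟩ := htwo t ht2 ht1
      let W : Subgroup PSL2 :=
        { carrier := {u | u ∈ A ∧ (∀ v ∈ A, u * v = v * u) ∧ ∃ i : ℕ, u ^ 2 ^ i = 1}
          one_mem' := ⟨A.one_mem, fun v _ => by rw [one_mul, mul_one], 0, one_pow _⟩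
          mul_mem' := by
            rintro u w ⟨hu1, hu2, i, hui⟩ ⟨hw1, hw2, j, hwj⟩
            refine ⟨A.mul_mem hu1 hw1, fun v hv => by rw [mul_assoc, hw2 v hv, ← mul_assoc, hu2 v hv, mul_assoc], i + j, ?_⟩
            rw [(show Commute u w from hu2 w hw1).mul_pow, pow_add, pow_mul, hui, one_pow, mul_comm (2 ^ i), pow_mul, hwj,
              one_pow, one_mul]
          inv_mem' := by
            rintro u ⟨hu1, hu2, i, hui⟩
            exact ⟨A.inv_mem hu1, fun v hv => ((show Commute u v from hu2 v hv).inv_left).eq, i, by rw [inv_pow, hui, inv_one]⟩ }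
      have hW : IsPGroup 2 W := fun ⟨u, hu⟩ => by
        obtain ⟨i, hi⟩ := hu.2.2
        exact ⟨i, Subtype.ext (by simpa using hi)⟩
      have hxW : x ∈ W := ⟨Subgroup.mem_centralizer_singleton_iff.mpr rfl,
        fun v hv => (Subgroup.mem_centralizer_singleton_iff.mp hv).symm, k, by rw [← hk, pow_orderOf_eq_one]⟩
      have hAn : ∀ c ∈ C, ∀ u ∈ A, c * u * c⁻¹ ∈ A := fun c hc u hu => by
        have := hidx.conj_mem ⟨u, hAC hu⟩ (Subgroup.mem_subgroupOf.mpr hu) ⟨c, hc⟩
        exact Subgroup.mem_subgroupOf.mp this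
      have hWc : ∀ c ∈ C, ∀ u ∈ W, c * u * c⁻¹ ∈ W := by
        rintro c hc u ⟨hu1, hu2, i, hui⟩
        refine ⟨hAn c hc u hu1, fun v hv => ?_, i, by rw [conj_pow, hui, mul_one, mul_inv_cancel]⟩
        have hv' := hu2 _ (hAn c⁻¹ (C.inv_mem hc) v hv)
        rw [inv_inv] at hv'
        calc c * u * c⁻¹ * v = c * (u * (c⁻¹ * v * c)) * c⁻¹ := by group
          _ = c * (c⁻¹ * v * c * u) * c⁻¹ := by rw [hv']
          _ = v * (c * u * c⁻¹) := by group
      have key : ∀ R : Sylow 2 PSL2, (R : Subgroup PSL2) ≤ C → x ∈ R := by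
        intro R hR
        have hRW : (R : Subgroup PSL2) ≤ Subgroup.normalizer ((W : Subgroup PSL2) : Set PSL2) := fun c hc => by
          refine Subgroup.mem_normalizer_iff.mpr fun u => ⟨hWc c (hR hc) u, fun hu => ?_⟩
          have := hWc c⁻¹ (C.inv_mem (hR hc)) _ hu
          rwa [inv_inv, show c⁻¹ * (c * u * c⁻¹) * c = u by group] at this
        have hsup : IsPGroup 2 (W ⊔ (R : Subgroup PSL2) : Subgroup PSL2) := IsPGroup.to_sup_of_normal_left' hW R.2 hRW
        have := R.3 hsup le_sup_right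
        show x ∈ (R : Subgroup PSL2)
        rw [← this]
        exact Subgroup.mem_sup_left hxW
      exact ⟨P, P', hne, key P hP, key P' hP'⟩

theorem red_psl_iff (p : ℕ) [Fact p.Prime] :
    Red p PSL2 ↔ (p = 2 ∧ (¬ ∃ k : ℕ, Fintype.card F + 1 = 2 ^ k) ∧ (¬ ∃ k : ℕ, Fintype.card F = 2 ^ k) ∧
        ¬ ∃ k : ℕ, Fintype.card F = 2 ^ k + 1) := by
  classical
  obtain ⟨c, hc⟩ := CharP.exists F
  haveI := hc
  haveI := Fact.mk (CharP.char_is_prime F c)
  obtain ⟨n, hcp, hn⟩ := FiniteField.card F c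
  by_cases hp2 : p = 2
  swap
  · refine iff_of_false ?_ fun h => hp2 h.1
    by_cases hpc : p = c
    · subst hpc; exact not_red_char p
    · exact not_red_odd c p hp2 hpc
  subst hp2
  by_cases hc2 : c = 2
  · subst hc2
    exact iff_of_false (not_red_char 2) fun h => h.2.2.1 ⟨n, hn⟩
  have hq2 : Fintype.card F % 2 = 1 := by
    rw [hn]
    exact Nat.odd_iff.mp ((hcp.odd_of_ne_two hc2).pow)
  have hq := Fintype.one_lt_card (α := F)
  rcases Nat.lt_or_ge (Fintype.card F) 7 with h7 | h7
  · refine iff_of_false (not_red_small hq2 (by omega)) fun h => ?_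
    rcases (show Fintype.card F = 3 ∨ Fintype.card F = 5 by omega) with h' | h'
    · exact h.2.2.2 ⟨1, by rw [h']; rfl⟩
    · exact h.2.2.2 ⟨2, by rw [h']; rfl⟩
  · rw [red_two_iff hq2 h7]
    refine ⟨fun h => ⟨rfl, h.1, ?_, h.2⟩, fun h => ⟨h.2.1, h.2.2.2⟩⟩
    rintro ⟨k, hk⟩
    rcases Nat.eq_zero_or_pos k with rfl | hk0
    · omega
    · have h2k : 2 ∣ 2 ^ k := dvd_pow_self 2 hk0.ne'
      omega

theorem red_sl_iff (p : ℕ) [Fact p.Prime] :
    Red p (Matrix.SpecialLinearGroup (Fin 2) F) ↔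
      (p = 2 ∧ (¬ ∃ k : ℕ, Fintype.card F + 1 = 2 ^ k) ∧ (¬ ∃ k : ℕ, Fintype.card F = 2 ^ k) ∧
        ¬ ∃ k : ℕ, Fintype.card F = 2 ^ k + 1) := by
  rw [← red_psl_iff p]
  exact red_quot (QuotientGroup.mk' _) (QuotientGroup.mk'_surjective _) (by rw [QuotientGroup.ker_mk'])

end PSL

end Cfsg.Lib.Dickson.Redundant
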