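import Cfsg.Agent.Lib.Dickson.Targets

set_option autoImplicit false

open Matrix
open scoped MatrixGroups

namespace Cfsg.Lib.Dickson

variable {F K : Type*} [Field F] [Fintype F] [Field K] [Fintype K]

theorem nine_pow_odd_mod (r : ℕ) (hr : r % 2 = 1) : 9 ^ r % 16 = 9 ∧ 9 ^ r % 5 = 4 := by
  obtain ⟨l, rfl⟩ : ∃ l, r = 2 * l + 1 := ⟨r / 2, by omega⟩
  constructor <;> rw [pow_succ, pow_mul, Nat.mul_mod, Nat.pow_mod] <;> norm_num

/-- The subfield subgroup of prime index in the degree is maximal. -/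
theorem exists_maximal_subfield_psl {q r : ℕ} (hK : Fintype.card K = q) (hF : Fintype.card F = q ^ r)
    (hr : r.Prime) (h3 : 3 ≤ q) (hodd : q % 2 = 1 → r ≠ 2) :
    ∃ H : Subgroup (Matrix.ProjectiveSpecialLinearGroup (Fin 2) F), IsCoatom H ∧
      Nonempty (H ≃* Matrix.ProjectiveSpecialLinearGroup (Fin 2) K) := by
  classical
  obtain ⟨p, hpp, hp, n, hn0, hn⟩ := exists_char (F := F)
  haveI := Fact.mk hpp
  haveI : Finite (Matrix.ProjectiveSpecialLinearGroup (Fin 2) K) := inferInstance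
  have hKF : Fintype.card K ^ r = Fintype.card F := by rw [hK, hF]
  obtain ⟨ι⟩ := nonempty_ringHom hKF
  haveI : CharP K p := (RingHom.charP_iff ι ι.injective p).mpr hp
  obtain ⟨e, -, he⟩ := FiniteField.card K p
  rw [hK] at he
  have hG := Cfsg.Lib.Linear.Two.card_PSL_two (F := F)
  obtain ⟨H₀, ⟨e₀⟩⟩ := exists_psl_subgroup hKF
  have hc₀ : Nat.gcd 2 (q - 1) * Nat.card H₀ = q * (q ^ 2 - 1) := by
    rw [Nat.card_congr e₀.toEquiv, ← hK, Cfsg.Lib.Linear.Two.card_PSL_two]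
  have hqF : q % 2 = 1 ↔ Fintype.card F % 2 = 1 := by
    rw [hF, Nat.pow_mod]
    rcases Nat.mod_two_eq_zero_or_one q with h | h <;> simp [h, zero_pow hr.ne_zero]
  have hgcd : (q % 2 = 1 ∧ Nat.gcd 2 (q - 1) = 2) ∨ (q % 2 = 0 ∧ Nat.gcd 2 (q - 1) = 1) := by
    rcases Nat.mod_two_eq_zero_or_one q with h | h
    · exact Or.inr ⟨h, by rw [Nat.gcd_rec, show (q - 1) % 2 = 1 by omega]; rfl⟩
    · exact Or.inl ⟨h, Nat.gcd_eq_left (by omega)⟩
  have hqQ : q < Fintype.card F := by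
    rw [hF]; exact lt_self_pow₀ (by omega) hr.one_lt
  have hbig : 12 ≤ Nat.card H₀ ∧ (4 ≤ q → 60 ≤ Nat.card H₀) := by
    have h8 : 8 ≤ q ^ 2 - 1 := by have := Nat.pow_le_pow_left h3 2; omega
    refine ⟨?_, fun h4 => ?_⟩
    · have := Nat.mul_le_mul h3 h8
      rcases hgcd with ⟨-, hg⟩ | ⟨-, hg⟩ <;> rw [hg] at hc₀ <;> omega
    · rcases Nat.lt_or_ge q 5 with h5 | h5
      · obtain rfl : q = 4 := by omega
        rw [show Nat.gcd 2 (4 - 1) = 1 by rfl] at hc₀
        rw [show (4 * (4 ^ 2 - 1) : ℕ) = 60 by rfl, one_mul] at hc₀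
        omega
      · have h24 : 24 ≤ q ^ 2 - 1 := by have := Nat.pow_le_pow_left h5 2; omega
        have := Nat.mul_le_mul h5 h24
        rcases hgcd with ⟨-, hg⟩ | ⟨-, hg⟩ <;> rw [hg] at hc₀ <;> omega
  have hne : H₀ ≠ ⊥ := by
    intro h
    rw [h, Subgroup.card_bot] at hbig
    omega
  have hnn : NoNormalCyclic H₀ := noNormalCyclic_congr e₀ (noNormalCyclic_psl (hK ▸ h3))
  have hN : ∀ P : Sylow p (Matrix.ProjectiveSpecialLinearGroup (Fin 2) F),
      ¬ H₀ ≤ Subgroup.normalizer ((P : Subgroup (Matrix.ProjectiveSpecialLinearGroup (Fin 2) F)) :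
        Set (Matrix.ProjectiveSpecialLinearGroup (Fin 2) F)) :=
    not_le_normalizer_of_sylow p (sylow_not_normal_congr e₀ (sylow_not_normal_psl p))
  refine ⟨H₀, isCoatom_of_overgroups ?_ ?_, ⟨e₀⟩⟩
  · intro h
    rw [h, Subgroup.card_top] at hc₀
    have hQ : q * (q ^ 2 - 1) < Fintype.card F * (Fintype.card F ^ 2 - 1) :=
      Nat.mul_lt_mul_of_lt_of_le hqQ (Nat.sub_le_sub_right (Nat.pow_le_pow_left hqQ.le 2) 1)
        (by have := Nat.pow_le_pow_left (h3.trans hqQ.le) 2; omega)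
    have hgg : Nat.gcd 2 (Fintype.card F - 1) = Nat.gcd 2 (q - 1) := by
      rcases hgcd with ⟨h', hg⟩ | ⟨h', hg⟩
      · rw [hg]; exact Nat.gcd_eq_left (by have := hqF.mp h'; omega)
      · rw [hg, Nat.gcd_rec, show (Fintype.card F - 1) % 2 = 1 by
          have := (not_congr hqF).mp (by omega); omega]
        rfl
    rw [hgg] at hG
    omega
  intro H hlt
  obtain ⟨hc, hd⟩ := card_lt_of_lt hlt
  rcases overgroup_cases p hlt.le hnn hne hN with he' | he' | he' | ⟨L, _, _, m, hLp, hL3, hm, hiso⟩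
  · obtain ⟨f⟩ := he'
    rw [card_target_four f] at hc
    omega
  · obtain ⟨f⟩ := he'
    rw [card_target_perm f] at hc hd
    exfalso
    rcases Nat.lt_or_ge q 4 with h4 | h4
    · obtain rfl : q = 3 := by omega
      have h16 := sq_mod_sixteen_of_perm_four f
      rw [hF, ← pow_mul, mul_comm, pow_mul] at h16
      have := (nine_pow_odd_mod r (Nat.odd_iff.mp (hr.odd_of_ne_two (hodd rfl)))).1
      norm_num at h16
      omega
    · have := hbig.2 h4
      omega
  · obtain ⟨f⟩ := he'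
    rw [card_target_five f] at hc hd
    exfalso
    rcases Nat.lt_or_ge q 4 with h4 | h4
    · obtain rfl : q = 3 := by omega
      have h5 := five_dvd_of_alternating_five f
      rw [hF] at h5
      have h5' : 5 ∣ (3 ^ r) ^ 2 - 1 := (Nat.Coprime.dvd_of_dvd_mul_left
        (Nat.Coprime.pow_right r (by norm_num)) h5)
      rw [← pow_mul, mul_comm, pow_mul] at h5'
      have := (nine_pow_odd_mod r (Nat.odd_iff.mp (hr.odd_of_ne_two (hodd rfl)))).2
      rw [show (3 : ℕ) ^ 2 = 9 by rfl] at h5'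
      have h1 : 1 ≤ 9 ^ r := Nat.one_le_pow _ _ (by norm_num)
      omega
    · have := hbig.2 h4
      omega
  · haveI := hLp
    obtain ⟨a, -, ha⟩ := FiniteField.card L p
    have hdvd : q * (q ^ 2 - 1) ∣ 2 * (Fintype.card L * (Fintype.card L ^ 2 - 1)) := by
      rw [← hc₀]
      rcases hiso with ⟨⟨f⟩, hL⟩ | ⟨⟨f⟩⟩
      · rw [← card_psl_mul (K := L) hL, ← Nat.card_congr f.toEquiv]
        rcases hgcd with ⟨-, hg⟩ | ⟨-, hg⟩ <;> rw [hg]
        · exact (Nat.mul_dvd_mul_left 2 hd).trans (dvd_mul_left _ _)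
        · exact (by rw [one_mul]; exact hd.trans ((dvd_mul_left _ _).trans (dvd_mul_left _ _)))
      · rw [← card_PGL_two_eq (K := L), ← Nat.card_congr f.toEquiv]
        rcases hgcd with ⟨-, hg⟩ | ⟨-, hg⟩ <;> rw [hg]
        · exact Nat.mul_dvd_mul_left 2 hd
        · exact (by rw [one_mul]; exact hd.trans (dvd_mul_left _ _))
    rcases subfield_eq_cases hpp e.pos he ha hr a.pos hdvd (hm.trans hF) with ⟨hL, hmr⟩ | hL
    · exfalso
      rcases hiso with ⟨⟨f⟩, hLodd⟩ | ⟨⟨f⟩⟩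
      · have h2 := card_psl_mul (K := L) hLodd
        rw [← Nat.card_congr f.toEquiv, hL] at h2
        rcases hgcd with ⟨h', hg⟩ | ⟨h', hg⟩
        · rw [hg] at hc₀
          omega
        · rw [hL] at hLodd
          omega
      · rcases hgcd with ⟨h', hg⟩ | ⟨h', hg⟩
        · subst hmr
          exact hodd h' ((hr.even_iff).mp (even_of_pgl_subgroup hm (hqF.mp h') H f))
        · have h2 := card_PGL_two_eq (K := L)
          rw [← Nat.card_congr f.toEquiv, hL] at h2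
          rw [hg] at hc₀
          omega
    · exact eq_top_of_full (hL.trans hF.symm) hiso

end Cfsg.Lib.Dickson
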