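import Cfsg.Agent.Lib.Dickson.DihedralMax

/-!
# Auxiliary facts for Dickson's theorem on two transvections
-/

set_option autoImplicit false
set_option linter.unusedSectionVars false

open Matrix OnePoint MulAction
open scoped MatrixGroups

namespace Cfsg.Lib.Dickson

variable {F : Type*} [Field F] [Fintype F]

local notation "SL2" => Matrix.SpecialLinearGroup (Fin 2) F
local notation "PSL2" => Matrix.ProjectiveSpecialLinearGroup (Fin 2) F
local notation "Ebar" => AlgebraicClosure F

/-- A power in the centre kills the coefficient of the lower left entry. -/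
theorem coef_eq_zero {g : SL2} {k : ℕ} (h10 : g 1 0 ≠ 0) (hk : (QuotientGroup.mk g : PSL2) ^ (k + 1) = 1) :
    Cfsg.Lib.Spec.chCoef (Cfsg.Lib.Spec.trc g) (k + 1) = 0 := by
  rw [← QuotientGroup.mk_pow, QuotientGroup.eq_one_iff] at hk
  have h0 : ((g ^ (k + 1) : SL2) : Matrix (Fin 2) (Fin 2) F) 1 0 = 0 := (mem_center_sl hk).2.1
  rw [Matrix.SpecialLinearGroup.coe_pow, Cfsg.Lib.Spec.pow_succ_eq] at h0
  simpa [h10] using h0

theorem trace_of_exponent_two {g : SL2} (h10 : g 1 0 ≠ 0) (hk : (QuotientGroup.mk g : PSL2) ^ 2 = 1) :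
    Cfsg.Lib.Spec.trc g = 0 := by
  have := coef_eq_zero (k := 1) h10 hk
  simpa [Cfsg.Lib.Spec.chCoef] using this

theorem trace_of_exponent_three {g : SL2} (h10 : g 1 0 ≠ 0) (hk : (QuotientGroup.mk g : PSL2) ^ 3 = 1) :
    Cfsg.Lib.Spec.trc g ^ 2 = 1 := by
  have := coef_eq_zero (k := 2) h10 hk
  simp [Cfsg.Lib.Spec.chCoef] at this
  linear_combination this

theorem trace_of_exponent_four {g : SL2} (h10 : g 1 0 ≠ 0) (hk : (QuotientGroup.mk g : PSL2) ^ 4 = 1) :
    Cfsg.Lib.Spec.trc g * (Cfsg.Lib.Spec.trc g ^ 2 - 2) = 0 := by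
  have := coef_eq_zero (k := 3) h10 hk
  simp [Cfsg.Lib.Spec.chCoef] at this
  linear_combination this

theorem trace_of_exponent_five {g : SL2} (h10 : g 1 0 ≠ 0) (hk : (QuotientGroup.mk g : PSL2) ^ 5 = 1) :
    Cfsg.Lib.Spec.trc g ^ 4 - 3 * Cfsg.Lib.Spec.trc g ^ 2 + 1 = 0 := by
  have := coef_eq_zero (k := 4) h10 hk
  simp [Cfsg.Lib.Spec.chCoef] at this
  linear_combination this

/-- A field generated by one element is as small as that element. -/
theorem card_le_of_pow_eq (p k : ℕ) [Fact p.Prime] [CharP F p] (hk : 1 ≤ k) {lam : F}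
    (hgen : Subfield.closure ({lam} : Set F) = ⊤) (h : lam ^ p ^ k = lam) : Fintype.card F ≤ p ^ k := by
  classical
  have hall : ∀ x : F, x ^ p ^ k = x := by
    intro x
    have hx : x ∈ Subfield.closure ({lam} : Set F) := hgen ▸ Subfield.mem_top x
    induction hx using Subfield.closure_induction with
    | mem y hy => rw [Set.mem_singleton_iff.mp hy]; exact h
    | one => exact one_pow _
    | add a b _ _ ha hb => rw [add_pow_char_pow, ha, hb]
    | neg a _ ha => rw [← iterateFrobenius_def, map_neg, iterateFrobenius_def, ha]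
    | inv a _ ha => rw [inv_pow, ha]
    | mul a b _ _ ha hb => rw [mul_pow, ha, hb]
  have h1 : 1 < p ^ k := Nat.one_lt_pow (by omega) (Fact.out (p := p.Prime)).one_lt
  set f : Polynomial F := Polynomial.X ^ p ^ k - Polynomial.X with hf
  have hdeg : f.natDegree = p ^ k := FiniteField.X_pow_card_sub_X_natDegree_eq F h1
  have hf0 : f ≠ 0 := FiniteField.X_pow_card_sub_X_ne_zero F h1
  refine (Finset.card_le_card (s := Finset.univ) (t := f.roots.toFinset) fun x _ => ?_).trans ?_
  · rw [Multiset.mem_toFinset, Polynomial.mem_roots hf0]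
    simp [hf, hall x]
  · exact (Multiset.toFinset_card_le _).trans (hdeg ▸ Polynomial.card_roots' f)

theorem neg_one_mem_of_lift {H : Subgroup SL2} {h w : SL2} (hh : h ∈ H) (hw : w * w = -1)
    (he : (QuotientGroup.mk h : PSL2) = QuotientGroup.mk w) : (-1 : SL2) ∈ H := by
  obtain ⟨z, hz, rfl⟩ := (QuotientGroup.mk'_eq_mk' _).mp he
  suffices hzz : z * z = 1 by
    rw [← hw, show h * z * (h * z) = h * h * (z * z) by
      rw [mul_assoc h z (h * z), ← mul_assoc z h z, ← Subgroup.mem_center_iff.mp hz h]; group]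
    rw [hzz, mul_one]
    exact H.mul_mem hh hh
  obtain ⟨r, hr, hr'⟩ := Matrix.SpecialLinearGroup.mem_center_iff.mp hz
  rw [Fintype.card_fin] at hr
  apply Subtype.ext
  rw [Matrix.SpecialLinearGroup.coe_mul, ← hr', ← map_mul, ← sq, hr, map_one]
  rfl

theorem center_le_of_neg_one_mem {H : Subgroup SL2} (h : (-1 : SL2) ∈ H) : Subgroup.center SL2 ≤ H := by
  intro z hz
  obtain ⟨r, hr, hr'⟩ := Matrix.SpecialLinearGroup.mem_center_iff.mp hz
  rw [Fintype.card_fin] at hr
  rcases sq_eq_one_iff.mp hr with rfl | rfl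
  · rw [show z = 1 from Subtype.ext (by rw [← hr', map_one]; rfl)]
    exact H.one_mem
  · rw [show z = -1 from Subtype.ext (by rw [← hr', map_neg, map_one]; rfl)]
    exact h

/-- Full projective image gives the whole group. -/
theorem eq_top_of_map_eq_top {H : Subgroup SL2}
    (h : H.map (QuotientGroup.mk' (Subgroup.center SL2)) = ⊤) : H = ⊤ := by
  let w : SL2 := ⟨!![0, -1; 1, 0], by simp [Matrix.det_fin_two_of]⟩
  have hw : w * w = -1 := by
    apply Subtype.ext
    rw [Matrix.SpecialLinearGroup.coe_mul]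
    ext i j
    fin_cases i <;> fin_cases j <;> simp [w, Matrix.mul_apply, Fin.sum_univ_two]
  obtain ⟨g, hg, he⟩ : (QuotientGroup.mk w : PSL2) ∈ H.map (QuotientGroup.mk' (Subgroup.center SL2)) := by
    rw [h]; trivial
  have hz := center_le_of_neg_one_mem (neg_one_mem_of_lift hg hw he)
  have := congrArg (Subgroup.comap (QuotientGroup.mk' (Subgroup.center SL2))) h
  rwa [Subgroup.comap_map_eq, QuotientGroup.ker_mk', sup_eq_left.mpr hz, Subgroup.comap_top] at this

theorem neg_one_mem_of_two_dvd {H : Subgroup SL2} (h2 : (2 : F) ≠ 0)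
    (hd : 2 ∣ Nat.card (H.map (QuotientGroup.mk' (Subgroup.center SL2)))) : (-1 : SL2) ∈ H := by
  classical
  haveI := Fact.mk Nat.prime_two
  obtain ⟨x, hx⟩ := exists_prime_orderOf_dvd_card'
    (G := H.map (QuotientGroup.mk' (Subgroup.center SL2))) 2 hd
  obtain ⟨g, hg, he⟩ := x.2
  by_contra hcon
  have hx1 : (QuotientGroup.mk g : PSL2) ≠ 1 := by
    intro h1
    have hxe : x = 1 := Subtype.ext (he.symm.trans h1)
    rw [hxe, orderOf_one] at hx
    omega
  have hsq : (QuotientGroup.mk g : PSL2) * QuotientGroup.mk g = 1 := by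
    have h1 := congrArg Subtype.val (pow_orderOf_eq_one x)
    rw [hx, sq, Subgroup.coe_mul, Subgroup.coe_one] at h1
    rw [← he] at h1
    exact h1
  rw [← QuotientGroup.mk_mul, QuotientGroup.eq_one_iff] at hsq
  obtain ⟨r, hr, hr'⟩ := Matrix.SpecialLinearGroup.mem_center_iff.mp hsq
  rw [Fintype.card_fin] at hr
  rcases sq_eq_one_iff.mp hr with rfl | rfl
  · refine hx1 ((QuotientGroup.eq_one_iff g).mpr ?_)
    have hch := Cfsg.Lib.Spec.cayley_hamilton g
    rw [Matrix.SpecialLinearGroup.coe_mul] at hr'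
    rw [← hr', map_one] at hch
    have h00 := congrFun (congrFun hch 0) 0
    have h01 := congrFun (congrFun hch 0) 1
    have h10 := congrFun (congrFun hch 1) 0
    have h11 := congrFun (congrFun hch 1) 1
    simp at h00 h01 h10 h11
    have ht : Cfsg.Lib.Spec.trc g ≠ 0 := fun h0 => h2 (by rw [h0] at h00; linear_combination h00)
    have e01 : g 0 1 = 0 := (h01.resolve_left ht)
    have e10 : g 1 0 = 0 := (h10.resolve_left ht)
    have e11 : g 1 1 = g 0 0 := mul_left_cancel₀ ht (by linear_combination h00 - h11)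
    have hd' := g.2
    rw [Matrix.det_fin_two, e01, e10, e11, mul_zero, sub_zero] at hd'
    refine mem_center_of_eq_scalar (c := g 0 0) (by rw [sq]; exact hd') ?_
    ext i j
    fin_cases i <;> fin_cases j <;> simp [e01, e10, e11]
  · refine hcon ?_
    have : g * g = -1 := Subtype.ext (by rw [← hr', map_neg, map_one]; rfl)
    rw [← this]
    exact H.mul_mem hg hg

theorem unip_pow_char (p : ℕ) [Fact p.Prime] [CharP F p] {g : SL2} (h00 : g 0 0 = 1) (h11 : g 1 1 = 1)
    (h0 : g 0 1 * g 1 0 = 0) : g ^ p = 1 := by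
  apply Subtype.ext
  rw [Matrix.SpecialLinearGroup.coe_pow]
  have h1 : ((g : Matrix (Fin 2) (Fin 2) F) - 1) ^ p = 0 := by
    refine pow_eq_zero_of_le (Fact.out (p := p.Prime)).two_le ?_
    rw [sq]
    ext i j
    fin_cases i <;> fin_cases j <;> simp [h00, h11, Matrix.mul_apply, Fin.sum_univ_two, h0, mul_comm]
  rw [sub_pow_char_of_commute _ (Commute.one_right _), one_pow, sub_eq_zero] at h1
  exact h1

theorem no_small_orbit [DecidableEq Ebar] (p : ℕ) [Fact p.Prime] [CharP F p] (hp2 : p ≠ 2) {lam : F} (hlam : lam ≠ 0)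
    {H : Subgroup PSL2} {L U : SL2}
    (hL : (L : Matrix (Fin 2) (Fin 2) F) = !![1, 0; 1, 1]) (hU : (U : Matrix (Fin 2) (Fin 2) F) = !![1, lam; 0, 1])
    (hLH : (QuotientGroup.mk L : PSL2) ∈ H) (hUH : (QuotientGroup.mk U : PSL2) ∈ H) :
    ¬ HasSmallOrbitOn (H.map (emb F)) := by
  have hUm : emb F (QuotientGroup.mk U) = aff (1 : Ebarˣ) (algebraMap F Ebar lam) := by
    rw [emb, MonoidHom.comp_apply, ProjectiveSpecialLinearGroup.toPGL_mk, ProjGenLinGroup.map_mk, aff]
    refine congrArg ProjGenLinGroup.mk (Units.ext ?_)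
    rw [affGL_coe]
    ext i j
    fin_cases i <;> fin_cases j <;> simp [SpecialLinearGroup.toGL, hU]
  have hne : algebraMap F Ebar lam ≠ 0 := fun h => hlam ((algebraMap F Ebar).injective (by rw [h, map_zero]))
  have hfixU : ∀ x : OnePoint Ebar, emb F (QuotientGroup.mk U) • x = x → x = OnePoint.infty := by
    intro x hx
    have hmem : x ∈ fixedBy (OnePoint Ebar) (aff (1 : Ebarˣ) (algebraMap F Ebar lam)) := by
      rw [mem_fixedBy, ← hUm]; exact hx
    rwa [fixedBy_trans hne, Set.mem_singleton_iff] at hmem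
  have hLmove : emb F (QuotientGroup.mk L) • (OnePoint.infty : OnePoint Ebar) ≠ OnePoint.infty := by
    rw [emb, MonoidHom.comp_apply, ProjectiveSpecialLinearGroup.toPGL_mk, ProjGenLinGroup.map_mk, mk_smul', Ne,
      OnePoint.smul_infty_eq_self_iff]
    simp [SpecialLinearGroup.toGL, hL]
  rintro (⟨x, hx⟩ | ⟨x, y, hxy, hpair⟩)
  · obtain rfl := hfixU x (hx _ (Subgroup.mem_map_of_mem _ hUH))
    exact hLmove (hx _ (Subgroup.mem_map_of_mem _ hLH))
  · have hodd : p % 2 = 1 := (Fact.out (p := p.Prime)).eq_two_or_odd.resolve_left hp2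
    obtain ⟨k, hk⟩ : ∃ k, p + 1 = 2 * k := ⟨(p + 1) / 2, by omega⟩
    have hUp : (QuotientGroup.mk U : PSL2) ^ (p + 1) = QuotientGroup.mk U := by
      rw [← QuotientGroup.mk_pow, pow_succ,
        unip_pow_char p (g := U) (by simp [hU]) (by simp [hU]) (by simp [hU]), one_mul]
    have hUfix : emb F (QuotientGroup.mk U) • x = x ∧ emb F (QuotientGroup.mk U) • y = y := by
      set u := emb F (QuotientGroup.mk U) with hu
      have h2 : (u * u) • x = x ∧ (u * u) • y = y := by
        rcases hpair u (Subgroup.mem_map_of_mem _ hUH) with ⟨h1, h2⟩ | ⟨h1, h2⟩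
        · exact ⟨by rw [mul_smul, h1, h1], by rw [mul_smul, h2, h2]⟩
        · exact ⟨by rw [mul_smul, h1, h2], by rw [mul_smul, h2, h1]⟩
      have hu' : u = (u * u) ^ k := by rw [← sq, ← pow_mul, ← hk, hu, ← map_pow, hUp]
      have hm : u * u ∈ stabilizer _ x ⊓ stabilizer _ y := ⟨h2.1, h2.2⟩
      have := (stabilizer (Matrix.ProjGenLinGroup (Fin 2) Ebar) x ⊓ stabilizer _ y).pow_mem hm k
      rw [← hu'] at this
      exact ⟨this.1, this.2⟩
    exact hxy ((hfixU x hUfix.1).trans (hfixU y hUfix.2).symm)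

end Cfsg.Lib.Dickson
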