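import Mathlib

/-!
# A model of the subgroup of order 120 of `SL(2, 9)` generated by two transvections
-/

set_option autoImplicit false
set_option linter.unusedSectionVars false

namespace Cfsg.Lib.Dickson.TwoTr

/-- The field with nine elements as pairs over `ZMod 3`. -/
abbrev N9 := ZMod 3 × ZMod 3

abbrev mul9 (x y : N9) : N9 := (x.1 * y.1 - x.2 * y.2, x.1 * y.2 + x.2 * y.1)

/-- Two by two matrices over the model. -/
abbrev M9 := N9 × N9 × N9 × N9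

abbrev mulM (s t : M9) : M9 :=
  (mul9 s.1 t.1 + mul9 s.2.1 t.2.2.1, mul9 s.1 t.2.1 + mul9 s.2.1 t.2.2.2,
    mul9 s.2.2.1 t.1 + mul9 s.2.2.2 t.2.2.1, mul9 s.2.2.1 t.2.1 + mul9 s.2.2.2 t.2.2.2)

abbrev L9 : M9 := ((1,0), (0,0), (1,0), (1,0))

abbrev U9 : M9 := ((1,0), (0,1), (0,0), (1,0))

/-- The 120 elements. -/
def list120 : List M9 := [
  ((1,0), (0,0), (0,0), (1,0)), ((1,0), (0,0), (1,0), (1,0)), ((1,0), (0,1), (0,0), (1,0)),
  ((1,0), (0,0), (2,0), (1,0)), ((1,0), (0,1), (1,0), (1,1)), ((1,1), (0,1), (1,0), (1,0)),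
  ((1,0), (0,2), (0,0), (1,0)), ((1,0), (0,1), (2,0), (1,2)), ((1,1), (0,1), (2,1), (1,1)),
  ((1,0), (0,2), (1,0), (1,2)), ((1,2), (0,1), (2,0), (1,0)), ((1,1), (2,2), (1,0), (1,1)),
  ((1,2), (0,2), (1,0), (1,0)), ((1,1), (0,1), (0,2), (1,2)), ((1,0), (0,2), (2,0), (1,1)),
  ((1,2), (0,1), (0,2), (1,1)), ((1,1), (2,2), (2,1), (0,0)), ((1,2), (0,2), (2,2), (1,2)),
  ((1,2), (1,2), (2,0), (1,2)), ((0,0), (2,2), (2,1), (1,1)), ((1,1), (1,0), (1,0), (1,2)),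
  ((1,1), (0,2), (2,0), (1,0)), ((1,2), (1,0), (1,0), (1,1)), ((1,2), (0,1), (1,1), (1,2)),
  ((1,1), (2,2), (0,2), (2,2)), ((1,2), (0,2), (0,1), (1,1)), ((1,2), (1,2), (0,2), (2,1)),
  ((0,0), (2,2), (2,1), (0,0)), ((1,1), (1,0), (2,1), (2,2)), ((1,1), (0,2), (0,1), (1,2)),
  ((1,2), (1,0), (2,2), (2,1)), ((2,1), (1,2), (0,2), (1,2)), ((1,2), (2,0), (2,0), (1,1)),
  ((2,2), (2,2), (0,2), (1,1)), ((2,1), (1,0), (2,2), (1,2)), ((1,1), (2,0), (2,0), (1,2)),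
  ((2,2), (1,0), (2,1), (1,1)), ((1,2), (2,1), (1,0), (1,2)), ((1,2), (1,2), (1,1), (0,0)),
  ((0,0), (2,2), (2,1), (2,2)), ((1,1), (1,0), (0,2), (0,2)), ((1,1), (0,2), (1,2), (1,1)),
  ((1,2), (1,0), (0,1), (0,1)), ((2,1), (1,2), (2,0), (2,1)), ((1,2), (2,0), (0,2), (0,1)),
  ((2,2), (2,2), (2,1), (0,0)), ((2,1), (1,0), (1,0), (2,2)), ((1,1), (2,0), (0,1), (0,2)),
  ((2,2), (1,0), (1,0), (2,1)), ((1,2), (2,1), (2,2), (0,0)), ((0,0), (1,2), (1,1), (1,2)),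
  ((2,1), (0,1), (0,2), (2,2)), ((0,2), (2,0), (0,1), (1,1)), ((2,2), (0,1), (0,2), (2,1)),
  ((0,1), (1,0), (0,1), (1,2)), ((2,1), (0,2), (2,2), (2,1)), ((0,1), (2,0), (0,2), (1,2)),
  ((1,1), (1,1), (2,0), (1,1)), ((0,2), (1,0), (0,2), (1,1)), ((0,0), (2,1), (2,2), (1,2)),
  ((2,1), (1,2), (1,1), (0,0)), ((1,2), (2,0), (1,1), (2,1)), ((2,2), (2,2), (1,0), (2,2)),
  ((2,1), (1,0), (0,1), (0,2)), ((1,1), (2,0), (1,2), (2,2)), ((2,2), (1,0), (0,2), (0,1)),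
  ((1,2), (2,1), (0,1), (2,1)), ((0,0), (1,2), (1,1), (2,1)), ((2,1), (0,1), (2,0), (2,0)),
  ((0,2), (2,0), (0,0), (0,1)), ((2,2), (0,1), (2,1), (2,2)), ((0,1), (1,0), (0,2), (2,2)),
  ((2,1), (0,2), (1,0), (2,0)), ((0,1), (2,0), (0,0), (0,2)), ((1,1), (1,1), (0,1), (2,2)),
  ((0,2), (1,0), (0,1), (2,1)), ((0,0), (2,1), (2,2), (0,0)), ((0,0), (1,2), (1,1), (0,0)),
  ((2,1), (2,0), (0,2), (0,2)), ((2,2), (2,0), (1,2), (1,1)), ((0,2), (0,0), (0,1), (0,1)),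
  ((2,0), (0,1), (2,0), (2,1)), ((0,1), (0,0), (0,1), (0,2)), ((2,0), (0,2), (1,0), (2,1)),
  ((2,1), (2,1), (2,2), (0,0)), ((2,1), (2,0), (1,1), (1,2)), ((2,2), (1,1), (0,1), (1,1)),
  ((0,2), (2,0), (0,2), (2,1)), ((2,1), (2,1), (0,1), (1,2)), ((0,0), (2,1), (2,2), (2,1)),
  ((2,1), (0,1), (1,1), (2,1)), ((2,2), (0,1), (1,0), (2,0)), ((0,1), (1,0), (0,0), (0,2)),
  ((2,1), (0,2), (0,1), (2,2)), ((0,1), (2,0), (0,1), (2,2)), ((1,1), (1,1), (1,2), (0,0)),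
  ((0,2), (1,0), (0,0), (0,1)), ((2,1), (2,0), (2,0), (2,2)), ((2,2), (2,0), (0,1), (0,1)),
  ((0,2), (0,0), (0,0), (0,1)), ((2,0), (0,1), (1,0), (2,2)), ((0,1), (0,0), (0,2), (0,2)),
  ((2,0), (0,2), (0,0), (2,0)), ((2,1), (2,1), (1,0), (2,1)), ((2,2), (1,1), (2,0), (2,2)),
  ((2,2), (0,2), (1,2), (2,2)), ((0,2), (0,0), (0,2), (0,1)), ((2,0), (0,0), (2,0), (2,0)),
  ((0,1), (0,0), (0,0), (0,2)), ((2,2), (0,2), (0,1), (2,1)), ((0,0), (1,1), (1,2), (1,1)),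
  ((2,2), (2,0), (2,0), (2,1)), ((2,0), (0,1), (0,0), (2,0)), ((2,0), (0,2), (2,0), (2,2)),
  ((2,2), (1,1), (1,2), (0,0)), ((2,0), (0,0), (1,0), (2,0)), ((2,2), (0,2), (2,0), (2,0)),
  ((0,0), (1,1), (1,2), (2,2)), ((2,0), (0,0), (0,0), (2,0)), ((0,0), (1,1), (1,2), (0,0))]

theorem list120_closed : ∀ s ∈ list120, mulM s L9 ∈ list120 ∧ mulM s U9 ∈ list120 := by decide +kernel

theorem list120_one : (((1,0), (0,0), (0,0), (1,0)) : M9) ∈ list120 := by decide +kernel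

theorem list120_length : list120.length = 120 := rfl

section Eval

variable {F : Type*} [Field F] [CharP F 3] (lam : F)

/-- Evaluation of the model at a square root of `-1`. -/
def ev (x : N9) : F := ZMod.castHom (dvd_refl 3) F x.1 + ZMod.castHom (dvd_refl 3) F x.2 * lam

theorem ev_add (x y : N9) : ev lam (x + y) = ev lam x + ev lam y := by
  simp only [ev, Prod.fst_add, Prod.snd_add, map_add]
  ring

theorem ev_mul (h : lam ^ 2 = -1) (x y : N9) : ev lam (mul9 x y) = ev lam x * ev lam y := by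
  simp only [ev, mul9, map_add, map_sub, map_mul]
  linear_combination -(ZMod.castHom (dvd_refl 3) F x.2 * ZMod.castHom (dvd_refl 3) F y.2) * h

def evM (s : M9) : Matrix (Fin 2) (Fin 2) F :=
  !![ev lam s.1, ev lam s.2.1; ev lam s.2.2.1, ev lam s.2.2.2]

theorem evM_mul (h : lam ^ 2 = -1) (s t : M9) : evM lam (mulM s t) = evM lam s * evM lam t := by
  simp only [evM, mulM, ev_add, ev_mul lam h]
  ext i j
  fin_cases i <;> fin_cases j <;> simp [Matrix.mul_apply, Fin.sum_univ_two]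

theorem evM_one : evM lam ((1,0), (0,0), (0,0), (1,0)) = 1 := by
  ext i j
  fin_cases i <;> fin_cases j <;> simp [evM, ev]

theorem evM_L : evM lam L9 = !![1, 0; 1, 1] := by
  ext i j
  fin_cases i <;> fin_cases j <;> simp [evM, ev, L9]

theorem evM_U : evM lam U9 = !![1, lam; 0, 1] := by
  ext i j
  fin_cases i <;> fin_cases j <;> simp [evM, ev, U9]

/-- The two transvections generate at most 120 elements. -/
theorem card_closure_le [Finite F] (h : lam ^ 2 = -1) :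
    Nat.card ↥(Subgroup.closure {g : Matrix.SpecialLinearGroup (Fin 2) F |
      (g : Matrix (Fin 2) (Fin 2) F) = !![1, 0; 1, 1] ∨ (g : Matrix (Fin 2) (Fin 2) F) = !![1, lam; 0, 1]}) ≤ 120 := by
  classical
  set s := {g : Matrix.SpecialLinearGroup (Fin 2) F |
      (g : Matrix (Fin 2) (Fin 2) F) = !![1, 0; 1, 1] ∨ (g : Matrix (Fin 2) (Fin 2) F) = !![1, lam; 0, 1]}
  have key : ∀ g ∈ Subgroup.closure s, ∃ i : Fin 120,
      (g : Matrix (Fin 2) (Fin 2) F) = evM lam (list120.get (i.cast list120_length.symm)) := by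
    intro g hg
    suffices hm : ∃ t ∈ list120, (g : Matrix (Fin 2) (Fin 2) F) = evM lam t by
      obtain ⟨t, ht, he⟩ := hm
      obtain ⟨i, hi⟩ := List.get_of_mem ht
      exact ⟨i.cast list120_length, he.trans (congrArg (evM lam) hi.symm)⟩
    rw [← Subgroup.mem_toSubmonoid, Subgroup.closure_toSubmonoid_of_finite] at hg
    induction hg using Submonoid.closure_induction_right with
    | one => exact ⟨_, list120_one, by rw [evM_one]; rfl⟩
    | mul_right x hx y hy ih =>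
      obtain ⟨t, ht, he⟩ := ih
      obtain ⟨hL, hU⟩ := list120_closed t ht
      rcases hy with hy | hy
      · exact ⟨_, hL, by rw [evM_mul lam h, evM_L, Matrix.SpecialLinearGroup.coe_mul, he, hy]⟩
      · exact ⟨_, hU, by rw [evM_mul lam h, evM_U, Matrix.SpecialLinearGroup.coe_mul, he, hy]⟩
  choose f hf using key
  have hinj : Function.Injective (fun g : Subgroup.closure s => f g.1 g.2) := by
    intro a b hab
    refine Subtype.ext (Subtype.ext ?_)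
    rw [hf a.1 a.2, hf b.1 b.2]
    simp only at hab
    rw [hab]
  exact (Nat.card_le_card_of_injective _ hinj).trans_eq (Nat.card_fin 120)

end Eval

end Cfsg.Lib.Dickson.TwoTr
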