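import Cfsg.Agent.Lib.Dickson.TransBasics

/-!
# The subfield alternative for two transvections
-/

set_option autoImplicit false
set_option linter.unusedSectionVars false

open Matrix OnePoint MulAction
open scoped MatrixGroups

namespace Cfsg.Lib.Dickson

variable {F : Type*} [Field F] [Fintype F]

local notation "SL2" => Matrix.SpecialLinearGroup (Fin 2) F
local notation "PSL2" => Matrix.ProjectiveSpecialLinearGroup (Fin 2) F
local notation "Ebar" => AlgebraicClosure F

/-- The image of `SL₂` of a subfield has index at most two and contains all elements of odd order. -/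
theorem odd_order_mem_subfield (p : ℕ) [Fact p.Prime] [CharP F p] (hp2 : p ≠ 2) {H : Subgroup PSL2}
    {K : Subfield Ebar} {u : Matrix.ProjGenLinGroup (Fin 2) Ebar} [Finite K]
    (hle : (SpecialLinearGroup.toPGL : SpecialLinearGroup (Fin 2) K →* _).range.map (ProjGenLinGroup.map K.subtype) ≤
      (H.map (emb F)).map (MulAut.conj u).toMonoidHom)
    (hiso : Nonempty (H.map (emb F) ≃* Matrix.ProjectiveSpecialLinearGroup (Fin 2) K) ∧ Nat.card K % 2 = 1 ∨
      Nonempty (H.map (emb F) ≃* Matrix.ProjGenLinGroup (Fin 2) K)) :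
    Nat.card K * (Nat.card K ^ 2 - 1) ≤ 2 * Nat.card H ∧ ∃ M : Subgroup H,
      Nat.card K * (Nat.card K ^ 2 - 1) = 2 * Nat.card M ∧
      (∀ h : H, h ^ p = 1 → h ∈ M) ∧
      ∀ h ∈ M, ∃ A : SpecialLinearGroup (Fin 2) K,
        ProjGenLinGroup.mk (GeneralLinearGroup.map K.subtype (SpecialLinearGroup.toGL A)) =
          u * emb F (h : PSL2) * u⁻¹ := by
  classical
  haveI : CharP Ebar p := charP_of_injective_algebraMap (algebraMap F Ebar).injective p
  haveI : Fintype K := Fintype.ofFinite _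
  haveI : CharP K p := Subfield.charP K p
  have hp : Nat.Prime p := Fact.out
  rw [Nat.card_eq_fintype_card (α := K)]
  have hKodd : Fintype.card K % 2 = 1 := by
    obtain ⟨e, -, he⟩ := FiniteField.card K p
    rw [he, Nat.pow_mod, hp.eq_two_or_odd.resolve_left hp2]
    simp
  let φ : H →* Matrix.ProjGenLinGroup (Fin 2) Ebar := ((MulAut.conj u).toMonoidHom.comp (emb F)).comp H.subtype
  have hφ : Function.Injective φ := ((MulAut.conj u).injective.comp emb_injective).comp H.subtype_injective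
  let σ : Matrix.ProjectiveSpecialLinearGroup (Fin 2) K →* Matrix.ProjGenLinGroup (Fin 2) Ebar :=
    (ProjGenLinGroup.map K.subtype).comp ProjectiveSpecialLinearGroup.toPGL
  have hσ : Function.Injective σ :=
    (map_injective_of_field _).comp ProjectiveSpecialLinearGroup.toPGL_injective
  have hσA : ∀ A : SpecialLinearGroup (Fin 2) K, σ (QuotientGroup.mk A) =
      ProjGenLinGroup.mk (GeneralLinearGroup.map K.subtype (SpecialLinearGroup.toGL A)) := by
    intro A
    rw [MonoidHom.comp_apply, ProjectiveSpecialLinearGroup.toPGL_mk, ProjGenLinGroup.map_mk]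
  have hσle : σ.range ≤ φ.range := by
    rintro _ ⟨x, rfl⟩
    induction x using QuotientGroup.induction_on with | H A => ?_
    have hm : ProjGenLinGroup.mk (GeneralLinearGroup.map K.subtype (SpecialLinearGroup.toGL A)) ∈
        (H.map (emb F)).map (MulAut.conj u).toMonoidHom := by
      apply hle
      rw [← ProjGenLinGroup.map_mk]
      exact Subgroup.mem_map_of_mem _ ⟨A, rfl⟩
    obtain ⟨_, ⟨h, hh, rfl⟩, he⟩ := hm
    exact ⟨⟨h, hh⟩, by rw [hσA]; exact he⟩
  refine ⟨?_, σ.range.comap φ, ?_, ?_, ?_⟩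
  all_goals
    have e1 : Nat.card ((σ.range.comap φ).map φ) = Nat.card (σ.range.comap φ) :=
      (Nat.card_congr ((σ.range.comap φ).equivMapOfInjective φ hφ).toEquiv).symm
    have hcM : Nat.card (σ.range.comap φ) = Nat.card (Matrix.ProjectiveSpecialLinearGroup (Fin 2) K) := by
      rw [← e1, Subgroup.map_comap_eq, inf_eq_right.mpr hσle]
      exact (Nat.card_congr (MonoidHom.ofInjective hσ).toEquiv).symm
    have hpsl := card_psl_mul (K := K) hKodd
  · rw [← hpsl, ← hcM]
    exact Nat.mul_le_mul_left 2 (Subgroup.card_le_card_group _)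
  · rw [hcM, hpsl]
  · intro h hhp
    have hidx : (σ.range.comap φ).index = 1 ∨ (σ.range.comap φ).index = 2 := by
      have hmul := Subgroup.card_mul_index (σ.range.comap φ)
      rw [hcM] at hmul
      have hH' : Nat.card H = Nat.card (H.map (emb F)) :=
        Nat.card_congr (H.equivMapOfInjective _ emb_injective).toEquiv
      have hpos : 0 < Nat.card (Matrix.ProjectiveSpecialLinearGroup (Fin 2) K) := Nat.card_pos
      rcases hiso with ⟨⟨f⟩, -⟩ | ⟨⟨f⟩⟩
      · rw [hH', Nat.card_congr f.toEquiv] at hmul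
        exact Or.inl (Nat.eq_of_mul_eq_mul_left hpos (hmul.trans (mul_one _).symm))
      · rw [hH', Nat.card_congr f.toEquiv, card_PGL_two_eq, ← hpsl, mul_comm 2] at hmul
        exact Or.inr (Nat.eq_of_mul_eq_mul_left hpos hmul)
    have hodd : p % 2 = 1 := hp.eq_two_or_odd.resolve_left hp2
    have he : h = (h ^ 2) ^ ((p + 1) / 2) := by
      rw [← pow_mul, show 2 * ((p + 1) / 2) = p + 1 by omega, pow_succ, hhp, one_mul]
    rw [he]
    refine Subgroup.pow_mem _ ?_ _
    rcases hidx with h1 | h2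
    · rw [Subgroup.index_eq_one.mp h1]; trivial
    · exact Subgroup.sq_mem_of_index_two h2 h
  · rintro h ⟨x, hx⟩
    induction x using QuotientGroup.induction_on with | H A => ?_
    exact ⟨A, (hσA A).symm.trans hx⟩

/-- The squared trace of a conjugate of a matrix over a subfield lies in that subfield. -/
theorem trc_sq_mem {K : Subfield Ebar} {u : Matrix.ProjGenLinGroup (Fin 2) Ebar} {g : SL2}
    {A : SpecialLinearGroup (Fin 2) K}
    (hz : ProjGenLinGroup.mk (GeneralLinearGroup.map K.subtype (SpecialLinearGroup.toGL A)) =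
      u * emb F (QuotientGroup.mk g) * u⁻¹) :
    algebraMap F Ebar (Cfsg.Lib.Spec.trc g) ^ 2 ∈ K := by
  induction u using Matrix.ProjGenLinGroup.induction_on with | mk W => ?_
  rw [emb, MonoidHom.comp_apply, ProjectiveSpecialLinearGroup.toPGL_mk, ProjGenLinGroup.map_mk,
    ← map_inv, ← map_mul, ← map_mul, ProjGenLinGroup.mk_eq_mk_iff] at hz
  obtain ⟨s, hs⟩ := hz
  have hs' := congrArg (fun X : GL (Fin 2) Ebar => (X : Matrix (Fin 2) (Fin 2) Ebar)) hs
  simp only [Units.val_mul, GeneralLinearGroup.coe_scalar, Matrix.scalar_apply] at hs'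
  rw [← Matrix.smul_one_eq_diagonal, Matrix.mul_smul, mul_one] at hs'
  have hA' : ((GeneralLinearGroup.map K.subtype (SpecialLinearGroup.toGL A)) : GL (Fin 2) Ebar).val =
      (A : Matrix (Fin 2) (Fin 2) K).map K.subtype := by
    ext i j; simp [SpecialLinearGroup.toGL]
  have hG : ((GeneralLinearGroup.map (algebraMap F Ebar) (SpecialLinearGroup.toGL g)) : GL (Fin 2) Ebar).val =
      (g : Matrix (Fin 2) (Fin 2) F).map (algebraMap F Ebar) := by
    ext i j; simp [SpecialLinearGroup.toGL]
  have htr := congrArg Matrix.trace hs'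
  have hdet := congrArg Matrix.det hs'
  rw [Matrix.trace_smul, Matrix.trace_units_conj, hA', hG] at htr
  rw [Matrix.det_smul, Matrix.det_units_conj, hA', hG, ← RingHom.mapMatrix_apply, ← RingHom.map_det,
    ← RingHom.mapMatrix_apply, ← RingHom.map_det, Fintype.card_fin, A.2, g.2, map_one, map_one, mul_one] at hdet
  have hG' : ((g : Matrix (Fin 2) (Fin 2) F).map (algebraMap F Ebar)).trace =
      algebraMap F Ebar (Cfsg.Lib.Spec.trc g) := by simp [Matrix.trace_fin_two, Cfsg.Lib.Spec.trc]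
  rw [hG', smul_eq_mul] at htr
  rw [← htr, mul_pow, hdet, one_mul]
  refine K.pow_mem ?_ 2
  simp only [Matrix.trace_fin_two, Matrix.map_apply]
  exact K.add_mem (SetLike.coe_mem _) (SetLike.coe_mem _)

/-- The subfield alternative forces the whole group. -/
theorem full_of_subfield (p : ℕ) [Fact p.Prime] [CharP F p] (hp2 : p ≠ 2) {lam : F}
    (hgen : Subfield.closure ({lam} : Set F) = ⊤) {H : Subgroup PSL2} {L U : SL2}
    (hL : (L : Matrix (Fin 2) (Fin 2) F) = !![1, 0; 1, 1]) (hU : (U : Matrix (Fin 2) (Fin 2) F) = !![1, lam; 0, 1])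
    (hLH : (QuotientGroup.mk L : PSL2) ∈ H) (hUH : (QuotientGroup.mk U : PSL2) ∈ H)
    {K : Subfield Ebar} {u : Matrix.ProjGenLinGroup (Fin 2) Ebar} [Finite K]
    (hle : (SpecialLinearGroup.toPGL : SpecialLinearGroup (Fin 2) K →* _).range.map (ProjGenLinGroup.map K.subtype) ≤
      (H.map (emb F)).map (MulAut.conj u).toMonoidHom)
    (hiso : Nonempty (H.map (emb F) ≃* Matrix.ProjectiveSpecialLinearGroup (Fin 2) K) ∧ Nat.card K % 2 = 1 ∨
      Nonempty (H.map (emb F) ≃* Matrix.ProjGenLinGroup (Fin 2) K)) : H = ⊤ := by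
  classical
  obtain ⟨hbound, M, -, hpM, hMK⟩ := odd_order_mem_subfield p hp2 hle hiso
  haveI : CharP Ebar p := charP_of_injective_algebraMap (algebraMap F Ebar).injective p
  haveI : Fintype K := Fintype.ofFinite _
  have hp : Nat.Prime p := Fact.out
  have hUp : U ^ p = 1 := unip_pow_char p (by simp [hU]) (by simp [hU]) (by simp [hU])
  have hLp : L ^ p = 1 := unip_pow_char p (by simp [hL]) (by simp [hL]) (by simp [hL])
  have hUM : (⟨_, hUH⟩ : H) ∈ M := hpM _ (Subtype.ext (by
    rw [SubgroupClass.coe_pow, ← QuotientGroup.mk_pow, hUp]; rfl))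
  have hLM : (⟨_, hLH⟩ : H) ∈ M := hpM _ (Subtype.ext (by
    rw [SubgroupClass.coe_pow, ← QuotientGroup.mk_pow, hLp]; rfl))
  obtain ⟨A₁, hA₁⟩ := hMK _ (M.mul_mem hLM hUM)
  obtain ⟨A₂, hA₂⟩ := hMK _ (M.mul_mem (M.mul_mem hLM hLM) hUM)
  have h1 := trc_sq_mem (g := L * U) (A := A₁) (u := u) hA₁
  have h2 := trc_sq_mem (g := L * L * U) (A := A₂) (u := u) hA₂
  have t1 : Cfsg.Lib.Spec.trc (L * U) = 2 + lam := by
    simp [Cfsg.Lib.Spec.trc, Matrix.SpecialLinearGroup.coe_mul, hL, hU, Matrix.mul_apply, Fin.sum_univ_two]; ring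
  have t2 : Cfsg.Lib.Spec.trc (L * L * U) = 2 + 2 * lam := by
    simp [Cfsg.Lib.Spec.trc, Matrix.SpecialLinearGroup.coe_mul, hL, hU, Matrix.mul_apply, Fin.sum_univ_two]; ring
  rw [t1, map_add, map_ofNat] at h1
  rw [t2, map_add, map_mul, map_ofNat] at h2
  set l := algebraMap F Ebar lam
  have h8 : (8 : Ebar) ≠ 0 := by
    have h2' : (2 : Ebar) ≠ 0 := fun h0 => hp2 ((Nat.prime_dvd_prime_iff_eq hp Nat.prime_two).mp
      ((CharP.cast_eq_zero_iff Ebar p 2).mp (by exact_mod_cast h0)))
    rw [show (8 : Ebar) = 2 * 2 * 2 by norm_num]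
    exact mul_ne_zero (mul_ne_zero h2' h2') h2'
  have hl : l ∈ K := by
    have hmem : ((4 * (2 + l) ^ 2 - (2 + 2 * l) ^ 2) - 12) / 8 ∈ K :=
      K.div_mem (K.sub_mem (K.sub_mem (K.mul_mem (ofNat_mem K 4) h1) h2) (ofNat_mem K 12)) (ofNat_mem K 8)
    convert hmem using 1
    field_simp
    ring
  have hsub : ∀ x : F, algebraMap F Ebar x ∈ K := by
    have htop : (⊤ : Subfield F) ≤ K.comap (algebraMap F Ebar) := by
      rw [← hgen, Subfield.closure_le, Set.singleton_subset_iff]
      exact hl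
    exact fun x => htop (Subfield.mem_top x)
  have hcard : Fintype.card F ≤ Fintype.card K :=
    Fintype.card_le_of_injective (fun x => (⟨_, hsub x⟩ : K)) fun a b e =>
      (algebraMap F Ebar).injective (congrArg Subtype.val e)
  refine Subgroup.eq_top_of_le_card _ ?_
  rw [Nat.card_eq_fintype_card (α := K)] at hbound
  have hG := Cfsg.Lib.Linear.Two.card_PSL_two (F := F)
  have hFodd : Fintype.card F % 2 = 1 := by
    obtain ⟨e, -, he⟩ := FiniteField.card F p
    rw [he, Nat.pow_mod, hp.eq_two_or_odd.resolve_left hp2]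
    simp
  rw [Nat.gcd_eq_left (show 2 ∣ Fintype.card F - 1 by omega)] at hG
  have := Nat.mul_le_mul hcard (Nat.sub_le_sub_right (Nat.pow_le_pow_left hcard 2) 1)
  omega

end Cfsg.Lib.Dickson
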