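import Cfsg.Agent.Lib.Dickson.TransSubfield
import Cfsg.Agent.Lib.Dickson.TransModel

/-!
# Dickson's theorem on two transvections
-/

set_option autoImplicit false
set_option linter.unusedSectionVars false

open Matrix OnePoint MulAction
open scoped MatrixGroups

namespace Cfsg.Lib.Dickson

variable {F : Type*} [Field F] [Fintype F]

local notation "SL2" => Matrix.SpecialLinearGroup (Fin 2) F
local notation "PSL2" => Matrix.ProjectiveSpecialLinearGroup (Fin 2) F
local notation "Ebar" => AlgebraicClosure F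

theorem exponents_alternating_four : ∀ a : alternatingGroup (Fin 4), a ^ 2 = 1 ∨ a ^ 3 = 1 := by decide

theorem exponents_perm_four : ∀ a : Equiv.Perm (Fin 4), a ^ 3 = 1 ∨ a ^ 4 = 1 := by decide +kernel

theorem two_transvections_image (p : ℕ) [Fact p.Prime] [CharP F p] (hp2 : p ≠ 2) {lam : F} (hlam : lam ≠ 0)
    (hgen : Subfield.closure ({lam} : Set F) = ⊤) {H : Subgroup PSL2} {L U : SL2}
    (hL : (L : Matrix (Fin 2) (Fin 2) F) = !![1, 0; 1, 1]) (hU : (U : Matrix (Fin 2) (Fin 2) F) = !![1, lam; 0, 1])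
    (hLH : (QuotientGroup.mk L : PSL2) ∈ H) (hUH : (QuotientGroup.mk U : PSL2) ∈ H) :
    H = ⊤ ∨ (Fintype.card F = 9 ∧ lam ^ 2 = -1 ∧ Nat.card H = 60) := by
  classical
  haveI : CharP Ebar p := charP_of_injective_algebraMap (algebraMap F Ebar).injective p
  haveI : Finite PSL2 := inferInstance
  let e : H ≃* H.map (emb F) := Subgroup.equivMapOfInjective H (emb F) emb_injective
  haveI : Finite (H.map (emb F)) := Finite.of_equiv H e.toEquiv
  have hp : Nat.Prime p := Fact.out
  obtain ⟨n, -, hn⟩ := FiniteField.card F p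
  set t₁ := 2 + lam with ht₁
  set t₂ := 2 + 2 * lam with ht₂
  let g₁ : SL2 := L * U
  let g₂ : SL2 := L * L * U
  have hg₁ : (QuotientGroup.mk g₁ : PSL2) ∈ H := by rw [QuotientGroup.mk_mul]; exact H.mul_mem hLH hUH
  have hg₂ : (QuotientGroup.mk g₂ : PSL2) ∈ H := by
    rw [QuotientGroup.mk_mul, QuotientGroup.mk_mul]; exact H.mul_mem (H.mul_mem hLH hLH) hUH
  have hb₁ : g₁ 1 0 ≠ 0 := by
    simp [g₁, Matrix.SpecialLinearGroup.coe_mul, hL, hU, Matrix.mul_apply, Fin.sum_univ_two]
  have h2F : (2 : F) ≠ 0 := fun h0 => hp2 ((Nat.prime_dvd_prime_iff_eq hp Nat.prime_two).mp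
    ((CharP.cast_eq_zero_iff F p 2).mp (by exact_mod_cast h0)))
  have hb₂ : g₂ 1 0 ≠ 0 := by
    simp [g₂, Matrix.SpecialLinearGroup.coe_mul, hL, hU, Matrix.mul_apply, Fin.sum_univ_two, one_add_one_eq_two, h2F]
  have e₁ : Cfsg.Lib.Spec.trc g₁ = t₁ := by
    simp [g₁, t₁, Cfsg.Lib.Spec.trc, Matrix.SpecialLinearGroup.coe_mul, hL, hU, Matrix.mul_apply, Fin.sum_univ_two]
    ring
  have e₂ : Cfsg.Lib.Spec.trc g₂ = t₂ := by
    simp [g₂, t₂, Cfsg.Lib.Spec.trc, Matrix.SpecialLinearGroup.coe_mul, hL, hU, Matrix.mul_apply, Fin.sum_univ_two]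
    ring
  have hlt : lam = t₁ - 2 := by rw [ht₁]; ring
  have hUne : orderOf (QuotientGroup.mk U : PSL2) = p := by
    refine orderOf_eq_prime ?_ ?_
    · rw [← QuotientGroup.mk_pow, unip_pow_char p (g := U) (by simp [hU]) (by simp [hU]) (by simp [hU])]
      rfl
    · rw [Ne, QuotientGroup.eq_one_iff]
      intro h
      have := (mem_center_sl h).1
      simp [hU, hlam] at this
  have hpH : p ∣ Nat.card H := by
    rw [← hUne, ← Subgroup.orderOf_mk _ hUH]
    exact orderOf_dvd_natCard _
  have hprime_field : lam ^ p = lam → Fintype.card F = p := by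
    intro h
    have hle := card_le_of_pow_eq p 1 le_rfl hgen (by rwa [pow_one])
    rw [pow_one] at hle
    refine le_antisymm hle ?_
    rw [hn]
    exact Nat.le_self_pow n.ne_zero p
  have hsmall : Fintype.card F = p → (p = 3 → Nat.card H = 12 ∨ Nat.card H = 24 ∨ Nat.card H = 60 → H = ⊤) ∧
      (p = 5 → Nat.card H = 60 → H = ⊤) := by
    intro hq
    have hG := Cfsg.Lib.Linear.Two.card_PSL_two (F := F)
    refine ⟨fun h3 hc => ?_, fun h5 hc => ?_⟩ <;> refine Subgroup.eq_top_of_card_eq H ?_ <;>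
      have hle := Nat.le_of_dvd Nat.card_pos (Subgroup.card_subgroup_dvd_card H)
    · rw [hq, h3, show Nat.gcd 2 (3 - 1) = 2 by rfl, show 3 * (3 ^ 2 - 1) = 24 by rfl] at hG
      omega
    · rw [hq, h5, show Nat.gcd 2 (5 - 1) = 2 by rfl, show 5 * (5 ^ 2 - 1) = 120 by rfl] at hG
      omega
  have hp3 : p ∣ 24 → p = 3 := by
    intro h
    rcases (Nat.Prime.dvd_mul hp).mp (show p ∣ 2 ^ 3 * 3 by simpa using h) with h | h
    · exact absurd ((Nat.prime_dvd_prime_iff_eq hp Nat.prime_two).mp (hp.dvd_of_dvd_pow h)) hp2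
    · exact (Nat.prime_dvd_prime_iff_eq hp Nat.prime_three).mp h
  rcases finite_subgroup_cases p (H.map (emb F)) with hs | ⟨-, ⟨⟨f⟩⟩ | ⟨⟨f⟩⟩ | ⟨⟨f⟩⟩ | ⟨K, u, hKf, -, hle, hiso⟩⟩
  · exact absurd hs (no_small_orbit p hp2 hlam hL hU hLH hUH)
  · left
    let f' := e.trans f
    have hc := card_target_four f'
    obtain rfl := hp3 ((hc ▸ hpH).trans (by norm_num))
    have key : ∀ g : SL2, ∀ hg : (QuotientGroup.mk g : PSL2) ∈ H, g 1 0 ≠ 0 →
        Cfsg.Lib.Spec.trc g ^ 3 = Cfsg.Lib.Spec.trc g := by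
      intro g hg h10
      rcases exponents_alternating_four (f' ⟨_, hg⟩) with h | h <;> rw [← map_pow, ← map_one f'] at h <;>
        have h' := congrArg Subtype.val (f'.injective h)
      · rw [trace_of_exponent_two h10 h']; ring
      · linear_combination (Cfsg.Lib.Spec.trc g) * trace_of_exponent_three h10 h'
    have h1 := key g₁ hg₁ hb₁
    rw [e₁, ht₁, add_pow_char] at h1
    refine (hsmall (hprime_field ?_)).1 rfl (Or.inl hc)
    have h28 : (2 : F) ^ 3 = 2 := by
      have h3 : (3 : F) = 0 := by exact_mod_cast CharP.cast_eq_zero F 3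
      linear_combination 2 * h3
    linear_combination h1 - h28
  · left
    let f' := e.trans f
    have hc := card_target_perm f'
    obtain rfl := hp3 (hc ▸ hpH)
    have h3 : (3 : F) = 0 := by exact_mod_cast CharP.cast_eq_zero F 3
    have key : ∀ g : SL2, ∀ hg : (QuotientGroup.mk g : PSL2) ∈ H, g 1 0 ≠ 0 →
        Cfsg.Lib.Spec.trc g ^ 3 = Cfsg.Lib.Spec.trc g ∨ Cfsg.Lib.Spec.trc g ^ 2 = -1 := by
      intro g hg h10
      rcases exponents_perm_four (f' ⟨_, hg⟩) with h | h <;> rw [← map_pow, ← map_one f'] at h <;>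
        have h' := congrArg Subtype.val (f'.injective h)
      · exact Or.inl (by linear_combination (Cfsg.Lib.Spec.trc g) * trace_of_exponent_three h10 h')
      · rcases mul_eq_zero.mp (trace_of_exponent_four h10 h') with h0 | h0
        · exact Or.inl (by rw [h0]; ring)
        · exact Or.inr (by linear_combination h0 + h3)
    refine (hsmall (hprime_field ?_)).1 rfl (Or.inr (Or.inl hc))
    have hsum : t₂ = 1 - t₁ := by rw [ht₁, ht₂]; linear_combination (1 + lam) * h3
    have h1 := key g₁ hg₁ hb₁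
    have h2 := key g₂ hg₂ hb₂
    rw [e₁] at h1
    rw [e₂, hsum] at h2
    have ht : t₁ ^ 3 = t₁ := by
      rcases h1 with h1 | h1
      · exact h1
      rcases h2 with h2 | h2
      · rw [sub_pow_char, one_pow] at h2
        linear_combination -h2
      · have : t₁ = 2 := by linear_combination h2 - h1 + (t₁ - 1) * h3
        rw [this]; linear_combination 2 * h3
    rw [hlt, sub_pow_char, ht]
    linear_combination (-2) * h3
  · let f' := e.trans f
    have hc := card_target_five f'
    have hp35 : p = 3 ∨ p = 5 := by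
      have h60 := hc ▸ hpH
      rcases (Nat.Prime.dvd_mul hp).mp (show p ∣ 2 ^ 2 * (3 * 5) by simpa using h60) with h | h
      · exact absurd ((Nat.prime_dvd_prime_iff_eq hp Nat.prime_two).mp (hp.dvd_of_dvd_pow h)) hp2
      · rcases (Nat.Prime.dvd_mul hp).mp h with h | h
        · exact Or.inl ((Nat.prime_dvd_prime_iff_eq hp Nat.prime_three).mp h)
        · exact Or.inr ((Nat.prime_dvd_prime_iff_eq hp (by norm_num)).mp h)
    have key : ∀ g : SL2, ∀ hg : (QuotientGroup.mk g : PSL2) ∈ H, g 1 0 ≠ 0 →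
        Cfsg.Lib.Spec.trc g = 0 ∨ Cfsg.Lib.Spec.trc g ^ 2 = 1 ∨
          Cfsg.Lib.Spec.trc g ^ 4 - 3 * Cfsg.Lib.Spec.trc g ^ 2 + 1 = 0 := by
      intro g hg h10
      rcases alternating_five_exponents (f' ⟨_, hg⟩) with h | h | h <;> rw [← map_pow, ← map_one f'] at h <;>
        have h' := congrArg Subtype.val (f'.injective h)
      · exact Or.inl (trace_of_exponent_two h10 h')
      · exact Or.inr (Or.inl (trace_of_exponent_three h10 h'))
      · exact Or.inr (Or.inr (trace_of_exponent_five h10 h'))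
    have h1 := key g₁ hg₁ hb₁
    rw [e₁] at h1
    rcases hp35 with rfl | rfl
    · have h3 : (3 : F) = 0 := by exact_mod_cast CharP.cast_eq_zero F 3
      have hsum : t₂ = 1 - t₁ := by rw [ht₁, ht₂]; linear_combination (1 + lam) * h3
      have h2 := key g₂ hg₂ hb₂
      rw [e₂, hsum] at h2
      by_cases ht : t₁ ^ 3 = t₁
      · left
        refine (hsmall (hprime_field ?_)).1 rfl (Or.inr (Or.inr hc))
        rw [hlt, sub_pow_char, ht]
        linear_combination (-2) * h3
      · right
        have h14 : t₁ ^ 4 = -1 := by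
          rcases h1 with h | h | h
          · exact absurd (by rw [h]; ring) ht
          · exact absurd (by linear_combination t₁ * h) ht
          · linear_combination h + t₁ ^ 2 * h3
        have h24 : (1 - t₁) ^ 4 = -1 := by
          rcases h2 with h | h | h
          · exact absurd (by rw [show t₁ = 1 by linear_combination -h]; ring) ht
          · exfalso
            apply ht
            have h' : (1 - t₁) ^ 3 = 1 - t₁ := by linear_combination (1 - t₁) * h
            rw [sub_pow_char, one_pow] at h'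
            linear_combination -h'
          · linear_combination h + (1 - t₁) ^ 2 * h3
        have hsq : t₁ ^ 2 = t₁ + 1 := by
          have hc' : t₁ * (t₁ ^ 2 + 1) = 1 := by
            linear_combination -h24 + h14 + (2 * t₁ ^ 2 - t₁ ^ 3 - t₁) * h3
          linear_combination t₁ * hc' - h14
        have hlam2 : lam ^ 2 = -1 := by
          have : lam = t₁ ^ 2 := by rw [hlt, hsq]; linear_combination -h3
          rw [this, ← pow_mul]; exact h14
        have h9 : lam ^ 3 ^ 2 = lam := by
          calc lam ^ 3 ^ 2 = (lam ^ 2) ^ 4 * lam := by ring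
            _ = lam := by rw [hlam2]; ring
        have hle := card_le_of_pow_eq 3 2 one_le_two hgen h9
        have hne : Fintype.card F ≠ 3 := fun hq => by
          apply ht
          rw [← hq]
          exact FiniteField.pow_card t₁
        refine ⟨?_, hlam2, hc⟩
        rw [hn] at hle hne ⊢
        rcases (show (n : ℕ) = 1 ∨ (n : ℕ) = 2 ∨ 3 ≤ (n : ℕ) by have := n.pos; omega) with h | h | h
        · rw [h] at hne; simp at hne
        · rw [h]; rfl
        · have := Nat.pow_le_pow_right (show 0 < 3 by norm_num) h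
          omega
    · left
      have h5 : (5 : F) = 0 := by exact_mod_cast CharP.cast_eq_zero F 5
      have ht : t₁ ^ 5 = t₁ := by
        rcases h1 with h | h | h
        · rw [h]; ring
        · linear_combination (t₁ * (t₁ ^ 2 + 1)) * h
        · have hs : t₁ ^ 2 = -1 := by
            have : (t₁ ^ 2 + 1) ^ 2 = 0 := by linear_combination h + t₁ ^ 2 * h5
            linear_combination (pow_eq_zero_iff two_ne_zero).mp this
          linear_combination (t₁ * (t₁ ^ 2 - 1)) * hs
      refine (hsmall (hprime_field ?_)).2 rfl hc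
      rw [hlt, sub_pow_char, ht]
      linear_combination (-6) * h5
  · haveI := hKf
    exact Or.inl (full_of_subfield p hp2 hgen hL hU hLH hUH hle hiso)

/-- Dickson's generation theorem for two transvections. -/
theorem two_transvections (h2 : (2 : F) ≠ 0) (lam : F) (hlam : lam ≠ 0)
    (hgen : Subfield.closure ({lam} : Set F) = ⊤) :
    (Subgroup.closure {g : SL2 | (g : Matrix (Fin 2) (Fin 2) F) = !![1, 0; 1, 1] ∨
        (g : Matrix (Fin 2) (Fin 2) F) = !![1, lam; 0, 1]} = ⊤ ∧ ¬ (Fintype.card F = 9 ∧ lam ^ 2 = -1)) ∨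
      (Fintype.card F = 9 ∧ lam ^ 2 = -1 ∧ Nat.card ↥(Subgroup.closure {g : SL2 |
        (g : Matrix (Fin 2) (Fin 2) F) = !![1, 0; 1, 1] ∨ (g : Matrix (Fin 2) (Fin 2) F) = !![1, lam; 0, 1]}) = 120) := by
  classical
  obtain ⟨p, hpp, hp, n, hn0, hn⟩ := exists_char (F := F)
  haveI := Fact.mk hpp
  have hp2 : p ≠ 2 := fun h => h2 (by subst h; exact_mod_cast CharP.cast_eq_zero F 2)
  set H := Subgroup.closure {g : SL2 | (g : Matrix (Fin 2) (Fin 2) F) = !![1, 0; 1, 1] ∨
    (g : Matrix (Fin 2) (Fin 2) F) = !![1, lam; 0, 1]}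
  let L : SL2 := ⟨!![1, 0; 1, 1], by simp [Matrix.det_fin_two_of]⟩
  let U : SL2 := ⟨!![1, lam; 0, 1], by simp [Matrix.det_fin_two_of]⟩
  have hLH : L ∈ H := Subgroup.subset_closure (Or.inl rfl)
  have hUH : U ∈ H := Subgroup.subset_closure (Or.inr rfl)
  set π := QuotientGroup.mk' (Subgroup.center SL2)
  have himg := two_transvections_image p hp2 hlam hgen (H := H.map π) (L := L) (U := U) rfl rfl
    (Subgroup.mem_map_of_mem π hLH) (Subgroup.mem_map_of_mem π hUH)
  by_cases hex : Fintype.card F = 9 ∧ lam ^ 2 = -1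
  · right
    refine ⟨hex.1, hex.2, ?_⟩
    have hp3 : p = 3 := by
      have h9 : 9 = p ^ n := hex.1 ▸ hn
      exact (Nat.prime_dvd_prime_iff_eq hpp Nat.prime_three).mp
        (hpp.dvd_of_dvd_pow (n := 2) (by rw [show (3 : ℕ) ^ 2 = 9 by rfl, h9]; exact dvd_pow_self p hn0.ne'))
    subst hp3
    have hle : Nat.card H ≤ 120 := TwoTr.card_closure_le lam hex.2
    have hSL := Cfsg.Lib.Linear.Two.card_SL_two (F := F)
    rw [hex.1] at hSL
    have hHne : H ≠ ⊤ := fun h => by rw [h, Subgroup.card_top, hSL] at hle; norm_num at hle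
    rcases himg with htop | ⟨-, -, hc⟩
    · exact absurd (eq_top_of_map_eq_top htop) hHne
    · have hneg : (-1 : SL2) ∈ H := neg_one_mem_of_two_dvd h2 (by rw [hc]; norm_num)
      let φ := π.subgroupMap H
      have hk := Subgroup.card_mul_index φ.ker
      rw [Subgroup.index_ker, MonoidHom.range_eq_top.mpr (π.subgroupMap_surjective H), Subgroup.card_top, hc] at hk
      have hm : (⟨-1, hneg⟩ : H) ∈ φ.ker := by
        apply Subtype.ext
        show π (-1) = 1
        exact (QuotientGroup.eq_one_iff _).mpr (mem_center_of_eq_scalar (c := -1) (by norm_num) (by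
          ext i j; fin_cases i <;> fin_cases j <;> simp))
      have hne : φ.ker ≠ ⊥ := fun h => by
        rw [h, Subgroup.mem_bot] at hm
        have h00 := congrArg (fun z : H => ((z : SL2) : Matrix (Fin 2) (Fin 2) F) 0 0) hm
        simp at h00
        exact h2 (by linear_combination -h00)
      have hz : 2 ≤ Nat.card φ.ker := φ.ker.one_lt_card_iff_ne_bot.mpr hne
      have := Nat.mul_le_mul_right 60 hz
      omega
  · left
    refine ⟨eq_top_of_map_eq_top ?_, hex⟩
    rcases himg with htop | ⟨h9, hl, -⟩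
    · exact htop
    · exact absurd ⟨h9, hl⟩ hex

end Cfsg.Lib.Dickson
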